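import Mathlib

/-!
Groups with a bounded number of defining relations: gluing, quotient by one element and passing
to a prescribed pair of generators.
-/

set_option autoImplicit false

namespace CfsgLib.Presentations

universe u v w

/-- `T` is generated by a family satisfying at most `m` relations, which define it. -/
def Bounded (T : Type u) [Group T] (m : ℕ) : Prop :=
  ∃ (κ : Type) (g : κ → T) (L : List (FreeGroup κ)), L.length ≤ m ∧
    (∀ r ∈ L, FreeGroup.lift g r = 1) ∧ Subgroup.closure (Set.range g) = ⊤ ∧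
    ∀ (Γ : Type) [Group Γ] (f : κ → Γ), (∀ r ∈ L, FreeGroup.lift f r = 1) →
      ∃ ψ : T →* Γ, ∀ i, ψ (g i) = f i

/-- `T` is generated by a family indexed by `κ` satisfying at most `m` relations, which define it. -/
def BoundedOn (T : Type u) [Group T] (κ : Type) (m : ℕ) : Prop :=
  ∃ (g : κ → T) (L : List (FreeGroup κ)), L.length ≤ m ∧
    (∀ r ∈ L, FreeGroup.lift g r = 1) ∧ Subgroup.closure (Set.range g) = ⊤ ∧
    ∀ (Γ : Type) [Group Γ] (f : κ → Γ), (∀ r ∈ L, FreeGroup.lift f r = 1) →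
      ∃ ψ : T →* Γ, ∀ i, ψ (g i) = f i

theorem bounded_iff {T : Type u} [Group T] {m : ℕ} : Bounded T m ↔ ∃ κ, BoundedOn T κ m := Iff.rfl

variable {T : Type u} [Group T]

theorem BoundedOn.mono {κ : Type} {m n : ℕ} (h : BoundedOn T κ m) (hmn : m ≤ n) :
    BoundedOn T κ n := by
  obtain ⟨g, L, hL, h1, h2, h3⟩ := h
  exact ⟨g, L, hL.trans hmn, h1, h2, h3⟩

theorem Bounded.mono {m n : ℕ} (h : Bounded T m) (hmn : m ≤ n) : Bounded T n := by
  obtain ⟨κ, g, L, hL, h1, h2, h3⟩ := h
  exact ⟨κ, g, L, hL.trans hmn, h1, h2, h3⟩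

/-- A free choice of word for each element. -/
theorem exists_words {κ : Type} (g : κ → T) (hg : Subgroup.closure (Set.range g) = ⊤) :
    ∃ W : T → FreeGroup κ, ∀ t, FreeGroup.lift g (W t) = t := by
  have h : ∀ t : T, ∃ w, FreeGroup.lift g w = t := fun t => by
    have ht : t ∈ (FreeGroup.lift g).range := by
      rw [FreeGroup.range_lift_eq_closure, hg]; trivial
    exact ht
  exact ⟨fun t => (h t).choose, fun t => (h t).choose_spec⟩

theorem lift_natural {κ : Type*} {A : Type*} {B : Type*} [Group A] [Group B] (ψ : A →* B)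
    (g : κ → A) (w : FreeGroup κ) : ψ (FreeGroup.lift g w) = FreeGroup.lift (ψ ∘ g) w := by
  rw [← MonoidHom.comp_apply]
  exact DFunLike.congr_fun (FreeGroup.ext_hom (ψ.comp (FreeGroup.lift g)) (FreeGroup.lift (ψ ∘ g))
    fun i => by simp) w

theorem BoundedOn.of_presented {κ : Type} {rels : Finset (FreeGroup κ)} {m : ℕ}
    (hm : rels.card ≤ m) (e : PresentedGroup (↑rels : Set (FreeGroup κ)) ≃* T) :
    BoundedOn T κ m := by
  refine ⟨fun i => e (PresentedGroup.of i), rels.toList, by simpa using hm, ?_, ?_, ?_⟩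
  · intro r hr
    rw [Finset.mem_toList] at hr
    have := lift_natural e.toMonoidHom (PresentedGroup.of (rels := (↑rels : Set (FreeGroup κ)))) r
    have e1 : FreeGroup.lift (PresentedGroup.of (rels := (↑rels : Set (FreeGroup κ)))) r = 1 := by
      rw [show (FreeGroup.lift (PresentedGroup.of (rels := (↑rels : Set (FreeGroup κ)))))
        = PresentedGroup.mk _ from FreeGroup.ext_hom _ _ fun i => by simp; rfl]
      exact PresentedGroup.one_of_mem hr
    rw [e1, map_one] at this
    exact this.symm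
  · have := congrArg (Subgroup.map e.toMonoidHom) (PresentedGroup.closure_range_of (↑rels : Set (FreeGroup κ)))
    rw [MonoidHom.map_closure, ← Set.range_comp, Subgroup.map_top_of_surjective _ e.surjective] at this
    exact this
  · intro Γ _ f hf
    refine ⟨(PresentedGroup.toGroup (f := f) fun r hr => hf r (Finset.mem_toList.2 hr)).comp
      e.symm.toMonoidHom, fun i => ?_⟩
    simp

theorem BoundedOn.map {T' : Type v} [Group T'] {κ : Type} {m : ℕ} (h : BoundedOn T κ m)
    (e : T ≃* T') : BoundedOn T' κ m := by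
  obtain ⟨g, L, hL, h1, h2, h3⟩ := h
  refine ⟨e ∘ g, L, hL, fun r hr => ?_, ?_, fun Γ _ f hf => ?_⟩
  · have := lift_natural e.toMonoidHom g r
    rw [h1 r hr, map_one] at this
    exact this.symm
  · have := congrArg (Subgroup.map e.toMonoidHom) h2
    rwa [MonoidHom.map_closure, ← Set.range_comp, Subgroup.map_top_of_surjective _ e.surjective]
      at this
  · obtain ⟨ψ, hψ⟩ := h3 Γ f hf
    exact ⟨ψ.comp e.symm.toMonoidHom, fun i => by simp [hψ]⟩

theorem Bounded.of_presented {κ : Type} {rels : Finset (FreeGroup κ)} {m : ℕ}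
    (hm : rels.card ≤ m) (e : PresentedGroup (↑rels : Set (FreeGroup κ)) ≃* T) : Bounded T m :=
  bounded_iff.2 ⟨κ, BoundedOn.of_presented hm e⟩

theorem Bounded.map {T' : Type v} [Group T'] {m : ℕ} (h : Bounded T m) (e : T ≃* T') :
    Bounded T' m :=
  let ⟨κ, hκ⟩ := bounded_iff.1 h
  bounded_iff.2 ⟨κ, hκ.map e⟩

/-- The infinite cyclic group has no relations. -/
theorem boundedOn_int : BoundedOn (Multiplicative ℤ) Unit 0 := by
  refine ⟨fun _ => Multiplicative.ofAdd 1, [], le_rfl, by simp, ?_, fun Γ _ f _ => ?_⟩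
  · rw [Set.range_const, eq_top_iff]
    intro x _
    rw [Subgroup.mem_closure_singleton]
    exact ⟨x.toAdd, by rw [← ofAdd_zsmul, smul_eq_mul, mul_one]; rfl⟩
  · exact ⟨zpowersHom Γ (f ()), fun i => by simp⟩

theorem bounded_int : Bounded (Multiplicative ℤ) 0 := bounded_iff.2 ⟨Unit, boundedOn_int⟩

/-- Gluing: two presented groups mapping into `T` and finitely many extra equations. -/
theorem BoundedOn.glue {κA κB : Type} {A : Type v} {B : Type w} [Group A] [Group B] (f : A →* T) (g : B →* T)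
    {a b : ℕ} (hA : BoundedOn A κA a) (hB : BoundedOn B κB b) (hgen : f.range ⊔ g.range = ⊤)
    (E : List (FreeGroup (A ⊕ B))) (hE : ∀ e ∈ E, FreeGroup.lift (Sum.elim f g) e = 1)
    (hforce : ∀ (Γ : Type) [Group Γ] (α : A →* Γ) (β : B →* Γ),
      (∀ e ∈ E, FreeGroup.lift (Sum.elim α β) e = 1) →
        ∃ Ψ : T →* Γ, Ψ.comp f = α ∧ Ψ.comp g = β) :
    BoundedOn T (κA ⊕ κB) (a + b + E.length) := by
  obtain ⟨gA, LA, hLA, tA, cA, uA⟩ := hA
  obtain ⟨gB, LB, hLB, tB, cB, uB⟩ := hB
  obtain ⟨WA, hWA⟩ := exists_words gA cA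
  obtain ⟨WB, hWB⟩ := exists_words gB cB
  let gen : κA ⊕ κB → T := Sum.elim (f ∘ gA) (g ∘ gB)
  let tr : FreeGroup (A ⊕ B) →* FreeGroup (κA ⊕ κB) :=
    FreeGroup.lift (Sum.elim (fun x => FreeGroup.map Sum.inl (WA x))
      (fun x => FreeGroup.map Sum.inr (WB x)))
  have hl : ∀ {Γ : Type u} [Group Γ] (h : κA ⊕ κB → Γ) (w : FreeGroup κA),
      FreeGroup.lift h (FreeGroup.map Sum.inl w) = FreeGroup.lift (h ∘ Sum.inl) w := by
    intro Γ _ h w
    exact DFunLike.congr_fun (FreeGroup.ext_hom ((FreeGroup.lift h).comp (FreeGroup.map Sum.inl))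
      (FreeGroup.lift (h ∘ Sum.inl)) fun i => by simp) w
  have hr : ∀ {Γ : Type u} [Group Γ] (h : κA ⊕ κB → Γ) (w : FreeGroup κB),
      FreeGroup.lift h (FreeGroup.map Sum.inr w) = FreeGroup.lift (h ∘ Sum.inr) w := by
    intro Γ _ h w
    exact DFunLike.congr_fun (FreeGroup.ext_hom ((FreeGroup.lift h).comp (FreeGroup.map Sum.inr))
      (FreeGroup.lift (h ∘ Sum.inr)) fun i => by simp) w
  have hl' : ∀ {Γ : Type} [Group Γ] (h : κA ⊕ κB → Γ) (w : FreeGroup κA),
      FreeGroup.lift h (FreeGroup.map Sum.inl w) = FreeGroup.lift (h ∘ Sum.inl) w := by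
    intro Γ _ h w
    exact DFunLike.congr_fun (FreeGroup.ext_hom ((FreeGroup.lift h).comp (FreeGroup.map Sum.inl))
      (FreeGroup.lift (h ∘ Sum.inl)) fun i => by simp) w
  have hr' : ∀ {Γ : Type} [Group Γ] (h : κA ⊕ κB → Γ) (w : FreeGroup κB),
      FreeGroup.lift h (FreeGroup.map Sum.inr w) = FreeGroup.lift (h ∘ Sum.inr) w := by
    intro Γ _ h w
    exact DFunLike.congr_fun (FreeGroup.ext_hom ((FreeGroup.lift h).comp (FreeGroup.map Sum.inr))
      (FreeGroup.lift (h ∘ Sum.inr)) fun i => by simp) w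
  refine ⟨gen, LA.map (FreeGroup.map Sum.inl) ++ LB.map (FreeGroup.map Sum.inr)
    ++ E.map tr, ?_, ?_, ?_, ?_⟩
  · simp only [List.length_append, List.length_map]; omega
  · intro r hr0
    simp only [List.mem_append, List.mem_map] at hr0
    rcases hr0 with (⟨s, hs, rfl⟩ | ⟨s, hs, rfl⟩) | ⟨s, hs, rfl⟩
    · rw [hl, show gen ∘ Sum.inl = f ∘ gA from rfl, ← lift_natural, tA s hs, map_one]
    · rw [hr, show gen ∘ Sum.inr = g ∘ gB from rfl, ← lift_natural, tB s hs, map_one]
    · refine Eq.trans ?_ (hE s hs)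
      exact DFunLike.congr_fun (FreeGroup.ext_hom ((FreeGroup.lift gen).comp tr)
        (FreeGroup.lift (Sum.elim f g)) fun i => by
          rcases i with x | x
          · simp only [MonoidHom.comp_apply, tr, FreeGroup.lift_apply_of, Sum.elim_inl]
            rw [hl, show gen ∘ Sum.inl = f ∘ gA from rfl, ← lift_natural, hWA]
          · simp only [MonoidHom.comp_apply, tr, FreeGroup.lift_apply_of, Sum.elim_inr]
            rw [hr, show gen ∘ Sum.inr = g ∘ gB from rfl, ← lift_natural, hWB]) s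
  · rw [← top_le_iff, ← hgen, sup_le_iff, MonoidHom.range_eq_map, MonoidHom.range_eq_map, ← cA,
      ← cB, MonoidHom.map_closure, MonoidHom.map_closure, ← Set.range_comp, ← Set.range_comp]
    constructor <;> refine Subgroup.closure_mono ?_ <;> rintro _ ⟨i, rfl⟩
    · exact ⟨Sum.inl i, rfl⟩
    · exact ⟨Sum.inr i, rfl⟩
  · intro Γ _ h hh
    simp only [List.mem_append, List.mem_map] at hh
    obtain ⟨α, hα⟩ := uA Γ (h ∘ Sum.inl) fun s hs => by
      rw [← hl']; exact hh _ (Or.inl (Or.inl ⟨s, hs, rfl⟩))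
    obtain ⟨β, hβ⟩ := uB Γ (h ∘ Sum.inr) fun s hs => by
      rw [← hr']; exact hh _ (Or.inl (Or.inr ⟨s, hs, rfl⟩))
    obtain ⟨Ψ, hΨA, hΨB⟩ := hforce Γ α β fun e he => by
      refine Eq.trans ?_ (hh _ (Or.inr ⟨e, he, rfl⟩))
      exact DFunLike.congr_fun (FreeGroup.ext_hom (FreeGroup.lift (Sum.elim α β))
        ((FreeGroup.lift h).comp tr) fun i => by
          rcases i with x | x
          · simp only [MonoidHom.comp_apply, tr, FreeGroup.lift_apply_of, Sum.elim_inl]
            rw [hl', show h ∘ Sum.inl = α ∘ gA from funext fun i => (hα i).symm, ← lift_natural,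
              hWA]
          · simp only [MonoidHom.comp_apply, tr, FreeGroup.lift_apply_of, Sum.elim_inr]
            rw [hr', show h ∘ Sum.inr = β ∘ gB from funext fun i => (hβ i).symm, ← lift_natural,
              hWB]) e
    refine ⟨Ψ, ?_⟩
    rintro (i | i)
    · exact (DFunLike.congr_fun hΨA (gA i)).trans (hα i)
    · exact (DFunLike.congr_fun hΨB (gB i)).trans (hβ i)

theorem Bounded.glue {A : Type v} {B : Type w} [Group A] [Group B] (f : A →* T) (g : B →* T)
    {a b : ℕ} (hA : Bounded A a) (hB : Bounded B b) (hgen : f.range ⊔ g.range = ⊤)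
    (E : List (FreeGroup (A ⊕ B))) (hE : ∀ e ∈ E, FreeGroup.lift (Sum.elim f g) e = 1)
    (hforce : ∀ (Γ : Type) [Group Γ] (α : A →* Γ) (β : B →* Γ),
      (∀ e ∈ E, FreeGroup.lift (Sum.elim α β) e = 1) →
        ∃ Ψ : T →* Γ, Ψ.comp f = α ∧ Ψ.comp g = β) :
    Bounded T (a + b + E.length) :=
  let ⟨κA, hA'⟩ := bounded_iff.1 hA
  let ⟨κB, hB'⟩ := bounded_iff.1 hB
  bounded_iff.2 ⟨κA ⊕ κB, hA'.glue f g hB' hgen E hE hforce⟩

/-- The quotient by the normal closure of one element. -/
theorem BoundedOn.quotient {κ : Type} {Q : Type v} [Group Q] (f : T →* Q) (hf : Function.Surjective f) (z : T)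
    (hker : f.ker = Subgroup.normalClosure {z}) {m : ℕ} (h : BoundedOn T κ m) :
    BoundedOn Q κ (m + 1) := by
  obtain ⟨g, L, hL, h1, h2, h3⟩ := h
  obtain ⟨W, hW⟩ := exists_words g h2
  have hz : f z = 1 := by
    rw [← MonoidHom.mem_ker, hker]; exact Subgroup.subset_normalClosure rfl
  refine ⟨f ∘ g, L ++ [W z], by simp only [List.length_append, List.length_singleton]; omega,
    fun r hr => ?_, ?_, fun Γ _ φ hφ => ?_⟩
  · rw [← lift_natural]
    rcases List.mem_append.1 hr with hr | hr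
    · rw [h1 r hr, map_one]
    · rw [List.mem_singleton.1 hr, hW, hz]
  · rw [Set.range_comp, ← MonoidHom.map_closure, h2, Subgroup.map_top_of_surjective _ hf]
  · obtain ⟨ψ, hψ⟩ := h3 Γ φ fun r hr => hφ r (List.mem_append.2 (Or.inl hr))
    have hψz : ψ z = 1 := by
      rw [← hW z, lift_natural, show ψ ∘ g = φ from funext hψ]
      exact hφ _ (List.mem_append.2 (Or.inr (List.mem_singleton.2 rfl)))
    have hle : f.ker ≤ ψ.ker := by
      rw [hker]; exact Subgroup.normalClosure_le_normal (by simpa using hψz)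
    refine ⟨f.liftOfSurjective hf ⟨ψ, hle⟩, fun i => ?_⟩
    rw [Function.comp_apply, MonoidHom.liftOfRightInverse_comp_apply]
    exact hψ i

theorem Bounded.quotient {Q : Type v} [Group Q] (f : T →* Q) (hf : Function.Surjective f) (z : T)
    (hker : f.ker = Subgroup.normalClosure {z}) {m : ℕ} (h : Bounded T m) : Bounded Q (m + 1) :=
  let ⟨κ, hκ⟩ := bounded_iff.1 h
  bounded_iff.2 ⟨κ, hκ.quotient f hf z hker⟩

/-- Two prescribed generators cost two relations. -/
theorem Bounded.two_generators {m : ℕ} (h : Bounded T m) (a b : T)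
    (hab : Subgroup.closure ({a, b} : Set T) = ⊤) :
    ∃ rels : Finset (FreeGroup (Fin 2)), rels.card ≤ m + 2 ∧
      Nonempty (PresentedGroup (↑rels : Set (FreeGroup (Fin 2))) ≃* T) := by
  classical
  obtain ⟨κ, g, L, hL, h1, h2, h3⟩ := h
  obtain ⟨W, hW⟩ := exists_words g h2
  have hrange : Set.range (![a, b] : Fin 2 → T) = {a, b} := by
    simp [Set.pair_comm]
  obtain ⟨V, hV⟩ := exists_words (![a, b] : Fin 2 → T) (by rw [hrange]; exact hab)
  -- old generators as words in the new ones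
  let tr : FreeGroup κ →* FreeGroup (Fin 2) := FreeGroup.lift fun i => V (g i)
  have htr : ∀ w, FreeGroup.lift ![a, b] (tr w) = FreeGroup.lift g w := fun w =>
    DFunLike.congr_fun (FreeGroup.ext_hom ((FreeGroup.lift ![a, b]).comp tr) (FreeGroup.lift g)
      fun i => by simp [tr, hV]) w
  set L2 : List (FreeGroup (Fin 2)) := L.map tr ++
    [(FreeGroup.of 0)⁻¹ * tr (W a), (FreeGroup.of 1)⁻¹ * tr (W b)] with hL2
  refine ⟨L2.toFinset, (List.toFinset_card_le L2).trans
    (by simp only [hL2, List.length_append, List.length_map, List.length_cons, List.length_nil]; omega), ?_⟩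
  set R : Set (FreeGroup (Fin 2)) := ↑L2.toFinset with hR
  have htrue : ∀ r ∈ R, FreeGroup.lift ![a, b] r = 1 := by
    intro r hr
    rw [hR, Finset.mem_coe, List.mem_toFinset, hL2, List.mem_append] at hr
    rcases hr with hr | hr
    · obtain ⟨s, hs, rfl⟩ := List.mem_map.1 hr
      rw [htr, h1 s hs]
    · simp only [List.mem_cons, List.not_mem_nil, or_false] at hr
      rcases hr with rfl | rfl <;> simp [htr, hW]
  let φ : PresentedGroup R →* T := PresentedGroup.toGroup htrue
  let P : Fin 2 → PresentedGroup R := PresentedGroup.of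
  have hmk : FreeGroup.lift P = PresentedGroup.mk R :=
    FreeGroup.ext_hom _ _ fun i => by simp only [FreeGroup.lift_apply_of]; rfl
  have hmem : ∀ r ∈ L2, FreeGroup.lift P r = 1 := fun r hr => by
    rw [hmk]; exact PresentedGroup.one_of_mem (List.mem_toFinset.2 hr)
  obtain ⟨ψ, hψ⟩ := h3 (PresentedGroup R) (fun i => FreeGroup.lift P (V (g i))) fun r hr => by
    have := hmem (tr r) (by rw [hL2]; exact List.mem_append.2 (Or.inl (List.mem_map.2 ⟨r, hr, rfl⟩)))
    refine Eq.trans ?_ this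
    exact DFunLike.congr_fun (FreeGroup.ext_hom (FreeGroup.lift fun i => FreeGroup.lift P (V (g i)))
      ((FreeGroup.lift P).comp tr) fun i => by simp [tr]) r
  have hψW : ∀ t, ψ t = FreeGroup.lift P (tr (W t)) := fun t => by
    conv_lhs => rw [← hW t, lift_natural]
    exact DFunLike.congr_fun (FreeGroup.ext_hom (FreeGroup.lift (ψ ∘ g))
      ((FreeGroup.lift P).comp tr) fun i => by simp [tr, hψ]) (W t)
  have hφP : ∀ w, φ (FreeGroup.lift P w) = FreeGroup.lift ![a, b] w := fun w =>
    DFunLike.congr_fun (FreeGroup.ext_hom (φ.comp (FreeGroup.lift P)) (FreeGroup.lift ![a, b])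
      fun i => by simp [φ, P]) w
  have e1 : ψ.comp φ = MonoidHom.id _ := by
    refine PresentedGroup.ext fun i => ?_
    simp only [MonoidHom.comp_apply, MonoidHom.id_apply, φ, PresentedGroup.toGroup.of, hψW]
    fin_cases i
    · have := hmem ((FreeGroup.of 0)⁻¹ * tr (W a)) (by simp [hL2])
      rw [map_mul, map_inv, inv_mul_eq_one, FreeGroup.lift_apply_of] at this
      exact this.symm
    · have := hmem ((FreeGroup.of 1)⁻¹ * tr (W b)) (by simp [hL2])
      rw [map_mul, map_inv, inv_mul_eq_one, FreeGroup.lift_apply_of] at this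
      exact this.symm
  have e2 : φ.comp ψ = MonoidHom.id _ := by
    refine MonoidHom.eq_of_eqOn_dense h2 ?_
    rintro _ ⟨i, rfl⟩
    simp [hψ, hφP, hV]
  exact ⟨MonoidHom.toMulEquiv φ ψ e1 e2⟩

end CfsgLib.Presentations
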