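import Mathlib
import Cfsg.Agent.Lib.Presentations.Bounded

/-!
Carmichael's presentation of alternating groups: the three-cycles through two fixed points.
-/

set_option autoImplicit false

namespace CfsgLib.Presentations.Carmichael

open Equiv Equiv.Perm

/-- Carmichael's relations. -/
structure CRels {ι : Type*} {Γ : Type*} [Group Γ] (y : ι → Γ) : Prop where
  cube : ∀ i, y i ^ 3 = 1
  pair : ∀ i j, i ≠ j → (y i * y j) ^ 2 = 1

section Bound

variable {Γ : Type*} [Group Γ]

theorem rel_swap {a b : Γ} (ha : a ^ 3 = 1) (hb : b ^ 3 = 1) (h : (a * b) ^ 2 = 1) :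
    a * b = b ^ 2 * a ^ 2 := by
  have e1 : a ^ 2 = a⁻¹ := eq_inv_of_mul_eq_one_left (by rw [← pow_succ]; exact ha)
  have e2 : b ^ 2 = b⁻¹ := eq_inv_of_mul_eq_one_left (by rw [← pow_succ]; exact hb)
  rw [sq] at h
  rw [e1, e2, ← mul_inv_rev]
  exact eq_inv_of_mul_eq_one_left h

theorem pair_comm' {a b : Γ} (h : (a * b) ^ 2 = 1) : (b * a) ^ 2 = 1 := by
  rw [show b * a = a⁻¹ * (a * b) * a⁻¹⁻¹ by group, conj_pow, h]
  group

/-- Representatives of the cosets. -/
def rep {m : ℕ} (y : Fin (m + 1) → Γ) : Fin (m + 3) → Γ :=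
  Fin.cons 1 (Fin.cons (y (Fin.last m)) (Fin.cons (y (Fin.last m) ^ 2)
    fun j : Fin m => y j.castSucc * y (Fin.last m) ^ 2))

theorem closure_bound : ∀ (m : ℕ) (y : Fin m → Γ), CRels y →
    (Subgroup.closure (Set.range y) : Set Γ).Finite ∧
      2 * Nat.card (Subgroup.closure (Set.range y)) ≤ (m + 2).factorial
  | 0, y, _ => by
    have : Subgroup.closure (Set.range y) = ⊥ := by simp
    rw [this]
    exact ⟨by simp, by simp⟩
  | m + 1, y, h => by
    classical
    set H := Subgroup.closure (Set.range fun j : Fin m => y j.castSucc) with hH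
    obtain ⟨hfin, hcard⟩ := closure_bound m (fun j => y j.castSucc)
      ⟨fun i => h.cube _, fun i j hij => h.pair _ _ fun e => hij (Fin.castSucc_inj.1 e)⟩
    rw [← hH] at hfin hcard
    set z := y (Fin.last m) with hz
    let S : Set Γ := Set.image2 (fun i g => rep y i * g) Set.univ (H : Set Γ)
    have mem : ∀ (i : Fin (m + 3)) (g : Γ), g ∈ H → rep y i * g ∈ S := fun i g hg =>
      ⟨i, trivial, g, hg, rfl⟩
    have h0 : ∀ g ∈ H, g ∈ S := fun g hg => by simpa [rep] using mem 0 g hg
    have h1 : ∀ g ∈ H, z * g ∈ S := fun g hg => mem (Fin.succ 0) g hg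
    have h2 : ∀ g ∈ H, z ^ 2 * g ∈ S := fun g hg => mem (Fin.succ (Fin.succ 0)) g hg
    have h3 : ∀ (j : Fin m) g, g ∈ H → y j.castSucc * z ^ 2 * g ∈ S := fun j g hg => by
      simpa [rep, hz] using mem (Fin.succ (Fin.succ (Fin.succ j))) g hg
    have hz3 : z ^ 3 = 1 := h.cube _
    have hz4 : z ^ 2 * z ^ 2 = z := by
      rw [← pow_add, show 2 + 2 = 3 + 1 from rfl, pow_succ, hz3, one_mul]
    have hyz : ∀ j : Fin m, y j.castSucc * z = z ^ 2 * y j.castSucc ^ 2 := fun j =>
      rel_swap (h.cube _) hz3 (h.pair _ _ (Fin.castSucc_lt_last j).ne)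
    have hzy : ∀ j : Fin m, z * y j.castSucc = y j.castSucc ^ 2 * z ^ 2 := fun j =>
      rel_swap hz3 (h.cube _) (h.pair _ _ (Fin.castSucc_lt_last j).ne')
    have hjH : ∀ j : Fin m, y j.castSucc ∈ H := fun j => Subgroup.subset_closure ⟨j, rfl⟩
    have hy4 : ∀ j : Fin m, y j.castSucc ^ 2 * z = y j.castSucc * z ^ 2 * y j.castSucc ^ 2 :=
      fun j => by rw [pow_two (y j.castSucc), mul_assoc, hyz, pow_two (y j.castSucc), ← mul_assoc]
    have hclosed : ∀ k, ∀ s ∈ S, y k * s ∈ S := by
      rintro k _ ⟨i, -, g, hg, rfl⟩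
      simp only [← mul_assoc]
      refine Fin.lastCases ?_ (fun a => ?_) k
      · rw [← hz]
        refine Fin.cases ?_ (fun i => Fin.cases ?_ (fun i => Fin.cases ?_ (fun j => ?_) i) i) i
        · simpa [rep, hz] using h1 g hg
        · simpa [rep, hz, ← pow_two] using h2 g hg
        · have : z * z ^ 2 = 1 := by rw [← pow_succ', hz3]
          simpa only [rep, Fin.cons_succ, Fin.cons_zero, ← hz, this, one_mul] using h0 g hg
        · simp only [rep, Fin.cons_succ, ← hz]
          rw [← mul_assoc, hzy, mul_assoc (y j.castSucc ^ 2), hz4, hy4, mul_assoc]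
          exact h3 j _ (mul_mem (pow_mem (hjH j) 2) hg)
      · refine Fin.cases ?_ (fun i => Fin.cases ?_ (fun i => Fin.cases ?_ (fun j => ?_) i) i) i
        · simpa [rep] using h0 _ (mul_mem (hjH a) hg)
        · simp only [rep, Fin.cons_succ, Fin.cons_zero, ← hz]
          rw [hyz, mul_assoc]
          exact h2 _ (mul_mem (pow_mem (hjH a) 2) hg)
        · simp only [rep, Fin.cons_succ, Fin.cons_zero, ← hz]
          exact h3 a g hg
        · simp only [rep, Fin.cons_succ, ← hz]
          rw [← mul_assoc]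
          by_cases e : a = j
          · subst e
            rw [← pow_two, ← hzy, mul_assoc]
            exact h1 _ (mul_mem (hjH a) hg)
          · have hq : y a.castSucc * y j.castSucc = y j.castSucc ^ 2 * y a.castSucc ^ 2 :=
              rel_swap (h.cube _) (h.cube _)
                (h.pair _ _ fun e' => e (Fin.castSucc_inj.1 e'))
            have e2 : y a.castSucc ^ 2 * z ^ 2 = z * y a.castSucc := (hzy a).symm
            rw [hq, mul_assoc (y j.castSucc ^ 2), e2, ← mul_assoc, hy4, mul_assoc,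
              mul_assoc _ (y j.castSucc ^ 2)]
            exact h3 j _ (mul_mem (pow_mem (hjH j) 2) (mul_mem (hjH a) hg))
    have hinv : ∀ k, (y k)⁻¹ = y k * y k := fun k =>
      inv_eq_of_mul_eq_one_right (by rw [← pow_two, ← pow_succ']; exact h.cube k)
    have hsub : (Subgroup.closure (Set.range y) : Set Γ) ⊆ S := by
      intro x hx
      induction hx using Subgroup.closure_induction_left with
      | one => exact h0 1 (one_mem H)
      | mul_left a ha b _ ih =>
        obtain ⟨k, rfl⟩ := ha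
        exact hclosed k b ih
      | inv_mul_cancel a ha b _ ih =>
        obtain ⟨k, rfl⟩ := ha
        rw [hinv, mul_assoc]
        exact hclosed k _ (hclosed k b ih)
    have hSfin : S.Finite := Set.Finite.image2 _ Set.finite_univ hfin
    refine ⟨hSfin.subset hsub, ?_⟩
    have hS : S.ncard ≤ (m + 3) * Nat.card H := by
      calc S.ncard ≤ ((Set.univ : Set (Fin (m + 3))) ×ˢ (H : Set Γ)).ncard := by
            rw [show S = (fun p : Fin (m + 3) × Γ => rep y p.1 * p.2) '' (Set.univ ×ˢ (H : Set Γ))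
              from Set.image_prod _ |>.symm]
            exact Set.ncard_image_le (Set.finite_univ.prod hfin)
        _ = (m + 3) * Nat.card H := by
            rw [Set.ncard_prod, Set.ncard_univ, Nat.card_eq_fintype_card, Fintype.card_fin,
              ← Nat.card_coe_set_eq]
            rfl
    have hle : Nat.card (Subgroup.closure (Set.range y)) ≤ S.ncard := by
      rw [← SetLike.coe_sort_coe, Nat.card_coe_set_eq]
      exact Set.ncard_le_ncard hsub hSfin
    rw [show m + 1 + 2 = m + 2 + 1 from rfl, Nat.factorial_succ]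
    calc 2 * Nat.card (Subgroup.closure (Set.range y)) ≤ 2 * ((m + 3) * Nat.card H) :=
          Nat.mul_le_mul_left _ (hle.trans hS)
      _ = (m + 3) * (2 * Nat.card H) := by ring
      _ ≤ _ := Nat.mul_le_mul_left _ hcard

end Bound

section Universal

variable {Ω : Type*} [Fintype Ω] [DecidableEq Ω] {c₁ c₂ : Ω}

/-- The index type. -/
abbrev Idx (c₁ c₂ : Ω) : Type _ := {i : Ω // i ≠ c₁ ∧ i ≠ c₂}

/-- The three-cycle through the two fixed points and `i`. -/
def cyc (c₁ c₂ : Ω) (i : Ω) : Perm Ω := swap c₁ i * swap c₁ c₂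

theorem cyc_apply (hc : c₁ ≠ c₂) {i : Ω} (hi : i ≠ c₁ ∧ i ≠ c₂) :
    cyc c₁ c₂ i c₁ = c₂ ∧ cyc c₁ c₂ i c₂ = i ∧ cyc c₁ c₂ i i = c₁ ∧
      ∀ x, x ≠ c₁ → x ≠ c₂ → x ≠ i → cyc c₁ c₂ i x = x := by
  refine ⟨?_, ?_, ?_, fun x h1 h2 h3 => ?_⟩ <;>
    simp [cyc, swap_apply_def, hc.symm, hi.1, hi.2, hi.1.symm, hi.2.symm, *]

theorem conj_cyc (σ : Perm Ω) (i : Ω) :
    σ * cyc c₁ c₂ i * σ⁻¹ = cyc (σ c₁) (σ c₂) (σ i) := by
  simp only [cyc, swap_apply_apply]
  group

/-- The three-cycle as an element of the alternating group. -/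
def gen (hc : c₁ ≠ c₂) (i : Idx c₁ c₂) : alternatingGroup Ω :=
  ⟨cyc c₁ c₂ i.1, by
    rw [Equiv.Perm.mem_alternatingGroup, cyc, map_mul, sign_swap i.2.1.symm, sign_swap hc]; rfl⟩

@[simp] theorem gen_val (hc : c₁ ≠ c₂) (i : Idx c₁ c₂) :
    ((gen hc i : alternatingGroup Ω) : Perm Ω) = cyc c₁ c₂ i.1 := rfl

theorem gen_closure (hc : c₁ ≠ c₂) :
    Subgroup.closure (Set.range (gen hc : Idx c₁ c₂ → alternatingGroup Ω)) = ⊤ := by
  set S : Subgroup (Perm Ω) := Subgroup.closure (Set.range fun i : Idx c₁ c₂ => cyc c₁ c₂ i.1)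
    with hS
  set τ : Perm Ω := swap c₁ c₂ with hτ
  have hττ : ∀ x, τ * (τ * x) = x := fun x => by rw [← mul_assoc, hτ, swap_mul_self, one_mul]
  have hττ' : τ * τ = 1 := swap_mul_self _ _
  have hnorm : ∀ x ∈ S, τ * x * τ ∈ S := by
    intro x hx
    induction hx using Subgroup.closure_induction with
    | mem x hx =>
      obtain ⟨i, rfl⟩ := hx
      have : τ * cyc c₁ c₂ i.1 * τ = (cyc c₁ c₂ i.1)⁻¹ := by
        simp only [cyc, hτ, mul_inv_rev, swap_inv, mul_assoc, swap_mul_self, mul_one]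
      rw [this]
      exact inv_mem (Subgroup.subset_closure ⟨i, rfl⟩)
    | one => rw [mul_one, hττ']; exact one_mem S
    | mul x y _ _ ihx ihy =>
      have := mul_mem ihx ihy
      rwa [show τ * x * τ * (τ * y * τ) = τ * (x * (τ * (τ * (y * τ)))) by simp only [mul_assoc],
        hττ, show τ * (x * (y * τ)) = τ * (x * y) * τ by simp only [mul_assoc]] at this
    | inv x _ ihx =>
      have := inv_mem ihx
      rwa [mul_inv_rev, mul_inv_rev, hτ, swap_inv, ← hτ, ← mul_assoc] at this
  have hQ : ∀ i : Ω, ∀ f : Perm Ω, f ∈ S ∨ f * τ ∈ S →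
      swap c₁ i * f ∈ S ∨ swap c₁ i * f * τ ∈ S := by
    intro i f hf
    have hiτ : swap c₁ i * τ ∈ S ∨ i = c₁ := by
      by_cases h1 : i = c₁
      · exact Or.inr h1
      by_cases h2 : i = c₂
      · subst h2
        rw [← hτ, hττ']
        exact Or.inl (one_mem S)
      · exact Or.inl (Subgroup.subset_closure ⟨⟨i, h1, h2⟩, rfl⟩)
    rcases hiτ with hi | rfl
    · rcases hf with hf | hf
      · refine Or.inr ?_
        have := mul_mem hi (hnorm f hf)
        rwa [show swap c₁ i * τ * (τ * f * τ) = swap c₁ i * (τ * (τ * (f * τ))) by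
          simp only [mul_assoc], hττ, ← mul_assoc] at this
      · refine Or.inl ?_
        have := mul_mem hi (hnorm _ hf)
        rwa [show swap c₁ i * τ * (τ * (f * τ) * τ) = swap c₁ i * (τ * (τ * (f * (τ * τ)))) by
          simp only [mul_assoc], hττ, hττ', mul_one] at this
    · rw [swap_self, ← Perm.one_def, one_mul]; exact hf
  have hall : ∀ σ : Perm Ω, σ ∈ S ∨ σ * τ ∈ S := by
    intro σ
    induction σ using swap_induction_on with
    | one => exact Or.inl (one_mem S)
    | swap_mul f x y hxy ih =>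
      by_cases h1 : x = c₁
      · subst h1; exact hQ y f ih
      by_cases h2 : y = c₁
      · subst h2; rw [swap_comm]; exact hQ x f ih
      have e : swap x y = swap c₁ x * swap c₁ y * swap c₁ x := by
        have := swap_apply_apply (swap c₁ x) c₁ y
        rwa [swap_apply_left, swap_apply_of_ne_of_ne h2 hxy.symm, swap_inv] at this
      rw [e, mul_assoc, mul_assoc]
      exact hQ x _ (hQ y _ (hQ x f ih))
  have hle : S ≤ alternatingGroup Ω := by
    rw [hS, Subgroup.closure_le]
    rintro _ ⟨i, rfl⟩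
    exact (gen hc i).2
  have hmap : (Subgroup.closure (Set.range (gen hc : Idx c₁ c₂ → alternatingGroup Ω))).map
      (alternatingGroup Ω).subtype = S := by
    rw [MonoidHom.map_closure, ← Set.range_comp]
    rfl
  rw [eq_top_iff]
  intro σ _
  have hσ : (σ : Perm Ω) ∈ S := by
    rcases hall σ with h | h
    · exact h
    · exfalso
      have := hle h
      rw [Equiv.Perm.mem_alternatingGroup, map_mul, hτ, sign_swap hc,
        Equiv.Perm.mem_alternatingGroup.1 σ.2] at this
      exact absurd this (by decide)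
  rw [← hmap] at hσ
  obtain ⟨x, hx, hxσ⟩ := hσ
  rwa [← Subtype.ext hxσ]

theorem gen_rels (hc : c₁ ≠ c₂) : CRels (gen hc : Idx c₁ c₂ → alternatingGroup Ω) := by
  refine ⟨fun i => ?_, fun i j hij => ?_⟩
  · refine Subtype.ext (Perm.ext fun x => ?_)
    obtain ⟨a, b, c, d⟩ := cyc_apply hc i.2
    simp only [Subgroup.coe_mul, gen_val, OneMemClass.coe_one, pow_succ, pow_zero, one_mul,
      Perm.mul_apply, Perm.one_apply]
    by_cases h1 : x = c₁
    · subst h1; rw [a, b, c]
    by_cases h2 : x = c₂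
    · subst h2; rw [b, c, a]
    by_cases h3 : x = i.1
    · subst h3; rw [c, a, b]
    rw [d x h1 h2 h3, d x h1 h2 h3, d x h1 h2 h3]
  · have hij' : i.1 ≠ j.1 := fun e => hij (Subtype.ext e)
    refine Subtype.ext (Perm.ext fun x => ?_)
    obtain ⟨a, b, c, d⟩ := cyc_apply hc i.2
    obtain ⟨a', b', c', d'⟩ := cyc_apply hc j.2
    simp only [SubmonoidClass.coe_pow, Subgroup.coe_mul, gen_val, OneMemClass.coe_one, pow_succ,
      pow_zero, one_mul, Perm.mul_apply, Perm.one_apply]
    by_cases h1 : x = c₁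
    · subst h1
      rw [a', b, d' i.1 i.2.1 i.2.2 hij', c]
    by_cases h2 : x = c₂
    · subst h2
      rw [b', d j.1 j.2.1 j.2.2 hij'.symm, c', a]
    by_cases h3 : x = i.1
    · subst h3
      rw [d' i.1 h1 h2 hij', c, a', b]
    by_cases h4 : x = j.1
    · subst h4
      rw [c', a, b', d j.1 h1 h2 h3]
    rw [d' x h1 h2 h4, d x h1 h2 h3, d' x h1 h2 h4, d x h1 h2 h3]

theorem exists_hom (hc : c₁ ≠ c₂) {Γ : Type*} [Group Γ] (y : Idx c₁ c₂ → Γ) (hy : CRels y) :
    ∃ Ψ : alternatingGroup Ω →* Γ, ∀ i, Ψ (gen hc i) = y i := by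
  classical
  have hΩ : Nontrivial Ω := ⟨⟨c₁, c₂, hc⟩⟩
  let pr : Idx c₁ c₂ → alternatingGroup Ω × Γ := fun i => (gen hc i, y i)
  obtain ⟨k, hk⟩ : ∃ k, Fintype.card Ω = k + 2 :=
    ⟨Fintype.card Ω - 2, by have := Fintype.one_lt_card (α := Ω); omega⟩
  have hcardI : Fintype.card (Idx c₁ c₂) = k := by
    rw [Fintype.card_subtype, show (Finset.univ.filter fun i : Ω => i ≠ c₁ ∧ i ≠ c₂)
      = (Finset.univ.erase c₁).erase c₂ by
        ext i
        simp only [Finset.mem_filter, Finset.mem_univ, true_and, Finset.mem_erase, and_true]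
        exact and_comm]
    rw [Finset.card_erase_of_mem (by simp [hc.symm]), Finset.card_erase_of_mem (Finset.mem_univ _),
      Finset.card_univ, hk]
    omega
  let e : Idx c₁ c₂ ≃ Fin k := Fintype.equivFinOfCardEq hcardI
  have hpr : CRels (pr ∘ e.symm) := by
    refine ⟨fun i => ?_, fun i j hij => ?_⟩
    · exact Prod.ext ((gen_rels hc).cube _) (hy.cube _)
    · exact Prod.ext ((gen_rels hc).pair _ _ fun h => hij (e.symm.injective h))
        (hy.pair _ _ fun h => hij (e.symm.injective h))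
  obtain ⟨hfin, hbound⟩ := closure_bound k (pr ∘ e.symm) hpr
  rw [EquivLike.range_comp] at hfin hbound
  set D : Subgroup (alternatingGroup Ω × Γ) := Subgroup.closure (Set.range pr) with hD
  have : Finite D := hfin.to_subtype
  let π : D →* alternatingGroup Ω := (MonoidHom.fst _ _).comp D.subtype
  have hsurj : Function.Surjective π := by
    rw [← MonoidHom.range_eq_top, eq_top_iff, ← gen_closure hc, Subgroup.closure_le]
    rintro _ ⟨i, rfl⟩
    exact ⟨⟨pr i, Subgroup.subset_closure ⟨i, rfl⟩⟩, rfl⟩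
  have hle : Nat.card D ≤ Nat.card (alternatingGroup Ω) := by
    have h2 : 2 * Nat.card (alternatingGroup Ω) = (k + 2).factorial := by
      rw [two_mul_nat_card_alternatingGroup, Nat.card_perm, Nat.card_eq_fintype_card, hk]
    omega
  have hbij : Function.Bijective π := hsurj.bijective_of_nat_card_le hle
  let φ : D ≃* alternatingGroup Ω := MulEquiv.ofBijective π hbij
  refine ⟨((MonoidHom.snd _ _).comp D.subtype).comp φ.symm.toMonoidHom, fun i => ?_⟩
  have : φ.symm (gen hc i) = ⟨pr i, Subgroup.subset_closure ⟨i, rfl⟩⟩ := by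
    rw [MulEquiv.symm_apply_eq]; rfl
  simp [this, pr]

theorem hom_ext (hc : c₁ ≠ c₂) {Γ : Type*} [Group Γ] {f g : alternatingGroup Ω →* Γ}
    (h : ∀ i, f (gen hc i) = g (gen hc i)) : f = g :=
  MonoidHom.eq_of_eqOn_dense (gen_closure hc) (by rintro _ ⟨i, rfl⟩; exact h i)

end Universal

/-- Carmichael's relations as a list of free group elements. -/
def relSet (ι : Type*) [Fintype ι] [DecidableEq ι] [LinearOrder ι] : Finset (FreeGroup ι) :=
  (Finset.univ.filter fun p : ι × ι => p.1 ≤ p.2).image fun p =>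
    if p.1 = p.2 then FreeGroup.of p.1 ^ 3 else (FreeGroup.of p.1 * FreeGroup.of p.2) ^ 2

theorem bounded_small_on (m : ℕ) (h7 : m ≤ 7) :
    BoundedOn (alternatingGroup (Fin (m + 2))) (Idx (0 : Fin (m + 2)) 1) (m * (m + 1) / 2) := by
  classical
  let c₁ : Fin (m + 2) := 0
  let c₂ : Fin (m + 2) := 1
  have hc : c₁ ≠ c₂ := by simp [c₁, c₂]
  refine ⟨gen hc, (relSet (Idx c₁ c₂)).toList, ?_, ?_, gen_closure hc, ?_⟩
  · rw [Finset.length_toList]
    refine Finset.card_image_le.trans ?_
    have : ∀ j ≤ 7, (Finset.univ.filter fun p : Idx (0 : Fin (j + 2)) 1 × Idx (0 : Fin (j + 2)) 1 =>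
        p.1 ≤ p.2).card ≤ j * (j + 1) / 2 := by decide +kernel
    exact this m h7
  · intro r hr
    rw [Finset.mem_toList, relSet, Finset.mem_image] at hr
    obtain ⟨⟨i, j⟩, -, rfl⟩ := hr
    have H := gen_rels hc
    split
    · simpa using H.cube i
    · rename_i hij
      simpa using H.pair i j hij
  · intro Γ _ f hf
    refine exists_hom hc f ⟨fun i => ?_, fun i j hij => ?_⟩
    · have := hf (FreeGroup.of i ^ 3) (by
        rw [Finset.mem_toList, relSet, Finset.mem_image]
        exact ⟨(i, i), by simp, by simp⟩)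
      simpa using this
    · rcases lt_or_gt_of_ne hij with h | h
      · have := hf ((FreeGroup.of i * FreeGroup.of j) ^ 2) (by
          rw [Finset.mem_toList, relSet, Finset.mem_image]
          exact ⟨(i, j), by simp [h.le], by simp [h.ne]⟩)
        simpa using this
      · have := hf ((FreeGroup.of j * FreeGroup.of i) ^ 2) (by
          rw [Finset.mem_toList, relSet, Finset.mem_image]
          exact ⟨(j, i), by simp [h.le], by simp [h.ne]⟩)
        exact pair_comm' (by simpa using this)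

theorem card_idx (m : ℕ) : Fintype.card (Idx (0 : Fin (m + 2)) 1) = m := by
  have : (Finset.univ.filter fun i : Fin (m + 2) => i ≠ 0 ∧ i ≠ 1) =
      Finset.univ \ {0, 1} := by
    ext i; simp
  rw [Fintype.card_subtype, this, Finset.card_univ_sdiff, Fintype.card_fin,
    Finset.card_pair (by simp)]
  omega

theorem bounded_small (n : ℕ) (h1 : 2 ≤ n) (h9 : n ≤ 9) :
    Bounded (alternatingGroup (Fin n)) 28 := by
  obtain ⟨m, rfl⟩ : ∃ m, n = m + 2 := ⟨n - 2, by omega⟩
  refine bounded_iff.2 ⟨_, (bounded_small_on m (by omega)).mono ?_⟩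
  have : m ≤ 7 := by omega
  interval_cases m <;> norm_num

end CfsgLib.Presentations.Carmichael
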