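import Mathlib
import Cfsg.Agent.Lib.Presentations.AltCarmichael

/-!
An alternating group with few relations from a doubly transitive group with few relations.
-/

set_option autoImplicit false

namespace CfsgLib.Presentations

open Equiv Equiv.Perm
open Carmichael

theorem alt_extend_on {κ : Type} {P : Type} [Fintype P] [DecidableEq P] {B : Type*} [Group B]
    (ρ : B →* Perm P) (heven : ∀ b, sign (ρ b) = 1) {k : ℕ} (hB : BoundedOn B κ k) (p₀ p₁ : P)
    (h01 : p₀ ≠ p₁) (h2t : ∀ q r, q ≠ r → ∃ b, ρ b p₀ = q ∧ ρ b p₁ = r) (Sl : List B)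
    (hSl : ∀ b, ρ b p₀ = p₀ → b ∈ Subgroup.closure {s | s ∈ Sl})
    (hSl' : ∀ s ∈ Sl, ρ s p₀ = p₀) (g₀ : B) (hg₀ : Subgroup.normalClosure {g₀} = ⊤) :
    BoundedOn (alternatingGroup (P ⊕ Fin 2)) (κ ⊕ Unit) (k + (3 + Sl.length)) := by
  classical
  let c₁ : P ⊕ Fin 2 := Sum.inr 0
  let c₂ : P ⊕ Fin 2 := Sum.inr 1
  have hc : c₁ ≠ c₂ := by simp [c₁, c₂]
  have htrans : ∀ q, ∃ b, ρ b p₀ = q := fun q => by
    obtain ⟨r, hr⟩ : ∃ r, q ≠ r := by
      by_cases h : q = p₀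
      · exact ⟨p₁, h ▸ h01⟩
      · exact ⟨p₀, h⟩
    obtain ⟨b, hb, -⟩ := h2t q r hr
    exact ⟨b, hb⟩
  choose mv hmv using htrans
  let f : B →* alternatingGroup (P ⊕ Fin 2) :=
    { toFun := fun b => ⟨Equiv.Perm.sumCongr (ρ b) 1, by
        rw [Equiv.Perm.mem_alternatingGroup, Equiv.Perm.sign_sumCongr, heven, map_one, mul_one]⟩
      map_one' := by ext1; simp
      map_mul' := fun a b => by ext1; simp [Equiv.Perm.sumCongr_mul] }
  have hfl : ∀ b q, ((f b : alternatingGroup (P ⊕ Fin 2)) : Perm (P ⊕ Fin 2)) (Sum.inl q)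
      = Sum.inl (ρ b q) := fun b q => rfl
  have hfr : ∀ b i, ((f b : alternatingGroup (P ⊕ Fin 2)) : Perm (P ⊕ Fin 2)) (Sum.inr i)
      = Sum.inr i := fun b i => rfl
  let ix : P → Idx c₁ c₂ := fun q => ⟨Sum.inl q, by simp [c₁], by simp [c₂]⟩
  have hix : ∀ i : Idx c₁ c₂, ∃ q, i = ix q := by
    rintro ⟨q | j, hi⟩
    · exact ⟨q, rfl⟩
    · fin_cases j <;> simp [c₁, c₂] at hi
  choose toP htoP using hix
  have htoP' : ∀ q, toP (ix q) = q := fun q => by
    have := htoP (ix q)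
    simpa [ix] using (congrArg Subtype.val this).symm
  set x : alternatingGroup (P ⊕ Fin 2) := gen hc (ix p₀) with hx
  have hconj : ∀ b q, f b * gen hc (ix q) * (f b)⁻¹ = gen hc (ix (ρ b q)) := by
    intro b q
    refine Subtype.ext ?_
    rw [Subgroup.coe_mul, Subgroup.coe_mul, Subgroup.coe_inv, gen_val, gen_val, conj_cyc]
    simp only [c₁, c₂, hfr, hfl, ix]
  have hstabA : ∀ b, ρ b p₀ = p₀ → Commute (f b) x := fun b hb =>
    mul_inv_eq_iff_eq_mul.1 (by rw [hx, hconj, hb])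
  let g : Multiplicative ℤ →* alternatingGroup (P ⊕ Fin 2) := zpowersHom _ x
  have hgx : g (Multiplicative.ofAdd 1) = x := by simp [g]
  -- words
  let Bw : B → FreeGroup (B ⊕ Multiplicative ℤ) := fun b => FreeGroup.of (Sum.inl b)
  let Xw : FreeGroup (B ⊕ Multiplicative ℤ) := FreeGroup.of (Sum.inr (Multiplicative.ofAdd 1))
  let Yw : P → FreeGroup (B ⊕ Multiplicative ℤ) := fun q => Bw (mv q) * Xw * (Bw (mv q))⁻¹
  obtain ⟨W, hW⟩ := exists_words (gen hc : Idx c₁ c₂ → alternatingGroup (P ⊕ Fin 2)) (gen_closure hc)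
  let tr : FreeGroup (Idx c₁ c₂) →* FreeGroup (B ⊕ Multiplicative ℤ) :=
    FreeGroup.lift fun i => Yw (toP i)
  have hgenrange : f.range ⊔ g.range = ⊤ := by
    rw [eq_top_iff, ← gen_closure hc, Subgroup.closure_le]
    rintro _ ⟨i, rfl⟩
    rw [htoP i, ← hmv (toP i), ← hconj]
    exact mul_mem (mul_mem (Subgroup.mem_sup_left ⟨_, rfl⟩)
      (Subgroup.mem_sup_right ⟨_, hgx.trans hx⟩)) (inv_mem (Subgroup.mem_sup_left ⟨_, rfl⟩))
  have hb0 := boundedOn_int
  let E : List (FreeGroup (B ⊕ Multiplicative ℤ)) :=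
    [Xw ^ 3, (Xw * Yw p₁) ^ 2, (Bw g₀)⁻¹ * tr (W (f g₀))] ++
      Sl.map fun s => Bw s * Xw * (Bw s)⁻¹ * Xw⁻¹
  have hYA : ∀ q, FreeGroup.lift (Sum.elim f g) (Yw q) = gen hc (ix q) := fun q => by
    simp only [Yw, Bw, Xw, map_mul, map_inv, FreeGroup.lift_apply_of, Sum.elim_inl, Sum.elim_inr,
      hgx, hx, hconj, hmv]
  refine (BoundedOn.glue f g hB hb0 hgenrange E ?_ ?_).mono
    (by simp only [E, List.length_append, List.length_map, List.length_cons, List.length_nil]; omega)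
  · intro e he
    simp only [E, List.mem_append, List.mem_cons, List.not_mem_nil, or_false, List.mem_map] at he
    rcases he with (rfl | rfl | rfl) | ⟨s, hs, rfl⟩
    · simp only [Xw, map_pow, FreeGroup.lift_apply_of, Sum.elim_inr, hgx]
      exact (gen_rels hc).cube _
    · simp only [map_pow, map_mul, hYA]
      simp only [Xw, FreeGroup.lift_apply_of, Sum.elim_inr, hgx]
      exact (gen_rels hc).pair _ _ fun h => h01 (by simpa [ix] using congrArg Subtype.val h)
    · have : FreeGroup.lift (Sum.elim f g) (tr (W (f g₀))) = f g₀ := by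
        conv_rhs => rw [← hW (f g₀)]
        exact DFunLike.congr_fun (FreeGroup.ext_hom ((FreeGroup.lift (Sum.elim f g)).comp tr)
          (FreeGroup.lift (gen hc)) fun i => by simp [tr, hYA, ← htoP]) _
      simp [Bw, this]
    · simp only [Bw, Xw, map_mul, map_inv, FreeGroup.lift_apply_of, Sum.elim_inl, Sum.elim_inr,
        hgx]
      rw [(hstabA s (hSl' s hs)).eq]
      group
  · intro Γ _ α β hh
    simp only [E, List.mem_append, List.mem_cons, List.not_mem_nil, or_false, List.mem_map] at hh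
    set X := β (Multiplicative.ofAdd 1) with hX
    have hX3 : X ^ 3 = 1 := by simpa [Xw] using hh (Xw ^ 3) (Or.inl (Or.inl rfl))
    have hfix : ∀ b, ρ b p₀ = p₀ → α b * X * (α b)⁻¹ = X := by
      intro b hb
      have hb' := hSl b hb
      have key : ∀ s ∈ Sl, α s ∈ Subgroup.centralizer ({X} : Set Γ) := fun s hs => by
        rw [Subgroup.mem_centralizer_singleton_iff]
        have := hh (Bw s * Xw * (Bw s)⁻¹ * Xw⁻¹) (Or.inr ⟨s, hs, rfl⟩)
        simp only [Bw, Xw, map_mul, map_inv, FreeGroup.lift_apply_of, Sum.elim_inl, Sum.elim_inr,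
          ← hX, mul_inv_eq_one] at this
        exact mul_inv_eq_iff_eq_mul.1 this
      have : Subgroup.closure {s | s ∈ Sl} ≤ (Subgroup.centralizer ({X} : Set Γ)).comap α :=
        (Subgroup.closure_le _).2 fun s hs => key s hs
      exact mul_inv_eq_iff_eq_mul.2 (Subgroup.mem_centralizer_singleton_iff.1 (this hb'))
    let Y : P → Γ := fun q => α (mv q) * X * (α (mv q))⁻¹
    have hY : ∀ b, Y (ρ b p₀) = α b * X * (α b)⁻¹ := by
      intro b
      have h1 := hfix ((mv (ρ b p₀))⁻¹ * b) (by rw [map_mul, map_inv, Perm.mul_apply,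
        Perm.inv_eq_iff_eq, hmv])
      rw [map_mul, map_inv] at h1
      show α (mv (ρ b p₀)) * X * (α (mv (ρ b p₀)))⁻¹ = _
      conv_lhs => rw [← h1]
      group
    have hYequiv : ∀ b q, α b * Y q * (α b)⁻¹ = Y (ρ b q) := by
      intro b q
      have e := hY (b * mv q)
      rw [map_mul, Perm.mul_apply, hmv, map_mul] at e
      rw [e]
      show α b * (α (mv q) * X * (α (mv q))⁻¹) * (α b)⁻¹ = _
      group
    have hY0 : Y p₀ = X := hfix _ (hmv p₀)
    have hrels : CRels fun i : Idx c₁ c₂ => Y (toP i) := by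
      refine ⟨fun i => ?_, fun i j hij => ?_⟩
      · show (α _ * X * (α _)⁻¹) ^ 3 = 1
        rw [conj_pow, hX3]; group
      · have hne : toP i ≠ toP j := fun h => hij (by rw [htoP i, htoP j, h])
        obtain ⟨b, hb0, hb1⟩ := h2t _ _ hne
        have e := hh ((Xw * Yw p₁) ^ 2) (Or.inl (Or.inr (Or.inl rfl)))
        simp only [Xw, Yw, Bw, map_pow, map_mul, map_inv, FreeGroup.lift_apply_of, Sum.elim_inl,
          Sum.elim_inr, ← hX] at e
        show (Y (toP i) * Y (toP j)) ^ 2 = 1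
        rw [← hb0, ← hb1, ← hYequiv b p₁, hY b, show α b * X * (α b)⁻¹ * (α b * Y p₁ * (α b)⁻¹)
          = α b * (X * Y p₁) * (α b)⁻¹ by group, conj_pow]
        show α b * (X * (α (mv p₁) * X * (α (mv p₁))⁻¹)) ^ 2 * (α b)⁻¹ = 1
        rw [e]; group
    obtain ⟨Ψ, hΨ⟩ := Carmichael.exists_hom hc _ hrels
    have hequiv : ∀ b a, α b * Ψ a * (α b)⁻¹ = Ψ (f b * a * (f b)⁻¹) := by
      intro b
      have : (MulAut.conj (α b)).toMonoidHom.comp Ψ = Ψ.comp (MulAut.conj (f b)).toMonoidHom := by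
        refine hom_ext hc fun i => ?_
        simp only [MonoidHom.comp_apply, MulEquiv.toMonoidHom_eq_coe, MonoidHom.coe_coe,
          MulAut.conj_apply]
        rw [htoP i, hΨ, hconj, hΨ, htoP', htoP', hYequiv]
      intro a
      simpa using DFunLike.congr_fun this a
    have h0 : Ψ (f g₀) = α g₀ := by
      have e := hh ((Bw g₀)⁻¹ * tr (W (f g₀))) (Or.inl (Or.inr (Or.inr rfl)))
      rw [map_mul, map_inv, inv_mul_eq_one] at e
      simp only [Bw, FreeGroup.lift_apply_of, Sum.elim_inl] at e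
      rw [e]
      conv_lhs => rw [← hW (f g₀), lift_natural]
      exact DFunLike.congr_fun (FreeGroup.ext_hom (FreeGroup.lift (Ψ ∘ gen hc))
        ((FreeGroup.lift (Sum.elim α β)).comp tr) fun i => by
          simp [tr, Yw, Bw, Xw, hΨ, Y, ← hX]) _
    let K : Subgroup B := MonoidHom.eqLocus (Ψ.comp f) α
    have hKn : K.Normal := ⟨fun n (hn : Ψ (f n) = α n) b => by
      show Ψ (f (b * n * b⁻¹)) = α (b * n * b⁻¹)
      rw [map_mul f, map_mul f, map_inv, ← hequiv, hn]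
      simp⟩
    have hK : K = ⊤ := by
      rw [eq_top_iff, ← hg₀]
      exact Subgroup.normalClosure_le_normal (Set.singleton_subset_iff.2 h0)
    refine ⟨Ψ, MonoidHom.ext fun b => (hK ▸ Subgroup.mem_top b : b ∈ K), ?_⟩
    refine MonoidHom.ext_mint ?_
    rw [MonoidHom.comp_apply, hgx, hx, hΨ, htoP', hY0]

theorem alt_extend {P : Type} [Fintype P] [DecidableEq P] {B : Type*} [Group B]
    (ρ : B →* Perm P) (heven : ∀ b, sign (ρ b) = 1) {k : ℕ} (hB : Bounded B k) (p₀ p₁ : P)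
    (h01 : p₀ ≠ p₁) (h2t : ∀ q r, q ≠ r → ∃ b, ρ b p₀ = q ∧ ρ b p₁ = r) (Sl : List B)
    (hSl : ∀ b, ρ b p₀ = p₀ → b ∈ Subgroup.closure {s | s ∈ Sl})
    (hSl' : ∀ s ∈ Sl, ρ s p₀ = p₀) (g₀ : B) (hg₀ : Subgroup.normalClosure {g₀} = ⊤) :
    Bounded (alternatingGroup (P ⊕ Fin 2)) (k + (3 + Sl.length)) :=
  let ⟨κ, hκ⟩ := bounded_iff.1 hB
  bounded_iff.2 ⟨κ ⊕ Unit, alt_extend_on ρ heven hκ p₀ p₁ h01 h2t Sl hSl hSl' g₀ hg₀⟩

end CfsgLib.Presentations
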