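import Mathlib
import Cfsg.Agent.Lib.Presentations.AltExtend
import Cfsg.Agent.Lib.SL2Pres.Main
import Cfsg.Agent.Lib.Classical.SLBasic

/-!
Alternating groups of degree `p + 3` from the projective line.
-/

set_option autoImplicit false

namespace CfsgLib.Presentations

open Equiv Equiv.Perm Matrix
open OnePoint
open Multiplicative (ofAdd)
open CfsgLib.SL2Pres (xHom hDiag wEl xHom_val hDiag_val wEl_val)
open scoped MatrixGroups

theorem xHom_span {p : ℕ} [Fact p.Prime] (c : ZMod p) :
    xHom (ZMod p) (ofAdd c) = xHom (ZMod p) (ofAdd 1) ^ c.val := by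
  rw [← map_pow, ← ofAdd_nsmul, nsmul_one, ZMod.natCast_zmod_val]

theorem normalClosure_xHom {p : ℕ} [Fact p.Prime] :
    Subgroup.normalClosure
      ({xHom (ZMod p) (ofAdd 1)} : Set (Matrix.SpecialLinearGroup (Fin 2) (ZMod p))) = ⊤ := by
  refine CfsgLib.Classical.SL_le_of_transvections _ fun i j hij c => ?_
  have hx : ∀ a, xHom (ZMod p) (ofAdd a) ∈ Subgroup.normalClosure
      ({xHom (ZMod p) (ofAdd 1)} : Set (Matrix.SpecialLinearGroup (Fin 2) (ZMod p))) :=
    fun a => by
      rw [xHom_span a]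
      refine pow_mem ?_ _
      exact Subgroup.subset_normalClosure (Set.mem_singleton _)
  fin_cases i <;> fin_cases j <;> try exact absurd rfl hij
  · convert hx c using 1
    refine Matrix.SpecialLinearGroup.ext _ _ fun r s => ?_
    rw [xHom_val]
    fin_cases r <;> fin_cases s <;>
      simp [Matrix.SpecialLinearGroup.transvection, Matrix.transvection, Matrix.single_apply]
  · convert (Subgroup.normalClosure_normal (s := {xHom (ZMod p) (ofAdd 1)})).conj_mem _ (hx (-c))
      (wEl (ZMod p)) using 1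
    rw [eq_mul_inv_iff_mul_eq]
    refine Matrix.SpecialLinearGroup.ext _ _ fun r s => ?_
    rw [Matrix.SpecialLinearGroup.coe_mul, Matrix.SpecialLinearGroup.coe_mul, xHom_val, wEl_val]
    fin_cases r <;> fin_cases s <;>
      simp [Matrix.SpecialLinearGroup.transvection, Matrix.transvection, Matrix.single_apply,
        Matrix.mul_apply, Fin.sum_univ_two]

/-- The action of `SL₂` on the projective line. -/
def lineAct (F : Type) [Field F] [DecidableEq F] :
    Matrix.SpecialLinearGroup (Fin 2) F →* Perm (OnePoint F) :=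
  (MulAction.toPermHom (GL (Fin 2) F) (OnePoint F)).comp Matrix.SpecialLinearGroup.toGL

theorem lineAct_apply {F : Type} [Field F] [DecidableEq F]
    (g : Matrix.SpecialLinearGroup (Fin 2) F) (x : OnePoint F) :
    lineAct F g x = (Matrix.SpecialLinearGroup.toGL g) • x := rfl

theorem alt_projLine_on (p : ℕ) [Fact p.Prime] (hp : 5 ≤ p) (Ω : Type) [Fintype Ω] [DecidableEq Ω]
    (hΩ : Fintype.card Ω = p + 3) {κ : Type} {k : ℕ}
    (hB : BoundedOn (Matrix.SpecialLinearGroup (Fin 2) (ZMod p)) κ k) :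
    BoundedOn (alternatingGroup Ω) (κ ⊕ Unit) (k + 5) := by
  classical
  obtain ⟨t, ht, -⟩ := CfsgLib.SL2Pres.exists_gen (ZMod p)
  have heven : ∀ b, sign (lineAct (ZMod p) b) = 1 := by
    have h : ((sign).comp (lineAct (ZMod p))).ker = ⊤ := by
      rw [eq_top_iff, ← normalClosure_xHom]
      refine Subgroup.normalClosure_le_normal (Set.singleton_subset_iff.2 ?_)
      rw [SetLike.mem_coe, MonoidHom.mem_ker]
      have h1 : ((sign).comp (lineAct (ZMod p)) (xHom (ZMod p) (ofAdd 1))) ^ p = 1 := by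
        rw [← map_pow, CfsgLib.SL2Pres.hom_pow_char, map_one]
      generalize (sign).comp (lineAct (ZMod p)) (xHom (ZMod p) (ofAdd 1)) = u at h1 ⊢
      obtain ⟨k, hk⟩ := (Fact.out : p.Prime).odd_of_ne_two (by omega)
      rw [hk, pow_succ, pow_mul, Int.units_sq, one_pow, one_mul] at h1
      exact h1
    intro b
    have : b ∈ ((sign).comp (lineAct (ZMod p))).ker := by rw [h]; trivial
    exact this
  have hstab : ∀ b : Matrix.SpecialLinearGroup (Fin 2) (ZMod p), lineAct (ZMod p) b ∞ = ∞ →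
      b ∈ Subgroup.closure {s | s ∈ [xHom (ZMod p) (ofAdd 1), hDiag t]} := by
    intro b hb
    rw [lineAct_apply, smul_infty_eq_self_iff] at hb
    have hc : (b : Matrix (Fin 2) (Fin 2) (ZMod p)) 1 0 = 0 := hb
    have hdet : (b : Matrix (Fin 2) (Fin 2) (ZMod p)) 0 0 * (b : Matrix (Fin 2) (Fin 2) (ZMod p)) 1 1
        = 1 := by
      have := b.2
      rw [det_fin_two, hc, mul_zero, sub_zero] at this
      exact this
    obtain ⟨k, hk⟩ := ht (Units.mkOfMulEqOne _ _ hdet)
    have e : b = xHom (ZMod p) (ofAdd ((b : Matrix (Fin 2) (Fin 2) (ZMod p)) 0 1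
        * (b : Matrix (Fin 2) (Fin 2) (ZMod p)) 0 0)) * hDiag t ^ k := by
      rw [← map_pow, hk]
      refine Matrix.SpecialLinearGroup.ext _ _ fun i j => ?_
      rw [Matrix.SpecialLinearGroup.coe_mul, hDiag_val, xHom_val]
      fin_cases i <;> fin_cases j <;> simp [Matrix.mul_apply, Fin.sum_univ_two, hc]
      · rw [mul_assoc, mul_inv_cancel₀ (left_ne_zero_of_mul_eq_one hdet), mul_one]
      · exact eq_inv_of_mul_eq_one_right hdet
    rw [e, xHom_span ((b : Matrix (Fin 2) (Fin 2) (ZMod p)) 0 1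
      * (b : Matrix (Fin 2) (Fin 2) (ZMod p)) 0 0)]
    refine mul_mem (pow_mem ?_ _) (pow_mem ?_ _)
    · exact Subgroup.subset_closure List.mem_cons_self
    · exact Subgroup.subset_closure (List.mem_cons_of_mem _ List.mem_cons_self)
  have hstab' : ∀ s ∈ [xHom (ZMod p) (ofAdd 1), hDiag t], lineAct (ZMod p) s ∞ = ∞ := by
    intro s hs
    rw [lineAct_apply, smul_infty_eq_self_iff]
    simp only [List.mem_cons, List.not_mem_nil, or_false] at hs
    rcases hs with rfl | rfl
    · show (xHom (ZMod p) (ofAdd 1) : Matrix (Fin 2) (Fin 2) (ZMod p)) 1 0 = 0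
      rw [xHom_val]; rfl
    · show (hDiag t : Matrix (Fin 2) (Fin 2) (ZMod p)) 1 0 = 0
      rw [hDiag_val]; rfl
  have h2t : ∀ q r : OnePoint (ZMod p), q ≠ r →
      ∃ b, lineAct (ZMod p) b ∞ = q ∧ lineAct (ZMod p) b ((0 : ZMod p) : OnePoint (ZMod p)) = r := by
    intro q r hqr
    simp only [lineAct_apply, smul_infty_eq_ite, smul_some_eq_ite]
    cases q with
    | infty =>
      cases r with
      | infty => exact absurd rfl hqr
      | coe c =>
        refine ⟨⟨!![1, c; 0, 1], by simp [det_fin_two]⟩, ?_, ?_⟩ <;>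
          simp [Matrix.SpecialLinearGroup.toGL]
    | coe a =>
      cases r with
      | infty =>
        refine ⟨⟨!![a, -1; 1, 0], by simp [det_fin_two]⟩, ?_, ?_⟩ <;>
          simp [Matrix.SpecialLinearGroup.toGL]
      | coe c =>
        have hne : a - c ≠ 0 := sub_ne_zero.2 fun h => hqr (by rw [h])
        refine ⟨⟨!![a, c * (a - c)⁻¹; 1, (a - c)⁻¹], by
          rw [det_fin_two_of, mul_one, ← sub_mul, mul_inv_cancel₀ hne]⟩, ?_, ?_⟩ <;>
          simp [Matrix.SpecialLinearGroup.toGL, hne]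
  have key := alt_extend_on (lineAct (ZMod p)) heven hB ∞ ((0 : ZMod p) : OnePoint (ZMod p))
    (OnePoint.infty_ne_coe _) h2t [xHom (ZMod p) (ofAdd 1), hDiag t] hstab hstab'
    (xHom (ZMod p) (ofAdd 1)) normalClosure_xHom
  have hc : Fintype.card (OnePoint (ZMod p) ⊕ Fin 2) = Fintype.card Ω := by
    rw [hΩ, Fintype.card_sum, Fintype.card_fin]
    have : Fintype.card (OnePoint (ZMod p)) = p + 1 := by
      rw [show Fintype.card (OnePoint (ZMod p)) = Fintype.card (Option (ZMod p)) from
        Fintype.card_congr (Equiv.refl _), Fintype.card_option, ZMod.card]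
    omega
  exact (key.map (Equiv.altCongrHom (Fintype.equivOfCardEq hc))).mono (by simp)

theorem alt_projLine (p : ℕ) [Fact p.Prime] (hp : 5 ≤ p) (Ω : Type) [Fintype Ω] [DecidableEq Ω]
    (hΩ : Fintype.card Ω = p + 3) : Bounded (alternatingGroup Ω) 14 := by
  obtain ⟨rels, hcard, ⟨iso⟩⟩ := (CfsgLib.SL2Pres.presentations (ZMod p)).1
  exact bounded_iff.2 ⟨_, alt_projLine_on p hp Ω hΩ (BoundedOn.of_presented hcard iso)⟩

end CfsgLib.Presentations
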