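import Mathlib
import Cfsg.Agent.Lib.Presentations.AltProjLine

/-!
Gluing two alternating groups along a common part; all alternating groups have boundedly many
relations.
-/

set_option autoImplicit false

namespace CfsgLib.Presentations

open Equiv Equiv.Perm
open Carmichael

variable {Ω : Type} [Fintype Ω] [DecidableEq Ω]

/-- The inclusion of the alternating group of a subset. -/
def altIncl (S : Finset Ω) : alternatingGroup {x // x ∈ S} →* alternatingGroup Ω :=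
  ((Equiv.Perm.ofSubtype (p := fun x => x ∈ S)).comp (alternatingGroup {x // x ∈ S}).subtype).codRestrict
    (alternatingGroup Ω) fun g => by
      rw [MonoidHom.comp_apply, Equiv.Perm.mem_alternatingGroup, Equiv.Perm.sign_ofSubtype]
      exact Equiv.Perm.mem_alternatingGroup.1 g.2

theorem altIncl_injective (S : Finset Ω) : Function.Injective (altIncl S) := fun a b h =>
  Subtype.ext (Equiv.Perm.ofSubtype_injective (congrArg Subtype.val h))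

theorem exists_pre (S : Finset Ω) (σ : alternatingGroup Ω)
    (h : ∀ x, (σ : Perm Ω) x ≠ x → x ∈ S) : ∃ s, altIncl S s = σ := by
  have hS : ∀ x, x ∈ S ↔ (σ : Perm Ω) x ∈ S := by
    intro x
    by_cases e : (σ : Perm Ω) x = x
    · rw [e]
    · exact iff_of_true (h x e) (h _ fun e' => e ((σ : Perm Ω).injective e'))
  refine ⟨⟨(σ : Perm Ω).subtypePerm fun x => (hS x).symm, ?_⟩, ?_⟩
  · rw [Equiv.Perm.mem_alternatingGroup, ← Equiv.Perm.sign_ofSubtype,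
      Equiv.Perm.ofSubtype_subtypePerm (fun x => (hS x).symm) h]
    exact Equiv.Perm.mem_alternatingGroup.1 σ.2
  · exact Subtype.ext (Equiv.Perm.ofSubtype_subtypePerm (fun x => (hS x).symm) h)

variable {c₁ c₂ : Ω}

/-- The index of a point in a subset. -/
def liftIdx {S : Finset Ω} (h1 : c₁ ∈ S) (h2 : c₂ ∈ S)
    (i : Idx (⟨c₁, h1⟩ : {x // x ∈ S}) ⟨c₂, h2⟩) : Idx c₁ c₂ :=
  ⟨i.1.1, fun h => i.2.1 (Subtype.ext h), fun h => i.2.2 (Subtype.ext h)⟩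

theorem altIncl_gen {S : Finset Ω} (h1 : c₁ ∈ S) (h2 : c₂ ∈ S) (hc : c₁ ≠ c₂)
    (hc' : (⟨c₁, h1⟩ : {x // x ∈ S}) ≠ ⟨c₂, h2⟩) (i : Idx (⟨c₁, h1⟩ : {x // x ∈ S}) ⟨c₂, h2⟩) :
    altIncl S (gen hc' i) = gen hc (liftIdx h1 h2 i) := by
  refine Subtype.ext ?_
  show Equiv.Perm.ofSubtype (cyc (⟨c₁, h1⟩ : {x // x ∈ S}) ⟨c₂, h2⟩ i.1) = cyc c₁ c₂ i.1.1
  simp only [cyc, map_mul, Equiv.Perm.ofSubtype_swap_eq]

/-- An element cycling a set, normalising the family of three-cycles. -/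
structure Shift (hc : c₁ ≠ c₂) (A : Finset Ω) (a₀ : Ω) where
  σ : alternatingGroup Ω
  ε : ℤ
  hε : ε = 1 ∨ ε = -1
  fix : ∀ i, i ∉ A → i ≠ c₁ → i ≠ c₂ → (σ : Perm Ω) i = i
  on_c : ∀ i, i = c₁ ∨ i = c₂ → (σ : Perm Ω) i = c₁ ∨ (σ : Perm Ω) i = c₂
  comm_c : (σ : Perm Ω) c₁ = c₁ ∧ (σ : Perm Ω) c₂ = c₂ ∨ (σ : Perm Ω) c₁ = c₂ ∧ (σ : Perm Ω) c₂ = c₁
  maps : ∀ a ∈ A, (σ : Perm Ω) a ∈ A
  reach : ∀ a ∈ A, ∃ k : ℕ, ((σ : Perm Ω) ^ k) a₀ = a
  conj : ∀ (i : Idx c₁ c₂) (j : Idx c₁ c₂), (σ : Perm Ω) i.1 = j.1 →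
    σ * gen hc i * σ⁻¹ = gen hc j ^ ε

theorem exists_shift (hc : c₁ ≠ c₂) (A : Finset Ω) (a₀ : Ω) (ha₀ : a₀ ∈ A) (h1 : c₁ ∉ A)
    (h2 : c₂ ∉ A) : Nonempty (Shift hc A a₀) := by
  classical
  set l := a₀ :: (A.erase a₀).toList with hl
  have hmem : ∀ x, x ∈ l ↔ x ∈ A := fun x => by
    simp only [hl, List.mem_cons, Finset.mem_toList, Finset.mem_erase]
    exact ⟨fun h => h.elim (fun h => h ▸ ha₀) And.right, fun h => (em (x = a₀)).imp id fun e => ⟨e, h⟩⟩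
  have hnd : l.Nodup := by
    rw [hl, List.nodup_cons, Finset.mem_toList]
    exact ⟨by simp, Finset.nodup_toList _⟩
  set π := l.formPerm with hπ
  have hπfix : ∀ x, x ∉ A → π x = x := fun x hx =>
    List.formPerm_apply_of_notMem fun h => hx ((hmem x).1 h)
  have hπmaps : ∀ x ∈ A, π x ∈ A := fun x hx =>
    (hmem _).1 (List.formPerm_apply_mem_of_mem ((hmem x).2 hx))
  have hπreach : ∀ a ∈ A, ∃ k : ℕ, (π ^ k) a₀ = a := by
    intro a ha
    obtain ⟨k, hk, hka⟩ := List.getElem_of_mem ((hmem a).2 ha)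
    refine ⟨k, ?_⟩
    have := List.formPerm_pow_apply_getElem l hnd k 0 (by simp [hl])
    simp only [hl, List.getElem_cons_zero] at this
    rw [hπ, hl, this, ← hka]
    congr 1
    rw [zero_add, Nat.mod_eq_of_lt (by simpa [hl] using hk)]
  set τ : Perm Ω := if sign π = 1 then 1 else swap c₁ c₂ with hτ
  have hτfix : ∀ x, x ≠ c₁ → x ≠ c₂ → τ x = x := fun x hx hx' => by
    rw [hτ]; split
    · rfl
    · exact swap_apply_of_ne_of_ne hx hx'
  have hne : ∀ a ∈ A, a ≠ c₁ ∧ a ≠ c₂ := fun a ha => ⟨fun h => h1 (h ▸ ha), fun h => h2 (h ▸ ha)⟩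
  have hcc : (τ c₁ = c₁ ∧ τ c₂ = c₂) ∨ (τ c₁ = c₂ ∧ τ c₂ = c₁) := by
    rw [hτ]; split
    · exact Or.inl ⟨rfl, rfl⟩
    · exact Or.inr ⟨swap_apply_left _ _, swap_apply_right _ _⟩
  have hsign : sign (τ * π) = 1 := by
    rcases Int.units_eq_one_or (sign π) with h | h
    · rw [map_mul, hτ, if_pos h, h, map_one, mul_one]
    · rw [map_mul, hτ, if_neg (by rw [h]; decide), h, sign_swap hc]; rfl
  have happ : ∀ i, (τ * π) i = τ (π i) := fun i => rfl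
  have hc1 : (τ * π) c₁ = τ c₁ := by rw [happ, hπfix _ h1]
  have hc2 : (τ * π) c₂ = τ c₂ := by rw [happ, hπfix _ h2]
  have hon : ∀ a ∈ A, (τ * π) a = π a := fun a ha => by
    rw [happ, hτfix _ (hne _ (hπmaps a ha)).1 (hne _ (hπmaps a ha)).2]
  have hpow : ∀ k : ℕ, ((τ * π) ^ k) a₀ = (π ^ k) a₀ ∧ (π ^ k) a₀ ∈ A := by
    intro k
    induction k with
    | zero => exact ⟨rfl, ha₀⟩
    | succ k ih =>
      rw [pow_succ', pow_succ']
      show (τ * π) (((τ * π) ^ k) a₀) = π ((π ^ k) a₀) ∧ π ((π ^ k) a₀) ∈ A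
      rw [ih.1, hon _ ih.2]
      exact ⟨rfl, hπmaps _ ih.2⟩
  let σ : alternatingGroup Ω := ⟨τ * π, Equiv.Perm.mem_alternatingGroup.2 hsign⟩
  have hflip : ∀ i : Ω, cyc c₂ c₁ i = (cyc c₁ c₂ i)⁻¹ ∨ i = c₁ ∨ i = c₂ := by
    intro i
    by_cases e1 : i = c₁
    · exact Or.inr (Or.inl e1)
    by_cases e2 : i = c₂
    · exact Or.inr (Or.inr e2)
    refine Or.inl ?_
    rw [cyc, cyc, mul_inv_rev, swap_inv, swap_inv, swap_comm c₂ c₁]
    have := swap_apply_apply (swap c₁ c₂) c₁ i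
    rw [swap_apply_left, swap_apply_of_ne_of_ne e1 e2, swap_inv] at this
    rw [this, mul_assoc, swap_mul_self, mul_one]
  refine ⟨{ σ := σ, ε := if τ c₁ = c₁ then 1 else -1, hε := by split <;> simp, fix := ?_, on_c := ?_,
            comm_c := ?_, maps := ?_, reach := ?_, conj := ?_ }⟩
  · intro i hi e1 e2
    show (τ * π) i = i
    rw [happ, hπfix i hi, hτfix i e1 e2]
  · rintro i (rfl | rfl)
    · show (τ * π) i = i ∨ (τ * π) i = c₂
      rw [hc1]; rcases hcc with h | h <;> simp [h.1]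
    · show (τ * π) i = c₁ ∨ (τ * π) i = i
      rw [hc2]; rcases hcc with h | h <;> simp [h.2]
  · show ((τ * π) c₁ = c₁ ∧ (τ * π) c₂ = c₂) ∨ ((τ * π) c₁ = c₂ ∧ (τ * π) c₂ = c₁)
    rw [hc1, hc2]; exact hcc
  · intro a ha
    show (τ * π) a ∈ A
    rw [hon a ha]; exact hπmaps a ha
  · intro a ha
    obtain ⟨k, hk⟩ := hπreach a ha
    exact ⟨k, (hpow k).1.trans hk⟩
  · intro i j hij
    refine Subtype.ext ?_
    have hij' : (τ * π) i.1 = j.1 := hij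
    show (τ * π) * cyc c₁ c₂ i.1 * (τ * π)⁻¹
      = ((gen hc j ^ (if τ c₁ = c₁ then (1 : ℤ) else -1) : alternatingGroup Ω) : Perm Ω)
    rw [conj_cyc, hij', hc1, hc2]
    rcases hcc with ⟨e1, e2⟩ | ⟨e1, e2⟩
    · rw [if_pos e1, e1, e2, zpow_one]; rfl
    · rw [if_neg (by rw [e1]; exact hc.symm), e1, e2, zpow_neg_one, Subgroup.coe_inv, gen_val]
      exact (hflip j.1).resolve_right (not_or.2 ⟨j.2.1, j.2.2⟩)

theorem Shift.commute {hc : c₁ ≠ c₂} {A B : Finset Ω} {a b : Ω} (s : Shift hc A a)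
    (t : Shift hc B b) (hAB : Disjoint A B) (hA : c₁ ∉ A ∧ c₂ ∉ A) (hB : c₁ ∉ B ∧ c₂ ∉ B) :
    Commute s.σ t.σ := by
  refine Subtype.ext (Perm.ext fun x => ?_)
  show (s.σ : Perm Ω) ((t.σ : Perm Ω) x) = (t.σ : Perm Ω) ((s.σ : Perm Ω) x)
  by_cases hxc : x = c₁ ∨ x = c₂
  · rcases hxc with rfl | rfl <;> rcases s.comm_c with ⟨e1, e2⟩ | ⟨e1, e2⟩ <;>
      rcases t.comm_c with ⟨e3, e4⟩ | ⟨e3, e4⟩ <;> simp [e1, e2, e3, e4]
  rw [not_or] at hxc
  have ne : ∀ {C : Finset Ω}, c₁ ∉ C ∧ c₂ ∉ C → ∀ y ∈ C, y ≠ c₁ ∧ y ≠ c₂ := fun hC y hy =>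
    ⟨fun e => hC.1 (e ▸ hy), fun e => hC.2 (e ▸ hy)⟩
  by_cases hxA : x ∈ A
  · have hxB : x ∉ B := fun h => Finset.disjoint_left.1 hAB hxA h
    have hs := s.maps x hxA
    rw [t.fix x hxB hxc.1 hxc.2, t.fix _ (fun h => Finset.disjoint_left.1 hAB hs h) (ne hA _ hs).1
      (ne hA _ hs).2]
  · rw [s.fix x hxA hxc.1 hxc.2]
    by_cases hxB : x ∈ B
    · have ht := t.maps x hxB
      rw [s.fix _ (fun h => Finset.disjoint_left.1 hAB h ht) (ne hB _ ht).1 (ne hB _ ht).2]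
    · rw [t.fix x hxB hxc.1 hxc.2, s.fix x hxA hxc.1 hxc.2]

section Gamma

variable {Γ : Type*} [Group Γ]

theorem pair_of_signed {u v : Γ} {ε : ℤ} (hε : ε = 1 ∨ ε = -1) (h : (u ^ ε * v ^ ε) ^ 2 = 1) :
    (u * v) ^ 2 = 1 := by
  rcases hε with rfl | rfl
  · simpa using h
  · rw [zpow_neg_one, zpow_neg_one, ← mul_inv_rev, inv_pow, inv_eq_one] at h
    exact pair_comm' h

theorem zpow_eps_cancel {u : Γ} {ε : ℤ} (hε : ε = 1 ∨ ε = -1) : (u ^ ε) ^ ε = u := by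
  rcases hε with rfl | rfl <;> simp

end Gamma

/-- Gluing along a common part containing the two base points and one more. -/
theorem alt_glue_on {κ₁ κ₂ : Type} (S₁ S₂ : Finset Ω) (hun : S₁ ∪ S₂ = Finset.univ) (hc : c₁ ≠ c₂)
    (h11 : c₁ ∈ S₁) (h21 : c₂ ∈ S₁) (h12 : c₁ ∈ S₂) (h22 : c₂ ∈ S₂) {c₃ a₀ b₀ : Ω}
    (hc3 : c₃ ∈ S₁ ∧ c₃ ∈ S₂ ∧ c₃ ≠ c₁ ∧ c₃ ≠ c₂) (ha₀ : a₀ ∈ S₁ ∧ a₀ ∉ S₂)
    (hb₀ : b₀ ∈ S₂ ∧ b₀ ∉ S₁) {k₁ k₂ : ℕ} (hB1 : BoundedOn (alternatingGroup {x // x ∈ S₁}) κ₁ k₁)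
    (hB2 : BoundedOn (alternatingGroup {x // x ∈ S₂}) κ₂ k₂) :
    BoundedOn (alternatingGroup Ω) (κ₁ ⊕ κ₂) (k₁ + k₂ + 6) := by
  classical
  have hc1' : (⟨c₁, h11⟩ : {x // x ∈ S₁}) ≠ ⟨c₂, h21⟩ := fun h => hc (congrArg Subtype.val h)
  have hc2' : (⟨c₁, h12⟩ : {x // x ∈ S₂}) ≠ ⟨c₂, h22⟩ := fun h => hc (congrArg Subtype.val h)
  let A : Finset Ω := S₁ \ S₂
  let B : Finset Ω := S₂ \ S₁
  let C : Finset Ω := ((S₁ ∩ S₂).erase c₁).erase c₂
  have hA : c₁ ∉ A ∧ c₂ ∉ A := by simp [A, h12, h22]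
  have hB : c₁ ∉ B ∧ c₂ ∉ B := by simp [B, h11, h21]
  have hC : c₁ ∉ C ∧ c₂ ∉ C := by simp [C]
  obtain ⟨sA⟩ := exists_shift hc A a₀ (by simp [A, ha₀.1, ha₀.2]) hA.1 hA.2
  obtain ⟨sB⟩ := exists_shift hc B b₀ (by simp [B, hb₀.1, hb₀.2]) hB.1 hB.2
  obtain ⟨sC⟩ := exists_shift hc C c₃ (by simp [C, hc3.1, hc3.2.1, hc3.2.2.1, hc3.2.2.2]) hC.1 hC.2
  have hsupp : ∀ {D : Finset Ω} {d : Ω} (s : Shift hc D d) (S : Finset Ω), D ⊆ S → c₁ ∈ S → c₂ ∈ S →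
      ∀ x, (s.σ : Perm Ω) x ≠ x → x ∈ S := by
    intro D d s S hDS e1 e2 x hx
    by_contra hxS
    exact hx (s.fix x (fun h => hxS (hDS h)) (fun e => hxS (e ▸ e1)) fun e => hxS (e ▸ e2))
  have hA1 : A ⊆ S₁ := Finset.sdiff_subset
  have hB2' : B ⊆ S₂ := Finset.sdiff_subset
  have hCsub : ∀ x ∈ C, x ∈ S₁ ∧ x ∈ S₂ := fun x hx => by
    simp only [C, Finset.mem_erase, Finset.mem_inter] at hx
    exact hx.2.2
  obtain ⟨σA, hσA⟩ := exists_pre S₁ sA.σ (hsupp sA S₁ hA1 h11 h21)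
  obtain ⟨σB, hσB⟩ := exists_pre S₂ sB.σ (hsupp sB S₂ hB2' h12 h22)
  obtain ⟨σC₁, hσC₁⟩ := exists_pre S₁ sC.σ (hsupp sC S₁ (fun x hx => (hCsub x hx).1) h11 h21)
  obtain ⟨σC₂, hσC₂⟩ := exists_pre S₂ sC.σ (hsupp sC S₂ (fun x hx => (hCsub x hx).2) h12 h22)
  set f := altIncl S₁
  set g := altIncl S₂
  let i₁ : ∀ i : Idx c₁ c₂, i.1 ∈ S₁ → Idx (⟨c₁, h11⟩ : {x // x ∈ S₁}) ⟨c₂, h21⟩ := fun i hi =>
    ⟨⟨i.1, hi⟩, fun h => i.2.1 (congrArg Subtype.val h), fun h => i.2.2 (congrArg Subtype.val h)⟩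
  let i₂ : ∀ i : Idx c₁ c₂, i.1 ∈ S₂ → Idx (⟨c₁, h12⟩ : {x // x ∈ S₂}) ⟨c₂, h22⟩ := fun i hi =>
    ⟨⟨i.1, hi⟩, fun h => i.2.1 (congrArg Subtype.val h), fun h => i.2.2 (congrArg Subtype.val h)⟩
  have hf : ∀ i hi, f (gen hc1' (i₁ i hi)) = gen hc i := fun i hi => altIncl_gen h11 h21 hc hc1' _
  have hg : ∀ i hi, g (gen hc2' (i₂ i hi)) = gen hc i := fun i hi => altIncl_gen h12 h22 hc hc2' _
  have mem12 : ∀ x, x ∈ S₁ ∨ x ∈ S₂ := fun x => by
    rw [← Finset.mem_union, hun]; exact Finset.mem_univ x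
  have hgen : f.range ⊔ g.range = ⊤ := by
    rw [eq_top_iff, ← gen_closure hc, Subgroup.closure_le]
    rintro _ ⟨i, rfl⟩
    rcases mem12 i.1 with h | h
    · exact Subgroup.mem_sup_left ⟨_, hf i h⟩
    · exact Subgroup.mem_sup_right ⟨_, hg i h⟩
  let ia : Idx c₁ c₂ := ⟨a₀, fun h => ha₀.2 (h ▸ h12), fun h => ha₀.2 (h ▸ h22)⟩
  let ib : Idx c₁ c₂ := ⟨b₀, fun h => hb₀.2 (h ▸ h11), fun h => hb₀.2 (h ▸ h21)⟩
  let ic : Idx c₁ c₂ := ⟨c₃, hc3.2.2.1, hc3.2.2.2⟩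
  let Lw : alternatingGroup {x // x ∈ S₁} →
      FreeGroup (alternatingGroup {x // x ∈ S₁} ⊕ alternatingGroup {x // x ∈ S₂}) :=
    fun x => FreeGroup.of (Sum.inl x)
  let Rw : alternatingGroup {x // x ∈ S₂} →
      FreeGroup (alternatingGroup {x // x ∈ S₁} ⊕ alternatingGroup {x // x ∈ S₂}) :=
    fun x => FreeGroup.of (Sum.inr x)
  let wa := Lw (gen hc1' (i₁ ia ha₀.1))
  let wb := Rw (gen hc2' (i₂ ib hb₀.1))
  refine (BoundedOn.glue f g hB1 hB2 hgen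
    [Lw (gen hc1' (i₁ ic hc3.1)) * (Rw (gen hc2' (i₂ ic hc3.2.1)))⁻¹, Lw σC₁ * (Rw σC₂)⁻¹,
      (wa * wb) ^ 2, Lw σA * wb * (Lw σA)⁻¹ * (wb ^ sA.ε)⁻¹,
      Rw σB * wa * (Rw σB)⁻¹ * (wa ^ sB.ε)⁻¹, Lw σA * Rw σB * (Rw σB * Lw σA)⁻¹] ?_ ?_).mono
    (by simp only [List.length_cons, List.length_nil]; omega)
  · intro e he
    simp only [List.mem_cons, List.not_mem_nil, or_false] at he
    rcases he with rfl | rfl | rfl | rfl | rfl | rfl <;>
      simp only [wa, wb, Lw, Rw, map_mul, map_inv, map_pow, map_zpow, FreeGroup.lift_apply_of,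
        Sum.elim_inl, Sum.elim_inr, hf, hg, hσA, hσB, hσC₁, hσC₂, mul_inv_cancel]
    · exact (gen_rels hc).pair ia ib fun h => ha₀.2 (by
        have : a₀ = b₀ := congrArg Subtype.val h
        rw [this]; exact hb₀.1)
    · rw [sA.conj ib ib (sA.fix b₀ (by simp [A, hb₀.2]) ib.2.1 ib.2.2), mul_inv_cancel]
    · rw [sB.conj ia ia (sB.fix a₀ (by simp [B, ha₀.2]) ia.2.1 ia.2.2), mul_inv_cancel]
    · rw [(sA.commute sB disjoint_sdiff_sdiff hA hB).eq, mul_inv_cancel]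
  · intro Γ _ α β hh
    simp only [List.mem_cons, List.not_mem_nil, or_false, forall_eq_or_imp, forall_eq, wa, wb, Lw,
      Rw, map_mul, map_inv, map_pow, map_zpow, FreeGroup.lift_apply_of, Sum.elim_inl, Sum.elim_inr,
      mul_inv_eq_one] at hh
    obtain ⟨h3, hCC, h00, hAb, hBa, hcomm⟩ := hh
    -- conjugation inside each part
    have conj₁ : ∀ (D : Finset Ω) (d : Ω) (s : Shift hc D d) (s' : alternatingGroup {x // x ∈ S₁}),
        f s' = s.σ → ∀ i j hi hj, (s.σ : Perm Ω) i.1 = j.1 →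
        α s' * α (gen hc1' (i₁ i hi)) * (α s')⁻¹ = α (gen hc1' (i₁ j hj)) ^ s.ε := by
      intro D d s s' hs i j hi hj hij
      rw [← map_inv, ← map_mul, ← map_mul, ← map_zpow]
      congr 1
      refine altIncl_injective S₁ ?_
      show f _ = f _
      rw [map_mul, map_mul, map_inv, map_zpow, hs, hf, hf]
      exact s.conj i j hij
    have conj₂ : ∀ (D : Finset Ω) (d : Ω) (s : Shift hc D d) (s' : alternatingGroup {x // x ∈ S₂}),
        g s' = s.σ → ∀ i j hi hj, (s.σ : Perm Ω) i.1 = j.1 →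
        β s' * β (gen hc2' (i₂ i hi)) * (β s')⁻¹ = β (gen hc2' (i₂ j hj)) ^ s.ε := by
      intro D d s s' hs i j hi hj hij
      rw [← map_inv, ← map_mul, ← map_mul, ← map_zpow]
      congr 1
      refine altIncl_injective S₂ ?_
      show g _ = g _
      rw [map_mul, map_mul, map_inv, map_zpow, hs, hg, hg]
      exact s.conj i j hij
    -- agreement on the common part
    have hmemk : ∀ {D : Finset Ω} {d : Ω} (s : Shift hc D d), d ∈ D →
        ∀ k : ℕ, ((s.σ : Perm Ω) ^ k) d ∈ D := by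
      intro D d s hd k
      induction k with
      | zero => exact hd
      | succ k ih => rw [pow_succ', Perm.mul_apply]; exact s.maps _ ih
    have agree : ∀ i : Idx c₁ c₂, ∀ (hi1 : i.1 ∈ S₁) (hi2 : i.1 ∈ S₂),
        α (gen hc1' (i₁ i hi1)) = β (gen hc2' (i₂ i hi2)) := by
      have main : ∀ k : ℕ, ∀ i : Idx c₁ c₂, ((sC.σ : Perm Ω) ^ k) c₃ = i.1 →
          ∀ (hi1 : i.1 ∈ S₁) (hi2 : i.1 ∈ S₂),
          α (gen hc1' (i₁ i hi1)) = β (gen hc2' (i₂ i hi2)) := by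
        intro k
        induction k with
        | zero =>
          intro i hi hi1 hi2
          obtain rfl : ic = i := Subtype.ext hi
          exact h3
        | succ k ih =>
          intro i hi hi1 hi2
          have hk := hmemk sC (by simp [C, hc3.1, hc3.2.1, hc3.2.2.1, hc3.2.2.2]) k
          let j : Idx c₁ c₂ := ⟨((sC.σ : Perm Ω) ^ k) c₃, fun e => hC.1 (e ▸ hk), fun e => hC.2 (e ▸ hk)⟩
          rw [pow_succ', Perm.mul_apply] at hi
          have e1 := conj₁ C c₃ sC σC₁ hσC₁ j i (hCsub _ hk).1 hi1 hi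
          have e2 := conj₂ C c₃ sC σC₂ hσC₂ j i (hCsub _ hk).2 hi2 hi
          rw [ih j rfl (hCsub _ hk).1 (hCsub _ hk).2, hCC, e2] at e1
          have := congrArg (· ^ sC.ε) e1
          simp only [zpow_eps_cancel sC.hε] at this
          exact this.symm
      intro i hi1 hi2
      obtain ⟨k, hk⟩ := sC.reach i.1 (by simp [C, i.2.1, i.2.2, hi1, hi2])
      exact main k i hk hi1 hi2
    -- mixed pairs
    have mixA : ∀ (k : ℕ) (i : Idx c₁ c₂), ((sA.σ : Perm Ω) ^ k) a₀ = i.1 → ∀ hi : i.1 ∈ S₁,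
        (α (gen hc1' (i₁ i hi)) * β (gen hc2' (i₂ ib hb₀.1))) ^ 2 = 1 ∧
        β σB * α (gen hc1' (i₁ i hi)) * (β σB)⁻¹ = α (gen hc1' (i₁ i hi)) ^ sB.ε := by
      intro k
      induction k with
      | zero =>
        intro i hi hi1
        obtain rfl : ia = i := Subtype.ext hi
        exact ⟨h00, hBa⟩
      | succ k ih =>
        intro i hi hi1
        have hk := hmemk sA (by simp [A, ha₀.1, ha₀.2]) k
        let j : Idx c₁ c₂ := ⟨((sA.σ : Perm Ω) ^ k) a₀, fun e => hA.1 (e ▸ hk), fun e => hA.2 (e ▸ hk)⟩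
        rw [pow_succ', Perm.mul_apply] at hi
        obtain ⟨p1, p2⟩ := ih j rfl (hA1 hk)
        have e1 := conj₁ A a₀ sA σA hσA j i (hA1 hk) hi1 hi
        refine ⟨pair_of_signed sA.hε ?_, ?_⟩
        · rw [← e1, ← hAb, conj_mul, conj_pow, p1]; group
        · have e2 : α (gen hc1' (i₁ i hi1))
              = (α σA * α (gen hc1' (i₁ j (hA1 hk))) * (α σA)⁻¹) ^ sA.ε := by
            rw [e1, zpow_eps_cancel sA.hε]
          rw [e2, ← conj_zpow, show β σB * (α σA * α (gen hc1' (i₁ j (hA1 hk))) * (α σA)⁻¹) * (β σB)⁻¹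
              = (β σB * α σA) * α (gen hc1' (i₁ j (hA1 hk))) * (β σB * α σA)⁻¹ by group,
            ← hcomm, show (α σA * β σB) * α (gen hc1' (i₁ j (hA1 hk))) * (α σA * β σB)⁻¹
              = α σA * (β σB * α (gen hc1' (i₁ j (hA1 hk))) * (β σB)⁻¹) * (α σA)⁻¹ by group, p2,
            ← conj_zpow, ← zpow_mul, ← zpow_mul, mul_comm]
    have mixB : ∀ (k : ℕ) (j : Idx c₁ c₂), ((sB.σ : Perm Ω) ^ k) b₀ = j.1 → ∀ hj : j.1 ∈ S₂,
        ∀ i : Idx c₁ c₂, i.1 ∈ A → ∀ hi : i.1 ∈ S₁,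
        (α (gen hc1' (i₁ i hi)) * β (gen hc2' (i₂ j hj))) ^ 2 = 1 := by
      intro k
      induction k with
      | zero =>
        intro j hj hj2 i hiA hi1
        obtain rfl : ib = j := Subtype.ext hj
        obtain ⟨k', hk'⟩ := sA.reach i.1 hiA
        exact (mixA k' i hk' hi1).1
      | succ k ih =>
        intro j hj hj2 i hiA hi1
        have hk := hmemk sB (by simp [B, hb₀.1, hb₀.2]) k
        let j' : Idx c₁ c₂ := ⟨((sB.σ : Perm Ω) ^ k) b₀, fun e => hB.1 (e ▸ hk), fun e => hB.2 (e ▸ hk)⟩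
        rw [pow_succ', Perm.mul_apply] at hj
        obtain ⟨k', hk'⟩ := sA.reach i.1 hiA
        have e1 := conj₂ B b₀ sB σB hσB j' j (hB2' hk) hj2 hj
        refine pair_of_signed sB.hε ?_
        rw [← e1, ← (mixA k' i hk' hi1).2, conj_mul, conj_pow, ih j' rfl (hB2' hk) i hiA hi1]
        group
    let y : Idx c₁ c₂ → Γ := fun i =>
      if h : i.1 ∈ S₁ then α (gen hc1' (i₁ i h))
      else β (gen hc2' (i₂ i ((mem12 i.1).resolve_left h)))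
    have y1 : ∀ i (h : i.1 ∈ S₁), y i = α (gen hc1' (i₁ i h)) := fun i h => dif_pos h
    have y2 : ∀ i (h : i.1 ∈ S₂), y i = β (gen hc2' (i₂ i h)) := fun i h => by
      by_cases h' : i.1 ∈ S₁
      · rw [y1 i h', agree i h' h]
      · exact dif_neg h'
    have hy : CRels y := by
      refine ⟨fun i => ?_, fun i j hij => ?_⟩
      · rcases mem12 i.1 with h | h
        · rw [y1 i h, ← map_pow, (gen_rels hc1').cube, map_one]
        · rw [y2 i h, ← map_pow, (gen_rels hc2').cube, map_one]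
      · have hne₁ : ∀ hi hj, i₁ i hi ≠ i₁ j hj := fun hi hj e =>
          hij (Subtype.ext (congrArg (fun z : Idx _ _ => z.1.1) e))
        have hne₂ : ∀ hi hj, i₂ i hi ≠ i₂ j hj := fun hi hj e =>
          hij (Subtype.ext (congrArg (fun z : Idx _ _ => z.1.1) e))
        by_cases hi1 : i.1 ∈ S₁
        · by_cases hj1 : j.1 ∈ S₁
          · rw [y1 i hi1, y1 j hj1, ← map_mul, ← map_pow, (gen_rels hc1').pair _ _ (hne₁ _ _), map_one]
          · have hj2 := (mem12 j.1).resolve_left hj1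
            by_cases hi2 : i.1 ∈ S₂
            · rw [y2 i hi2, y2 j hj2, ← map_mul, ← map_pow, (gen_rels hc2').pair _ _ (hne₂ _ _),
                map_one]
            · rw [y1 i hi1, y2 j hj2]
              obtain ⟨k, hk⟩ := sB.reach j.1 (by simp [B, hj2, hj1])
              exact mixB k j hk hj2 i (by simp [A, hi1, hi2]) hi1
        · have hi2 := (mem12 i.1).resolve_left hi1
          by_cases hj2 : j.1 ∈ S₂
          · rw [y2 i hi2, y2 j hj2, ← map_mul, ← map_pow, (gen_rels hc2').pair _ _ (hne₂ _ _),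
              map_one]
          · have hj1 := (mem12 j.1).resolve_right hj2
            rw [y2 i hi2, y1 j hj1]
            obtain ⟨k, hk⟩ := sB.reach i.1 (by simp [B, hi2, hi1])
            exact pair_comm' (mixB k i hk hi2 j (by simp [A, hj1, hj2]) hj1)
    obtain ⟨Ψ, hΨ⟩ := Carmichael.exists_hom hc y hy
    refine ⟨Ψ, hom_ext hc1' fun i => ?_, hom_ext hc2' fun i => ?_⟩
    · rw [MonoidHom.comp_apply, altIncl_gen h11 h21 hc hc1', hΨ, y1 _ i.1.2]; rfl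
    · rw [MonoidHom.comp_apply, altIncl_gen h12 h22 hc hc2', hΨ, y2 _ i.1.2]; rfl

theorem alt_glue (S₁ S₂ : Finset Ω) (hun : S₁ ∪ S₂ = Finset.univ) (hc : c₁ ≠ c₂)
    (h11 : c₁ ∈ S₁) (h21 : c₂ ∈ S₁) (h12 : c₁ ∈ S₂) (h22 : c₂ ∈ S₂) {c₃ a₀ b₀ : Ω}
    (hc3 : c₃ ∈ S₁ ∧ c₃ ∈ S₂ ∧ c₃ ≠ c₁ ∧ c₃ ≠ c₂) (ha₀ : a₀ ∈ S₁ ∧ a₀ ∉ S₂)
    (hb₀ : b₀ ∈ S₂ ∧ b₀ ∉ S₁) {k₁ k₂ : ℕ} (hB1 : Bounded (alternatingGroup {x // x ∈ S₁}) k₁)
    (hB2 : Bounded (alternatingGroup {x // x ∈ S₂}) k₂) :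
    Bounded (alternatingGroup Ω) (k₁ + k₂ + 6) :=
  let ⟨κ₁, h₁⟩ := bounded_iff.1 hB1
  let ⟨κ₂, h₂⟩ := bounded_iff.1 hB2
  bounded_iff.2 ⟨κ₁ ⊕ κ₂, alt_glue_on S₁ S₂ hun hc h11 h21 h12 h22 hc3 ha₀ hb₀ h₁ h₂⟩

/-- Every alternating group has a presentation with boundedly many relations. -/
theorem alt_bounded (n : ℕ) (hn : 2 ≤ n) : Bounded (alternatingGroup (Fin n)) 34 := by
  by_cases h9 : n ≤ 9
  · exact (bounded_small n hn h9).mono (by norm_num)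
  obtain ⟨p, hp, hlo, hhi⟩ := Nat.exists_prime_lt_and_le_two_mul ((n - 4) / 2) (by omega)
  have : Fact p.Prime := ⟨hp⟩
  have hp5 : 5 ≤ p := by
    by_contra h
    have h4 : p = 4 := by omega
    subst h4; norm_num at hp
  set d := n - (p + 3) with hd
  let S₁ : Finset (Fin n) := Finset.univ.filter fun i => i.1 < p + 3
  let S₂ : Finset (Fin n) := Finset.univ.filter fun i => d ≤ i.1
  have hS₁ : Fintype.card {x // x ∈ S₁} = p + 3 := by
    rw [Fintype.card_coe]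
    show (Finset.univ.filter fun i : Fin n => i.1 < p + 3).card = p + 3
    rw [Fin.card_filter_val_lt]
    omega
  have hS₂ : Fintype.card {x // x ∈ S₂} = p + 3 := by
    rw [Fintype.card_coe]
    show (Finset.univ.filter fun i : Fin n => d ≤ i.1).card = p + 3
    have h1 := Finset.card_filter_add_card_filter_not (s := (Finset.univ : Finset (Fin n)))
      (fun i : Fin n => i.1 < d)
    simp only [not_lt] at h1
    rw [Fin.card_filter_val_lt, Finset.card_univ, Fintype.card_fin] at h1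
    omega
  refine (alt_glue (c₁ := ⟨d, by omega⟩) (c₂ := ⟨d + 1, by omega⟩) (c₃ := ⟨d + 2, by omega⟩)
    (a₀ := ⟨0, by omega⟩) (b₀ := ⟨n - 1, by omega⟩) S₁ S₂ ?_ ?_ ?_ ?_ ?_ ?_ ?_ ?_ ?_
    (alt_projLine p hp5 _ hS₁) (alt_projLine p hp5 _ hS₂)).mono (by norm_num)
  · ext i
    simp only [S₁, S₂, Finset.mem_union, Finset.mem_filter, Finset.mem_univ, true_and, iff_true]
    omega
  all_goals simp only [S₁, S₂, Finset.mem_filter, Finset.mem_univ, true_and, ne_eq, Fin.mk.injEq]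
  all_goals omega

end CfsgLib.Presentations
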