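import Mathlib
import Cfsg.Agent.Lib.Presentations.Bounded

/-!
Passing to any prescribed finite generating family of a boundedly presented group.
-/

set_option autoImplicit false

namespace CfsgLib.Presentations

universe u

variable {T : Type u} [Group T]

/-- A free group with no relations. -/
theorem bounded_free (κ : Type) : Bounded (FreeGroup κ) 0 := by
  refine ⟨κ, FreeGroup.of, [], le_rfl, by simp, FreeGroup.closure_range_of κ, fun Γ _ f _ => ?_⟩
  exact ⟨FreeGroup.lift f, fun i => by simp⟩

/-- Prescribed generators cost one relation each. -/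
theorem Bounded.with_generators {m k : ℕ} (h : Bounded T m) (gn : Fin k → T)
    (hab : Subgroup.closure (Set.range gn) = ⊤) :
    ∃ rels : Finset (FreeGroup (Fin k)), rels.card ≤ m + k ∧
      Nonempty (PresentedGroup (↑rels : Set (FreeGroup (Fin k))) ≃* T) := by
  classical
  obtain ⟨κ, g, L, hL, h1, h2, h3⟩ := h
  obtain ⟨W, hW⟩ := exists_words g h2
  obtain ⟨V, hV⟩ := exists_words gn hab
  -- old generators as words in the new ones
  let tr : FreeGroup κ →* FreeGroup (Fin k) := FreeGroup.lift fun i => V (g i)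
  have htr : ∀ w, FreeGroup.lift gn (tr w) = FreeGroup.lift g w := fun w =>
    DFunLike.congr_fun (FreeGroup.ext_hom ((FreeGroup.lift gn).comp tr) (FreeGroup.lift g)
      fun i => by simp [tr, hV]) w
  set L2 : List (FreeGroup (Fin k)) := L.map tr ++
    List.ofFn fun i : Fin k => (FreeGroup.of i)⁻¹ * tr (W (gn i)) with hL2
  refine ⟨L2.toFinset, (List.toFinset_card_le L2).trans
    (by simp only [hL2, List.length_append, List.length_map, List.length_ofFn]; omega), ?_⟩
  set R : Set (FreeGroup (Fin k)) := ↑L2.toFinset with hR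
  have htrue : ∀ r ∈ R, FreeGroup.lift gn r = 1 := by
    intro r hr
    rw [hR, Finset.mem_coe, List.mem_toFinset, hL2, List.mem_append] at hr
    rcases hr with hr | hr
    · obtain ⟨s, hs, rfl⟩ := List.mem_map.1 hr
      rw [htr, h1 s hs]
    · obtain ⟨i, rfl⟩ := List.mem_ofFn.1 hr
      simp [htr, hW]
  let φ : PresentedGroup R →* T := PresentedGroup.toGroup htrue
  let P : Fin k → PresentedGroup R := PresentedGroup.of
  have hmk : FreeGroup.lift P = PresentedGroup.mk R :=
    FreeGroup.ext_hom _ _ fun i => by simp only [FreeGroup.lift_apply_of]; rfl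
  have hmem : ∀ r ∈ L2, FreeGroup.lift P r = 1 := fun r hr => by
    rw [hmk]; exact PresentedGroup.one_of_mem (List.mem_toFinset.2 hr)
  obtain ⟨ψ, hψ⟩ := h3 (PresentedGroup R) (fun i => FreeGroup.lift P (V (g i))) fun r hr => by
    have := hmem (tr r) (by rw [hL2]; exact List.mem_append.2 (Or.inl (List.mem_map.2 ⟨r, hr, rfl⟩)))
    refine Eq.trans ?_ this
    exact DFunLike.congr_fun (FreeGroup.ext_hom (FreeGroup.lift fun i => FreeGroup.lift P (V (g i)))
      ((FreeGroup.lift P).comp tr) fun i => by simp [tr]) r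
  have hψW : ∀ t, ψ t = FreeGroup.lift P (tr (W t)) := fun t => by
    conv_lhs => rw [← hW t, lift_natural]
    exact DFunLike.congr_fun (FreeGroup.ext_hom (FreeGroup.lift (ψ ∘ g))
      ((FreeGroup.lift P).comp tr) fun i => by simp [tr, hψ]) (W t)
  have hφP : ∀ w, φ (FreeGroup.lift P w) = FreeGroup.lift gn w := fun w =>
    DFunLike.congr_fun (FreeGroup.ext_hom (φ.comp (FreeGroup.lift P)) (FreeGroup.lift gn)
      fun i => by simp [φ, P]) w
  have e1 : ψ.comp φ = MonoidHom.id _ := by
    refine PresentedGroup.ext fun i => ?_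
    simp only [MonoidHom.comp_apply, MonoidHom.id_apply, φ, PresentedGroup.toGroup.of, hψW]
    have := hmem ((FreeGroup.of i)⁻¹ * tr (W (gn i)))
      (by rw [hL2]; exact List.mem_append.2 (Or.inr (List.mem_ofFn.2 ⟨i, rfl⟩)))
    rw [map_mul, map_inv, inv_mul_eq_one, FreeGroup.lift_apply_of] at this
    exact this.symm
  have e2 : φ.comp ψ = MonoidHom.id _ := by
    refine MonoidHom.eq_of_eqOn_dense h2 ?_
    rintro _ ⟨i, rfl⟩
    simp [hψ, hφP, hV]
  exact ⟨MonoidHom.toMulEquiv φ ψ e1 e2⟩

end CfsgLib.Presentations
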