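import Mathlib
import Cfsg.Agent.Lib.Presentations.Generators

/-!
Presentations with a known number of generators.
-/

set_option autoImplicit false

namespace CfsgLib.Presentations

universe u v

variable {T : Type u} [Group T]

theorem BoundedOn.reindex {κ κ' : Type} {m : ℕ} (h : BoundedOn T κ m) (e : κ ≃ κ') :
    BoundedOn T κ' m := by
  obtain ⟨g, L, hL, h1, h2, h3⟩ := h
  refine ⟨g ∘ e.symm, L.map (FreeGroup.map e), by simpa using hL, fun r hr => ?_, ?_, fun Γ _ f hf => ?_⟩
  · obtain ⟨s, hs, rfl⟩ := List.mem_map.1 hr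
    rw [← h1 s hs]
    exact DFunLike.congr_fun (FreeGroup.ext_hom ((FreeGroup.lift (g ∘ e.symm)).comp (FreeGroup.map e))
      (FreeGroup.lift g) fun i => by simp) s
  · rwa [Set.range_comp, e.symm.range_eq_univ, Set.image_univ]
  · obtain ⟨ψ, hψ⟩ := h3 Γ (f ∘ e) fun r hr => by
      rw [← hf _ (List.mem_map.2 ⟨r, hr, rfl⟩)]
      exact DFunLike.congr_fun (FreeGroup.ext_hom (FreeGroup.lift (f ∘ e))
        ((FreeGroup.lift f).comp (FreeGroup.map e)) fun i => by simp) r
    exact ⟨ψ, fun i => (hψ _).trans (congrArg f (e.apply_symm_apply i))⟩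

/-- An idle generator costs one relation. -/
theorem BoundedOn.pad {κ : Type} {m : ℕ} (h : BoundedOn T κ m) (j : ℕ) :
    BoundedOn T (κ ⊕ Fin j) (m + j) := by
  obtain ⟨g, L, hL, h1, h2, h3⟩ := h
  refine ⟨Sum.elim g 1, L.map (FreeGroup.map Sum.inl) ++ List.ofFn fun i : Fin j => FreeGroup.of (Sum.inr i),
    by simp; omega, fun r hr => ?_, ?_, fun Γ _ f hf => ?_⟩
  · rcases List.mem_append.1 hr with hr | hr
    · obtain ⟨s, hs, rfl⟩ := List.mem_map.1 hr
      rw [← h1 s hs]
      exact DFunLike.congr_fun (FreeGroup.ext_hom ((FreeGroup.lift (Sum.elim g 1)).comp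
        (FreeGroup.map Sum.inl)) (FreeGroup.lift g) fun i => by simp) s
    · obtain ⟨i, rfl⟩ := List.mem_ofFn.1 hr
      simp
  · rw [eq_top_iff, ← h2]
    exact Subgroup.closure_mono (by rintro _ ⟨i, rfl⟩; exact ⟨Sum.inl i, rfl⟩)
  · obtain ⟨ψ, hψ⟩ := h3 Γ (f ∘ Sum.inl) fun r hr => by
      rw [← hf _ (List.mem_append_left _ (List.mem_map.2 ⟨r, hr, rfl⟩))]
      exact DFunLike.congr_fun (FreeGroup.ext_hom (FreeGroup.lift (f ∘ Sum.inl))
        ((FreeGroup.lift f).comp (FreeGroup.map Sum.inl)) fun i => by simp) r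
    refine ⟨ψ, ?_⟩
    rintro (i | i)
    · exact hψ i
    · have := hf _ (List.mem_append_right _ (List.mem_ofFn.2 ⟨i, rfl⟩))
      simp at this
      simp [this]

/-- Back to presentations. -/
theorem BoundedOn.presented {κ : Type} {m : ℕ} (h : BoundedOn T κ m) :
    ∃ rels : Finset (FreeGroup κ), rels.card ≤ m ∧
      Nonempty (PresentedGroup (↑rels : Set (FreeGroup κ)) ≃* T) := by
  classical
  obtain ⟨g, L, hL, h1, h2, h3⟩ := h
  refine ⟨L.toFinset, (List.toFinset_card_le L).trans hL, ?_⟩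
  set R : Set (FreeGroup κ) := ↑L.toFinset with hR
  let φ : PresentedGroup R →* T := PresentedGroup.toGroup (f := g) fun r hr => h1 r (by simpa [hR] using hr)
  have hmk : FreeGroup.lift (PresentedGroup.of (rels := R)) = PresentedGroup.mk R :=
    FreeGroup.ext_hom _ _ fun i => by simp only [FreeGroup.lift_apply_of]; rfl
  obtain ⟨ψ, hψ⟩ := h3 (PresentedGroup R) PresentedGroup.of fun r hr => by
    rw [hmk]; exact PresentedGroup.one_of_mem (by simpa [hR] using hr)
  refine ⟨MonoidHom.toMulEquiv φ ψ (PresentedGroup.ext fun i => ?_) (MonoidHom.eq_of_eqOn_dense h2 ?_)⟩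
  · simp [φ, hψ]
  · rintro _ ⟨i, rfl⟩
    simp [φ, hψ]

/-- Exactly `k` generators, padding as needed. -/
theorem BoundedOn.exact {κ : Type} [Fintype κ] {m k r : ℕ} (h : BoundedOn T κ m)
    (hk : Fintype.card κ ≤ k) (hr : m + (k - Fintype.card κ) ≤ r) :
    ∃ rels : Finset (FreeGroup (Fin k)), rels.card ≤ r ∧
      Nonempty (PresentedGroup (↑rels : Set (FreeGroup (Fin k))) ≃* T) :=
  (((h.pad (k - Fintype.card κ)).reindex (Fintype.equivFinOfCardEq (by simp; omega))).mono hr).presented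

theorem boundedOn_free (κ : Type) : BoundedOn (FreeGroup κ) κ 0 := by
  refine ⟨FreeGroup.of, [], le_rfl, by simp, FreeGroup.closure_range_of κ, fun Γ _ f _ => ?_⟩
  exact ⟨FreeGroup.lift f, fun i => by simp⟩

/-- Presentations of two groups together present their free product. -/
theorem BoundedOn.coprod {A : Type u} {B : Type v} [Group A] [Group B] {κA κB : Type} {a b : ℕ}
    (hA : BoundedOn A κA a) (hB : BoundedOn B κB b) :
    BoundedOn (Monoid.Coprod A B) (κA ⊕ κB) (a + b) := by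
  have h := BoundedOn.glue (Monoid.Coprod.inl : A →* Monoid.Coprod A B) Monoid.Coprod.inr hA hB
    Monoid.Coprod.range_inl_sup_range_inr [] (by simp) fun Γ _ α β _ =>
      ⟨Monoid.Coprod.lift α β, by simp, by simp⟩
  simpa using h

end CfsgLib.Presentations
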