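import Mathlib
import Cfsg.Agent.Lib.Presentations.PresOn
import Cfsg.Agent.Lib.SL2Pres.Main

/-!
Five relations on two generators present SL₂ of a prime field of odd order.
-/

set_option autoImplicit false

namespace CfsgLib.Presentations

open CfsgLib.SL2Pres
open Multiplicative (ofAdd toAdd)
open Polynomial
open scoped MatrixGroups

universe u

/-- Dropping a generator that one relation expresses in the others. -/
theorem BoundedOn.drop {T : Type u} [Group T] {κ κ' : Type} [DecidableEq κ]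
    {rels : Finset (FreeGroup κ)} (e : PresentedGroup (↑rels : Set (FreeGroup κ)) ≃* T)
    (L : List (FreeGroup κ)) (r : FreeGroup κ) (hrels : rels = (L ++ [r]).toFinset)
    (ι : κ' → κ) (σ : FreeGroup κ →* FreeGroup κ') (hσ : ∀ i, σ (FreeGroup.of (ι i)) = FreeGroup.of i)
    (hr : ∀ (G : Type) [Group G] (f : κ → G), FreeGroup.lift f r = 1 →
      ∀ j, f j = FreeGroup.lift (f ∘ ι) (σ (FreeGroup.of j)))
    (hr' : σ r = 1) : BoundedOn T κ' L.length := by
  set R : Set (FreeGroup κ) := ↑rels with hR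
  let o : κ → PresentedGroup R := PresentedGroup.of
  have hmk : FreeGroup.lift o = PresentedGroup.mk R :=
    FreeGroup.ext_hom _ _ fun i => by simp only [FreeGroup.lift_apply_of]; rfl
  have hone : ∀ x ∈ L ++ [r], FreeGroup.lift o x = 1 := fun x hx => by
    rw [hmk]; exact PresentedGroup.one_of_mem (by simpa [hR, hrels, or_comm] using hx)
  have hsub : ∀ x, FreeGroup.lift (o ∘ ι) (σ x) = FreeGroup.lift o x := fun x =>
    DFunLike.congr_fun (FreeGroup.ext_hom ((FreeGroup.lift (o ∘ ι)).comp σ) (FreeGroup.lift o)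
      fun j => by simp [← hr _ o (hone r (by simp)) j]) x
  refine ⟨fun i => e (o (ι i)), L.map σ, (List.length_map σ).le, fun x hx => ?_, ?_, fun Γ _ f hf => ?_⟩
  · obtain ⟨s, hs, rfl⟩ := List.mem_map.1 hx
    rw [show (fun i => e (o (ι i))) = e.toMonoidHom ∘ (o ∘ ι) from rfl, ← lift_natural, hsub,
      hone s (by simp [hs]), map_one]
  · have hle : Subgroup.closure (Set.range o) ≤ Subgroup.closure (Set.range (o ∘ ι)) := by
      rw [Subgroup.closure_le]
      rintro _ ⟨j, rfl⟩
      rw [hr _ o (hone r (by simp)) j, ← FreeGroup.range_lift_eq_closure]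
      exact ⟨_, rfl⟩
    have := congrArg (Subgroup.map e.toMonoidHom)
      (top_le_iff.1 ((PresentedGroup.closure_range_of R).ge.trans hle))
    rwa [MonoidHom.map_closure, ← Set.range_comp, Subgroup.map_top_of_surjective _ e.surjective]
      at this
  · let f' : κ → Γ := fun j => FreeGroup.lift f (σ (FreeGroup.of j))
    have hf' : ∀ x, FreeGroup.lift f' x = FreeGroup.lift f (σ x) := fun x =>
      DFunLike.congr_fun (FreeGroup.ext_hom (FreeGroup.lift f') ((FreeGroup.lift f).comp σ)
        fun j => by simp [f']) x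
    let ψ := PresentedGroup.toGroup (rels := R) (f := f') fun x hx => by
      simp only [hR, hrels, Finset.mem_coe, List.mem_toFinset, List.mem_append,
        List.mem_singleton] at hx
      rw [hf']
      rcases hx with hx | rfl
      · exact hf _ (List.mem_map.2 ⟨x, hx, rfl⟩)
      · rw [hr', map_one]
    exact ⟨ψ.comp e.symm.toMonoidHom, fun i => by simp [ψ, o, f', hσ]⟩

/-- The powers of an element of order dividing a prime as a homomorphism. -/
theorem exists_powHom {G : Type*} [Group G] {p : ℕ} [NeZero p] (u : G) (hu : u ^ p = 1) :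
    ∃ X : Multiplicative (ZMod p) →* G, ∀ c : ZMod p, X (ofAdd c) = u ^ c.val := by
  refine ⟨{ toFun := fun c => u ^ (toAdd c).val, map_one' := by simp, map_mul' := fun a b => ?_ },
    fun c => rfl⟩
  rw [toAdd_mul, ZMod.val_add, ← pow_eq_pow_mod _ hu, pow_add]

theorem xHom_pow {p : ℕ} [Fact p.Prime] (c : ZMod p) :
    xHom (ZMod p) (ofAdd 1) ^ c.val = xHom (ZMod p) (ofAdd c) := by
  rw [← map_pow, ← ofAdd_nsmul, nsmul_one, ZMod.natCast_zmod_val]

theorem sl_prime_five (p : ℕ) [Fact p.Prime] (hp : 3 ≤ p) :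
    BoundedOn (SL(2, ZMod p)) (Fin 2) 5 := by
  classical
  obtain ⟨t, ht, hord⟩ := exists_gen (ZMod p)
  rw [ZMod.card] at hord
  set r := p / 2 with hrdef
  have hodd : p % 2 = 1 := (Fact.out : p.Prime).eq_two_or_odd.resolve_left (by omega)
  have hr0 : 0 < r := by omega
  have ho1 : orderOf t = 2 * r := by rw [hord]; omega
  have hneg : (t : ZMod p) ^ r = -1 := by
    have h1 : ((t : ZMod p) ^ r) ^ 2 = 1 := by
      rw [← pow_mul, mul_comm, ← ho1, ← Units.val_pow_eq_pow_val, pow_orderOf_eq_one, Units.val_one]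
    rcases sq_eq_one_iff.1 h1 with h | h
    · exact absurd (Units.ext (by simpa using h) : t ^ r = 1)
        (pow_ne_one_of_lt_orderOf hr0.ne' (by omega))
    · exact h
  have hN : 0 < orderOf t := orderOf_pos t
  set s : ZMod p := (t : ZMod p) ^ 2 with hs
  have hspan : ∀ c : ZMod p, ∃ P : ℤ[X], aeval s P = c := fun c =>
    ⟨Polynomial.C (c.val : ℤ), by simp [-ZMod.natCast_val, ZMod.natCast_zmod_val]⟩
  set a := (t : ZMod p).val
  set b := (-(t : ZMod p)⁻¹).val
  set M := slModel t ht hspan r hneg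
  let D6 : FreeGroup (Fin 3) := gW * gU ^ a * gW⁻¹ * (gU ^ b * gH⁻¹ * gW * gU ^ b)⁻¹
  let L : List (FreeGroup (Fin 3)) :=
    [gU ^ p, gH * gU * gH⁻¹ * (gU ^ s.val)⁻¹, gW * gH * gW⁻¹ * gH, gW * gW * (gH ^ r)⁻¹,
      (gU * gW) ^ 3]
  obtain ⟨e⟩ : Nonempty (PresentedGroup (↑(L ++ [D6]).toFinset : Set (FreeGroup (Fin 3))) ≃*
      SL(2, ZMod p)) := by
    refine nonempty_equiv M hN (pow_ne_zero _ t.ne_zero) hspan _ (fun x hx => ?_) fun G _ u h w hsat => ?_
    · simp only [L, D6, List.mem_toFinset, List.mem_append, List.mem_cons, List.not_mem_nil,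
        or_false] at hx
      rcases hx with (rfl | rfl | rfl | rfl | rfl) | rfl <;>
        simp only [map_mul, map_inv, map_pow, lift_gU, lift_gH, lift_gW]
      · exact hom_pow_char (F := ZMod p) M.X
      · show hDiag t * xHom (ZMod p) (ofAdd 1) * (hDiag t)⁻¹
          * ((xHom (ZMod p) (ofAdd 1)) ^ s.val)⁻¹ = 1
        rw [xHom_pow, sl2_conj, mul_one, mul_inv_cancel]
      · rw [M.whw, inv_mul_cancel]
      · rw [M.ww, mul_inv_cancel]
      · exact sl2_uw_cube
      · show wEl (ZMod p) * xHom (ZMod p) (ofAdd 1) ^ a * (wEl (ZMod p))⁻¹ *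
          (xHom (ZMod p) (ofAdd 1) ^ b * (hDiag t)⁻¹ * wEl (ZMod p) *
            xHom (ZMod p) (ofAdd 1) ^ b)⁻¹ = 1
        rw [xHom_pow, xHom_pow, sl2_trel, mul_inv_cancel]
    · have hh : ∀ x ∈ L ++ [D6], FreeGroup.lift ![u, h, w] x = 1 := fun x hx =>
        hsat x (by simpa [or_comm] using hx)
      simp only [L, D6, List.forall_mem_append, List.forall_mem_cons, List.forall_mem_nil, and_true,
        map_mul, map_inv, map_pow, lift_gU, lift_gH, lift_gW, mul_inv_eq_one] at hh
      obtain ⟨⟨hu, hconj, hwh, hww, hu3, -⟩, hdef, -⟩ := hh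
      obtain ⟨X, hX⟩ := exists_powHom u hu
      have hX1 : X (ofAdd 1) = u := by rw [hX, ZMod.val_one, pow_one]
      have hXh : IsConjHom s X h := fun c => by
        rw [hX c, ← conj_pow, hconj, ← hX s, ← map_pow, ← ofAdd_nsmul, nsmul_eq_mul,
          ZMod.natCast_zmod_val, mul_comm]
      have hwhw := eq_inv_of_mul_eq_one_left hwh
      let D : Rules G s (orderOf t) r :=
        { X := X, h := h, w := w, conj := hXh
          pow_N := by
            have e : w * h ^ r * w⁻¹ = (h ^ r)⁻¹ := by rw [← conj_pow, hwhw, inv_pow]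
            rw [← hww, show w * (w * w) * w⁻¹ = w * w by group] at e
            rw [ho1, two_mul, pow_add, ← hww]
            exact eq_inv_iff_mul_eq_one.1 e
          whw := hwhw, ww := hww }
      refine ⟨D, hX1, rfl, rfl, cov_all D hN ht
        (D.cov_one hN (pow_ne_zero _ t.ne_zero)
          (show (X (ofAdd 1) * w) ^ 3 = 1 by rw [hX1]; exact hu3)) 0 ?_⟩
      have : D.Cov (t : ZMod p) := by
        show D.Big (w * X (ofAdd _) * w⁻¹)
        rw [hX, hdef, ← hX, show D.h⁻¹ = D.h ^ (1 * (orderOf t - 1)) by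
          rw [← D.inv_pow_eq hN, pow_one]]
        refine D.big_mul_X ?_ _
        rw [mul_assoc]
        exact D.big_X_mul (D.big_pow_mul D.big_w _) _
      simpa using this
  let hw' : FreeGroup (Fin 2) := ((FreeGroup.of 0 ^ b)⁻¹ * (FreeGroup.of 1 * FreeGroup.of 0 ^ a *
    (FreeGroup.of 1)⁻¹) * (FreeGroup.of 0 ^ b)⁻¹ * (FreeGroup.of 1)⁻¹)⁻¹
  refine (BoundedOn.drop e L D6 rfl ![0, 2]
    (FreeGroup.lift ![FreeGroup.of 0, hw', FreeGroup.of 1]) (fun i => by fin_cases i <;> simp) ?_ ?_).mono le_rfl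
  · intro G _ f hf j
    simp only [D6, gU, gH, gW, map_mul, map_inv, map_pow, FreeGroup.lift_apply_of, mul_inv_eq_one] at hf
    have h1 : (f 1)⁻¹ = (f 0 ^ b)⁻¹ * (f 2 * f 0 ^ a * (f 2)⁻¹) * (f 0 ^ b)⁻¹ * (f 2)⁻¹ := by
      rw [hf]; group
    fin_cases j <;> simp [hw']
    rw [← inv_inv (f 1), h1]; group
  · simp only [D6, gU, gH, gW, map_mul, map_inv, map_pow, FreeGroup.lift_apply_of]
    simp [hw']
    group

end CfsgLib.Presentations
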