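import Mathlib
import Cfsg.Agent.Lib.Presentations.AltGlue
import Cfsg.Agent.Lib.SL3Pres.Main
import Cfsg.Agent.Lib.Laws.Embeddings

/-!
Permutation matrices and the three-dimensional block inside a special linear group.
-/

set_option autoImplicit false

namespace CfsgLib.Presentations

open Equiv Equiv.Perm Matrix
open Carmichael
open Multiplicative (ofAdd)
open CfsgLib.SL2Pres (IsConjHom)

variable {F : Type*} [Field F] {n : ℕ}

/-- Even permutations as matrices of determinant one. -/
noncomputable def altMat (F : Type*) [Field F] (n : ℕ) :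
    alternatingGroup (Fin n) →* Matrix.SpecialLinearGroup (Fin n) F where
  toFun σ := ⟨Matrix.permMatrixHom (n := Fin n) (R := F) σ.1, by
    show (Equiv.Perm.permMatrix F (σ.1)⁻¹).det = 1
    rw [Matrix.det_permutation, sign_inv, Equiv.Perm.mem_alternatingGroup.1 σ.2]
    simp⟩
  map_one' := Subtype.ext (by show Matrix.permMatrixHom (1 : Perm (Fin n)) = _; rw [map_one]; rfl)
  map_mul' σ τ := Subtype.ext (by
    show Matrix.permMatrixHom (σ.1 * τ.1) = _
    rw [map_mul]; rfl)

theorem altMat_conj (σ : alternatingGroup (Fin n)) {i j : Fin n} (hij : i ≠ j) (c : F) :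
    altMat F n σ * Matrix.SpecialLinearGroup.transvection hij c * (altMat F n σ)⁻¹
      = Matrix.SpecialLinearGroup.transvection ((σ : Perm (Fin n)).injective.ne hij) c := by
  rw [mul_inv_eq_iff_eq_mul]
  refine Subtype.ext ?_
  show Equiv.Perm.permMatrix F ((σ : Perm (Fin n)))⁻¹ * Matrix.transvection i j c
    = Matrix.transvection ((σ : Perm (Fin n)) i) ((σ : Perm (Fin n)) j) c
      * Equiv.Perm.permMatrix F ((σ : Perm (Fin n)))⁻¹
  rw [Equiv.Perm.permMatrix, PEquiv.toMatrix_toPEquiv_mul, PEquiv.mul_toMatrix_toPEquiv]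
  ext a b
  have key : ∀ x y : Fin n, x = (σ : Perm (Fin n))⁻¹ y ↔ (σ : Perm (Fin n)) x = y := fun x y => by
    rw [Equiv.Perm.eq_inv_iff_eq]
  simp only [Matrix.submatrix_apply, id_eq, Matrix.transvection, Matrix.add_apply, Matrix.one_apply,
    Matrix.single_apply, Equiv.Perm.inv_def, Equiv.symm_symm]
  simp only [← Equiv.Perm.inv_def, key, Equiv.Perm.inv_eq_iff_eq]
  congr 1
  by_cases h : a = (σ : Perm (Fin n)) b <;> simp [h]

/-- The equivalence of index sets. -/
def splitEquiv (h3 : 3 ≤ n) : Fin 3 ⊕ Fin (n - 3) ≃ Fin n :=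
  finSumFinEquiv.trans (finCongr (Nat.add_sub_cancel' h3))

theorem splitEquiv_inl (h3 : 3 ≤ n) (i : Fin 3) : splitEquiv h3 (Sum.inl i) = Fin.castLE h3 i := by
  simp [splitEquiv, Fin.ext_iff]

/-- The three-dimensional block. -/
noncomputable def blockMat (F : Type*) [Field F] (h3 : 3 ≤ n) :
    Matrix.SpecialLinearGroup (Fin 3) F →* Matrix.SpecialLinearGroup (Fin n) F where
  toFun M := ⟨Matrix.reindex (splitEquiv h3) (splitEquiv h3) (Matrix.fromBlocks M.1 0 0 1), by
    rw [Matrix.det_reindex_self, Matrix.det_fromBlocks_zero₂₁, M.2, det_one, one_mul]⟩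
  map_one' := Subtype.ext (by simp [Matrix.fromBlocks_one])
  map_mul' M N := Subtype.ext (by
    show Matrix.reindex (splitEquiv h3) (splitEquiv h3) (Matrix.fromBlocks (M.1 * N.1) 0 0 1)
      = Matrix.reindex (splitEquiv h3) (splitEquiv h3) (Matrix.fromBlocks M.1 0 0 1)
        * Matrix.reindex (splitEquiv h3) (splitEquiv h3) (Matrix.fromBlocks N.1 0 0 1)
    simp [Matrix.submatrix_mul_equiv, Matrix.fromBlocks_multiply])

theorem blockMat_root (h3 : 3 ≤ n) {i j : Fin 3} (hij : i ≠ j) (c : F) :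
    blockMat F h3 (SL3Pres.mRoot F i j hij (ofAdd c))
      = Matrix.SpecialLinearGroup.transvection
          ((Fin.castLE_injective h3).ne hij) c := by
  refine Subtype.ext ?_
  show Matrix.reindex (splitEquiv h3) (splitEquiv h3)
      (Matrix.fromBlocks (Matrix.transvection i j c) 0 0 1) = _
  rw [← Equiv.eq_symm_apply]
  ext (a | a) (b | b) <;>
    simp [Matrix.SpecialLinearGroup.transvection, Matrix.transvection, Matrix.one_apply, Matrix.single_apply, ← splitEquiv_inl h3]

theorem permMat_mC (h3 : 3 ≤ n) (σ : alternatingGroup (Fin n))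
    (h0 : (σ : Perm (Fin n)) (Fin.castLE h3 0) = Fin.castLE h3 1)
    (h1 : (σ : Perm (Fin n)) (Fin.castLE h3 1) = Fin.castLE h3 2)
    (h2 : (σ : Perm (Fin n)) (Fin.castLE h3 2) = Fin.castLE h3 0)
    (hfix : ∀ x : Fin n, 3 ≤ x.1 → (σ : Perm (Fin n)) x = x) :
    altMat F n σ = blockMat F h3 (SL3Pres.mC F) := by
  refine Subtype.ext ?_
  show Equiv.Perm.permMatrix F ((σ : Perm (Fin n)))⁻¹ = Matrix.reindex (splitEquiv h3) (splitEquiv h3)
      (Matrix.fromBlocks (SL3Pres.mC F : Matrix (Fin 3) (Fin 3) F) 0 0 1)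
  rw [← Equiv.symm_apply_eq]
  ext a b
  simp only [Matrix.reindex_symm, Matrix.reindex_apply, Equiv.symm_symm, Matrix.submatrix_apply,
    Equiv.Perm.permMatrix, PEquiv.toMatrix_apply, Equiv.toPEquiv_apply, Option.mem_def,
    Option.some.injEq, Equiv.Perm.inv_eq_iff_eq]
  have hc : (SL3Pres.mC F : Matrix (Fin 3) (Fin 3) F) = !![0, 0, 1; 1, 0, 0; 0, 1, 0] := rfl
  have hb : ∀ y : Fin (n - 3), (σ : Perm (Fin n)) (splitEquiv h3 (Sum.inr y)) = splitEquiv h3 (Sum.inr y) :=
    fun y => hfix _ (by simp [splitEquiv])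
  have hl : ∀ x : Fin 3, (σ : Perm (Fin n)) (splitEquiv h3 (Sum.inl x)) = splitEquiv h3 (Sum.inl (x + 1)) := by
    intro x
    rw [splitEquiv_inl, splitEquiv_inl]
    fin_cases x
    exacts [h0, h1, h2]
  rcases b with b | b
  · rw [hl]
    rcases a with a | a <;> simp only [(splitEquiv h3).injective.eq_iff, reduceCtorEq, if_false,
      Sum.inl.injEq, Matrix.fromBlocks_apply₁₁, Matrix.fromBlocks_apply₂₁, Matrix.zero_apply, hc]
    fin_cases a <;> fin_cases b <;> simp (config := { decide := true })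
  · rw [hb]
    rcases a with a | a <;> simp [Matrix.one_apply]

/-- Every finite alternating group is generated by two elements. -/
theorem alt_two_generated (Ω : Type) [Fintype Ω] [DecidableEq Ω] :
    ∃ a b : alternatingGroup Ω, Subgroup.closure ({a, b} : Set (alternatingGroup Ω)) = ⊤ := by
  classical
  by_cases h : Fintype.card Ω ≤ 2
  · have : Subsingleton (alternatingGroup Ω) := by
      refine ⟨fun x y => ?_⟩
      cases subsingleton_or_nontrivial Ω
      · exact Subsingleton.elim _ _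
      · have h2 := two_mul_nat_card_alternatingGroup (α := Ω)
        rw [Nat.card_perm, Nat.card_eq_fintype_card (α := Ω)] at h2
        have h3 := Nat.factorial_le h
        have : Nat.card (alternatingGroup Ω) = 1 := by
          have : 0 < Nat.card (alternatingGroup Ω) := Nat.card_pos
          simp at h3
          omega
        exact ((Nat.card_eq_one_iff_unique.1 this).1).elim x y
    exact ⟨1, 1, eq_top_iff.2 fun x _ => by rw [Subsingleton.elim x 1]; exact one_mem _⟩
  obtain ⟨c₁, c₂, a₀, h12, h13, h23⟩ := Fintype.two_lt_card_iff.1 (not_le.1 h)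
  obtain ⟨s⟩ := exists_shift h12 ((Finset.univ.erase c₁).erase c₂) a₀
    (by simp [h13.symm, h23.symm]) (by simp) (by simp)
  refine ⟨gen h12 ⟨a₀, h13.symm, h23.symm⟩, s.σ, ?_⟩
  rw [eq_top_iff, ← gen_closure h12, Subgroup.closure_le]
  have key : ∀ k : ℕ, ∀ i : Idx c₁ c₂, ((s.σ : Perm Ω) ^ k) a₀ = i.1 →
      gen h12 i ∈ Subgroup.closure ({gen h12 ⟨a₀, h13.symm, h23.symm⟩, s.σ} : Set (alternatingGroup Ω)) := by
    intro k
    induction k with
    | zero =>
      intro i hi
      obtain rfl : (⟨a₀, h13.symm, h23.symm⟩ : Idx c₁ c₂) = i := Subtype.ext hi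
      exact Subgroup.subset_closure (Or.inl rfl)
    | succ k ih =>
      intro i hi
      rw [pow_succ', Perm.mul_apply] at hi
      have hmem : ((s.σ : Perm Ω) ^ k) a₀ ∈ (Finset.univ.erase c₁).erase c₂ := by
        clear ih hi
        induction k with
        | zero => simp [h13.symm, h23.symm]
        | succ k ih => rw [pow_succ', Perm.mul_apply]; exact s.maps _ ih
      let j : Idx c₁ c₂ := ⟨((s.σ : Perm Ω) ^ k) a₀, by simpa [and_comm] using hmem⟩
      have e := congrArg (· ^ s.ε) (s.conj j i hi)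
      simp only [zpow_eps_cancel s.hε] at e
      rw [← e]
      refine zpow_mem (mul_mem (mul_mem ?_ (ih j rfl)) (inv_mem ?_)) _ <;>
        exact Subgroup.subset_closure (Or.inr rfl)
  rintro _ ⟨i, rfl⟩
  obtain ⟨k, hk⟩ := s.reach i.1 (by simp [i.2.1, i.2.2])
  exact key k i hk

/-- Squares of a generator span the field. -/
theorem span_sq [Fintype F] {t : Fˣ} (ht : ∀ x : Fˣ, ∃ k : ℕ, t ^ k = x) (c : F) :
    ∃ P : Polynomial ℤ, Polynomial.aeval ((t : F) ^ 2) P = c := by
  by_cases h2 : (2 : F) = 0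
  · have : CharP F 2 := CharTwo.of_one_ne_zero_of_two_eq_zero one_ne_zero h2
    obtain ⟨y, rfl⟩ := FiniteField.isSquare_of_char_two (ringChar.eq F 2) c
    rcases eq_or_ne y 0 with rfl | hy0
    · exact ⟨0, by simp⟩
    · obtain ⟨k, hk⟩ := ht (Units.mk0 y hy0)
      refine ⟨Polynomial.X ^ k, ?_⟩
      rw [map_pow, Polynomial.aeval_X, ← pow_mul, mul_comm 2 k, pow_mul,
        ← Units.val_pow_eq_pow_val t, hk, Units.val_mk0, pow_two]
  · exact CfsgLib.SL2Pres.square_generates h2 ht c

theorem commute_of_span {Γ : Type*} [Group Γ] {s : F} {X : Multiplicative F →* Γ} {h g : Γ}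
    (hX : IsConjHom s X h) (hspan : ∀ c : F, ∃ P : Polynomial ℤ, Polynomial.aeval s P = c)
    (h1 : Commute g (X (ofAdd 1))) (hh : Commute g h) (a : F) : Commute g (X (ofAdd a)) :=
  (Subgroup.mem_centralizer_singleton_iff.1
    (CfsgLib.SL2Pres.hom_mem_of_span X h hX hspan (Subgroup.centralizer ({g} : Set Γ))
      (Subgroup.mem_centralizer_singleton_iff.2 h1.symm.eq)
      (Subgroup.mem_centralizer_singleton_iff.2 hh.symm.eq) a)).symm

theorem mDiag_conj10 (a b : Fˣ) (v : F) :
    SL3Pres.mDiag F a b * SL3Pres.mRoot F 1 0 (by decide) (ofAdd v) * (SL3Pres.mDiag F a b)⁻¹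
      = SL3Pres.mRoot F 1 0 (by decide) (ofAdd ((b : F) / a * v)) := by
  rw [mul_inv_eq_iff_eq_mul]
  refine Subtype.ext ?_
  rw [Matrix.SpecialLinearGroup.coe_mul, Matrix.SpecialLinearGroup.coe_mul, SL3Pres.mRoot_val,
    SL3Pres.mRoot_val]
  ext r s
  fin_cases r <;> fin_cases s <;>
    simp [SL3Pres.mDiag, Matrix.transvection, Matrix.mul_apply, Fin.sum_univ_three,
      Matrix.single_apply] <;> field_simp

theorem mDiag_conj02 (a b : Fˣ) (v : F) :
    SL3Pres.mDiag F a b * SL3Pres.mY F (ofAdd v) * (SL3Pres.mDiag F a b)⁻¹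
      = SL3Pres.mY F (ofAdd ((a : F) * a * b * v)) := by
  rw [mul_inv_eq_iff_eq_mul]
  refine Subtype.ext ?_
  rw [Matrix.SpecialLinearGroup.coe_mul, Matrix.SpecialLinearGroup.coe_mul, SL3Pres.mY,
    SL3Pres.mRoot_val, SL3Pres.mRoot_val]
  ext r s
  fin_cases r <;> fin_cases s <;>
    simp [SL3Pres.mDiag, Matrix.transvection, Matrix.mul_apply, Fin.sum_univ_three,
      Matrix.single_apply] <;> field_simp

end CfsgLib.Presentations
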