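import Mathlib
import Cfsg.Agent.Lib.Presentations.SLModel

/-!
Special linear groups of every dimension with boundedly many relations.
-/

set_option autoImplicit false

namespace CfsgLib.Presentations

open Equiv Equiv.Perm Matrix
open Carmichael
open Multiplicative (ofAdd)
open CfsgLib.SL2Pres (IsConjHom)
open CfsgLib.SL3Pres (mX mY mC mH mDiag mRoot)

variable {F : Type*} [Field F] [Fintype F]

theorem sl3_bounded (F : Type*) [Field F] [Fintype F] :
    Bounded (Matrix.SpecialLinearGroup (Fin 3) F) 14 := by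
  obtain ⟨p, hp⟩ := CharP.exists F
  have : Fact p.Prime := ⟨CharP.char_is_prime F p⟩
  obtain ⟨t, ht, -⟩ := CfsgLib.SL2Pres.exists_gen F
  suffices h : ∃ rels : Finset (FreeGroup (Fin 4)), rels.card ≤ 14 ∧
      Nonempty (PresentedGroup (↑rels : Set (FreeGroup (Fin 4))) ≃*
        Matrix.SpecialLinearGroup (Fin 3) F) by
    obtain ⟨rels, hcard, ⟨e⟩⟩ := h
    exact Bounded.of_presented hcard e
  by_cases h2 : Fintype.card F = 2
  · exact CfsgLib.SL3Pres.sl3_two h2 ht
  by_cases h4 : Fintype.card F = 4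
  · exact CfsgLib.SL3Pres.sl3_four h4 ht
  exact CfsgLib.SL3Pres.sl3_general (p := p) h2 h4 ht

theorem comm_cm {G : Type*} [Group G] {a b c : G} (h : SL3Pres.cm a b = c) : a * b * a⁻¹ = c * b :=
  SL3Pres.cm_eq_iff.1 h

/-- `SL_n` for `n ≥ 4`. -/
theorem sl_bounded (n : ℕ) (hn : 4 ≤ n) (F : Type*) [Field F] [Fintype F] :
    Bounded (Matrix.SpecialLinearGroup (Fin n) F) 61 := by
  classical
  have h3 : 3 ≤ n := by omega
  obtain ⟨t, ht, -⟩ := CfsgLib.SL2Pres.exists_gen F
  have hti : ∀ x : Fˣ, ∃ k : ℕ, t⁻¹ ^ k = x := fun x => by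
    obtain ⟨k, hk⟩ := ht x⁻¹
    exact ⟨k, by rw [inv_pow, hk, inv_inv]⟩
  let e : Fin 3 → Fin n := Fin.castLE h3
  let i3 : Fin n := ⟨3, by omega⟩
  have he : Function.Injective e := Fin.castLE_injective h3
  have he3 : ∀ a, e a ≠ i3 := fun a h => by
    have h1 : a.1 = 3 := congrArg Fin.val h
    have := a.2
    omega
  have h01 : e 0 ≠ e 1 := he.ne (by decide)
  have h02 : e 0 ≠ e 2 := he.ne (by decide)
  have h12 : e 1 ≠ e 2 := he.ne (by decide)
  let σc : alternatingGroup (Fin n) := gen h01 ⟨e 2, h02.symm, h12.symm⟩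
  obtain ⟨hc0, hc1, hc2, hcfix⟩ := cyc_apply h01 (i := e 2) ⟨h02.symm, h12.symm⟩
  let σs : alternatingGroup (Fin n) := ⟨swap (e 1) (e 2) * swap (e 2) i3, by
    rw [Equiv.Perm.mem_alternatingGroup, map_mul, sign_swap h12, sign_swap (he3 2)]; rfl⟩
  have hs0 : (σs : Perm (Fin n)) (e 0) = e 0 := by
    show swap (e 1) (e 2) (swap (e 2) i3 (e 0)) = e 0
    rw [swap_apply_of_ne_of_ne h02 (he3 0), swap_apply_of_ne_of_ne h01 h02]
  have hs1 : (σs : Perm (Fin n)) (e 1) = e 2 := by
    show swap (e 1) (e 2) (swap (e 2) i3 (e 1)) = e 2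
    rw [swap_apply_of_ne_of_ne h12 (he3 1), swap_apply_left]
  have hs2 : (σs : Perm (Fin n)) (e 2) = i3 := by
    show swap (e 1) (e 2) (swap (e 2) i3 (e 2)) = i3
    rw [swap_apply_left, swap_apply_of_ne_of_ne (he3 1).symm (he3 2).symm]
  let σ4 : alternatingGroup (Fin n) := ⟨swap (e 0) (e 2) * swap (e 1) i3, by
    rw [Equiv.Perm.mem_alternatingGroup, map_mul, sign_swap h02, sign_swap (he3 1)]; rfl⟩
  have h40 : (σ4 : Perm (Fin n)) (e 0) = e 2 := by
    show swap (e 0) (e 2) (swap (e 1) i3 (e 0)) = e 2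
    rw [swap_apply_of_ne_of_ne h01 (he3 0), swap_apply_left]
  have h41 : (σ4 : Perm (Fin n)) (e 1) = i3 := by
    show swap (e 0) (e 2) (swap (e 1) i3 (e 1)) = i3
    rw [swap_apply_left, swap_apply_of_ne_of_ne (he3 0).symm (he3 2).symm]
  -- stabiliser of the first pair
  let S : Finset (Fin n) := (Finset.univ.erase (e 0)).erase (e 1)
  obtain ⟨sa, sb, hsab⟩ := alt_two_generated {x // x ∈ S}
  have hstab : ∀ h : alternatingGroup (Fin n), (h : Perm (Fin n)) (e 0) = e 0 →
      (h : Perm (Fin n)) (e 1) = e 1 →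
      h ∈ Subgroup.closure ({altIncl S sa, altIncl S sb} : Set (alternatingGroup (Fin n))) := by
    intro h e0 e1
    obtain ⟨s, hs⟩ := exists_pre S h fun x hx => by
      simp only [S, Finset.mem_erase, Finset.mem_univ, and_true]
      exact ⟨fun q => hx (q ▸ e1), fun q => hx (q ▸ e0)⟩
    rw [← hs, show ({altIncl S sa, altIncl S sb} : Set (alternatingGroup (Fin n)))
      = altIncl S '' {sa, sb} by rw [Set.image_pair], ← MonoidHom.map_closure, hsab]
    exact ⟨s, trivial, rfl⟩
  have hSfix : ∀ s : alternatingGroup {x // x ∈ S}, ∀ a : Fin 3, a ≠ 2 →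
      ((altIncl S s : alternatingGroup (Fin n)) : Perm (Fin n)) (e a) = e a := by
    intro s a ha
    refine Equiv.Perm.ofSubtype_apply_of_not_mem _ ?_
    fin_cases a <;> simp [S] at ha ⊢
  set f := altMat F n
  set g := blockMat F h3
  let E : ∀ {i j : Fin n}, i ≠ j → F → Matrix.SpecialLinearGroup (Fin n) F :=
    fun hij c => Matrix.SpecialLinearGroup.transvection hij c
  have hgR : ∀ (i j : Fin 3) (hij : i ≠ j) (c : F),
      g (mRoot F i j hij (ofAdd c)) = E (he.ne hij) c := fun i j hij c => blockMat_root h3 hij c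
  have hEc : ∀ (σ : alternatingGroup (Fin n)) {i j i' j' : Fin n} (hij : i ≠ j) (hij' : i' ≠ j')
      (c : F), (σ : Perm (Fin n)) i = i' → (σ : Perm (Fin n)) j = j' →
      f σ * E hij c * (f σ)⁻¹ = E hij' c := by
    intro σ i j i' j' hij hij' c e1 e2
    subst e1 e2
    exact altMat_conj σ hij c
  have hEcomm : ∀ {i j k l : Fin n} (hij : i ≠ j) (hkl : k ≠ l), j ≠ k → l ≠ i → ∀ a b : F,
      Commute (E hij a) (E hkl b) := by
    intro i j k l hij hkl hjk hli a b
    refine Subtype.ext ?_
    show Matrix.transvection i j a * Matrix.transvection k l b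
      = Matrix.transvection k l b * Matrix.transvection i j a
    simp only [Matrix.transvection, add_mul, mul_add, one_mul, mul_one,
      Matrix.single_mul_single_of_ne _ _ _ _ hjk, Matrix.single_mul_single_of_ne _ _ _ _ hli]
    abel
  have hfc : f σc = g (mC F) := permMat_mC h3 σc hc0 hc1 hc2 fun x hx =>
    hcfix x (fun h => by simp [h, e] at hx) (fun h => by simp [h, e] at hx)
      (fun h => by simp [h, e] at hx)
  have hY1 : f σs * g (mX F (ofAdd 1)) * (f σs)⁻¹ = g (mY F (ofAdd 1)) := by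
    rw [SL3Pres.mX, SL3Pres.mY, hgR, hgR, hEc σs _ _ _ hs0 hs1]
  have hgen : f.range ⊔ g.range = ⊤ := by
    refine CfsgLib.Classical.SL_le_of_transvections _ fun i j hij c => ?_
    obtain ⟨h, h0, h1⟩ : ∃ h : alternatingGroup (Fin n), (h : Perm (Fin n)) (e 0) = i ∧
        (h : Perm (Fin n)) (e 1) = j := by
      obtain ⟨π, hπ⟩ := Equiv.Perm.exists_extending_pair (![e 0, e 1]) (![i, j])
        (by intro a b; fin_cases a <;> fin_cases b <;> simp [h01, h01.symm])
        (by intro a b; fin_cases a <;> fin_cases b <;> simp [hij, hij.symm])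
      have p0 := hπ 0; have p1 := hπ 1
      simp at p0 p1
      rcases Int.units_eq_one_or (sign π) with hs | hs
      · exact ⟨⟨π, Equiv.Perm.mem_alternatingGroup.2 hs⟩, p0, p1⟩
      · refine ⟨⟨π * swap (e 2) i3, Equiv.Perm.mem_alternatingGroup.2 (by
          rw [map_mul, hs, sign_swap (he3 2)]; rfl)⟩, ?_, ?_⟩
        · show π (swap (e 2) i3 (e 0)) = i
          rw [swap_apply_of_ne_of_ne h02 (he3 0), p0]
        · show π (swap (e 2) i3 (e 1)) = j
          rw [swap_apply_of_ne_of_ne h12 (he3 1), p1]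
    rw [show Matrix.SpecialLinearGroup.transvection hij c = f h * g (mX F (ofAdd c)) * (f h)⁻¹ by
      rw [SL3Pres.mX, hgR]; exact (hEc h _ hij c h0 h1).symm]
    exact mul_mem (mul_mem (Subgroup.mem_sup_left ⟨h, rfl⟩) (Subgroup.mem_sup_right ⟨_, rfl⟩))
      (inv_mem (Subgroup.mem_sup_left ⟨h, rfl⟩))
  let A := alternatingGroup (Fin n)
  let B := Matrix.SpecialLinearGroup (Fin 3) F
  let La : A → FreeGroup (A ⊕ B) := fun x => FreeGroup.of (Sum.inl x)
  let Lb : B → FreeGroup (A ⊕ B) := fun x => FreeGroup.of (Sum.inr x)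
  let d : B := mDiag F t t⁻¹
  let u : B := mX F (ofAdd 1)
  let v : B := mRoot F 1 0 (by decide) (ofAdd 1)
  let cw : FreeGroup (A ⊕ B) → FreeGroup (A ⊕ B) → FreeGroup (A ⊕ B) := fun a b => a * b * (b * a)⁻¹
  let yw : FreeGroup (A ⊕ B) := La σ4 * Lb u * (La σ4)⁻¹
  let dw : FreeGroup (A ⊕ B) := La σ4 * Lb d * (La σ4)⁻¹
  refine (Bounded.glue f g (alt_bounded n (by omega)) (sl3_bounded F) hgen
    [La σc * (Lb (mC F))⁻¹,
      La σs * Lb u * (La σs)⁻¹ * (Lb (mY F (ofAdd 1)))⁻¹,
      La σs * Lb d * (La σs)⁻¹ * (Lb (mH t))⁻¹,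
      cw (La (altIncl S sa)) (Lb u), cw (La (altIncl S sa)) (Lb d),
      cw (La (altIncl S sb)) (Lb u), cw (La (altIncl S sb)) (Lb d),
      cw (Lb u) yw, cw (Lb d) yw, cw (Lb u) dw, cw (Lb d) dw, cw (Lb v) yw, cw (Lb v) dw] ?_ ?_).mono
    (by simp only [List.length_cons, List.length_nil]; omega)
  · let w : Fin n → F := fun x => if x = e 0 then (t : F) else if x = e 1 then ((t⁻¹ : Fˣ) : F) else 1
    have hblock : ∀ (a b : Fˣ), (g (mDiag F a b) : Matrix (Fin n) (Fin n) F) = Matrix.diagonal
        (fun x => if x = e 0 then (a : F) else if x = e 1 then (b : F)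
          else if x = e 2 then (((a * b)⁻¹ : Fˣ) : F) else 1) := by
      intro a b
      show Matrix.reindex (splitEquiv h3) (splitEquiv h3) (Matrix.fromBlocks (mDiag F a b).1 0 0 1) = _
      rw [← Equiv.eq_symm_apply]
      ext (r | r) (s | s)
      · fin_cases r <;> fin_cases s <;>
          simp [mDiag, splitEquiv_inl, he.eq_iff, Matrix.diagonal_apply, e]
      · simp [Matrix.diagonal_apply, (splitEquiv h3).injective.eq_iff]
      · simp [Matrix.diagonal_apply, (splitEquiv h3).injective.eq_iff]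
      · have hne : ∀ k, splitEquiv h3 (Sum.inr r) ≠ e k := fun k h =>
          absurd ((splitEquiv h3).injective (h.trans (splitEquiv_inl h3 k).symm)) (by simp)
        simp [Matrix.diagonal_apply, (splitEquiv h3).injective.eq_iff, hne, Matrix.one_apply]
    have hd : (g d : Matrix (Fin n) (Fin n) F) = Matrix.diagonal w := by
      rw [hblock]
      congr 1; funext x
      simp [w]
    have hconjdiag : ∀ (σ : alternatingGroup (Fin n)) (M : Matrix.SpecialLinearGroup (Fin n) F)
        (v : Fin n → F), (M : Matrix (Fin n) (Fin n) F) = Matrix.diagonal v →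
        ((f σ * M * (f σ)⁻¹ : Matrix.SpecialLinearGroup (Fin n) F) : Matrix (Fin n) (Fin n) F)
          = Matrix.diagonal (v ∘ ((σ : Perm (Fin n))⁻¹ : Perm (Fin n))) := by
      intro σ M v hM
      have e1 : (f σ : Matrix (Fin n) (Fin n) F) * Matrix.diagonal v
          = Matrix.diagonal (v ∘ ((σ : Perm (Fin n))⁻¹ : Perm (Fin n))) * (f σ : Matrix (Fin n) (Fin n) F) := by
        show Equiv.Perm.permMatrix F ((σ : Perm (Fin n)))⁻¹ * _ = _ * Equiv.Perm.permMatrix F ((σ : Perm (Fin n)))⁻¹
        ext r s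
        simp only [Matrix.mul_diagonal, Matrix.diagonal_mul, Equiv.Perm.permMatrix,
          PEquiv.toMatrix_apply, Equiv.toPEquiv_apply, Option.mem_def, Option.some.injEq,
          Function.comp_apply]
        by_cases h : ((σ : Perm (Fin n)))⁻¹ r = s
        · simp [h, mul_comm]
        · rw [if_neg h, zero_mul, mul_zero]
      rw [Matrix.SpecialLinearGroup.coe_mul, Matrix.SpecialLinearGroup.coe_mul, hM, e1, mul_assoc,
        ← Matrix.SpecialLinearGroup.coe_mul, mul_inv_cancel, Matrix.SpecialLinearGroup.coe_one,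
        mul_one]
    have hcd : ∀ (M : Matrix.SpecialLinearGroup (Fin n) F) (v : Fin n → F) {i j : Fin n} (hij : i ≠ j)
        (c : F), (M : Matrix (Fin n) (Fin n) F) = Matrix.diagonal v → v i = v j →
        Commute M (E hij c) := by
      intro M v i j hij c hM hv
      refine Subtype.ext ?_
      show (M : Matrix (Fin n) (Fin n) F) * Matrix.transvection i j c
        = Matrix.transvection i j c * (M : Matrix (Fin n) (Fin n) F)
      rw [hM]
      ext r s
      rw [Matrix.diagonal_mul, Matrix.mul_diagonal]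
      simp only [Matrix.transvection, Matrix.add_apply, Matrix.one_apply, Matrix.single_apply]
      by_cases h1 : r = s
      · subst h1; ring
      · by_cases h2 : i = r ∧ j = s
        · obtain ⟨rfl, rfl⟩ := h2; rw [hv]; ring
        · simp [h1, h2]
    have hwv : ∀ s : alternatingGroup {x // x ∈ S}, ∀ x,
        w (((altIncl S s : alternatingGroup (Fin n)) : Perm (Fin n))⁻¹ x) = w x := by
      intro s x
      have f0 := hSfix s 0 (by decide)
      have f1 := hSfix s 1 (by decide)
      simp only [w, Equiv.Perm.inv_eq_iff_eq, f0, f1]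
    have hgu : g u = E h01 1 := hgR 0 1 _ 1
    have hgv : g v = E h01.symm 1 := hgR 1 0 _ 1
    have hy : f σ4 * g u * (f σ4)⁻¹ = E (he3 2) 1 := by rw [hgu, hEc σ4 _ (he3 2) _ h40 h41]
    have hdy := hconjdiag σ4 (g d) w hd
    have hw4 : w (((σ4 : Perm (Fin n))⁻¹ : Perm (Fin n)) (e 0))
        = w (((σ4 : Perm (Fin n))⁻¹ : Perm (Fin n)) (e 1)) := by
      have a0 : ((σ4 : Perm (Fin n))⁻¹ : Perm (Fin n)) (e 0) = e 2 := by
        rw [Equiv.Perm.inv_eq_iff_eq]
        show e 0 = swap (e 0) (e 2) (swap (e 1) i3 (e 2))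
        rw [swap_apply_of_ne_of_ne h12.symm (he3 2), swap_apply_right]
      have a1 : ((σ4 : Perm (Fin n))⁻¹ : Perm (Fin n)) (e 1) = i3 := by
        rw [Equiv.Perm.inv_eq_iff_eq]
        show e 1 = swap (e 0) (e 2) (swap (e 1) i3 i3)
        rw [swap_apply_right, swap_apply_of_ne_of_ne h01.symm h12]
      rw [a0, a1]
      simp [w, h02.symm, h12.symm, (he3 0).symm, (he3 1).symm]
    intro r hr
    simp only [List.mem_cons, List.not_mem_nil, or_false] at hr
    rcases hr with rfl | rfl | rfl | rfl | rfl | rfl | rfl | rfl | rfl | rfl | rfl | rfl | rfl <;>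
      simp only [cw, yw, dw, La, Lb, map_mul, map_inv, FreeGroup.lift_apply_of, Sum.elim_inl,
        Sum.elim_inr, mul_inv_eq_one]
    · exact hfc
    · exact hY1
    · refine Subtype.ext ((hconjdiag σs (g d) w hd).trans ?_)
      rw [SL3Pres.mH, hblock]
      congr 1; funext x
      have b0 : ((σs : Perm (Fin n))⁻¹ : Perm (Fin n)) x = e 0 ↔ x = e 0 := by
        rw [Equiv.Perm.inv_eq_iff_eq, hs0]
      have b1 : ((σs : Perm (Fin n))⁻¹ : Perm (Fin n)) x = e 1 ↔ x = e 2 := by
        rw [Equiv.Perm.inv_eq_iff_eq, hs1]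
      simp only [Function.comp_apply, w, b0, b1, mul_one, Units.val_one]
      by_cases c1 : x = e 1
      · simp [c1, h01.symm, h12]
      · simp [c1]
    · rw [hgu]
      exact mul_inv_eq_iff_eq_mul.1 (hEc _ h01 h01 1 (hSfix sa 0 (by decide)) (hSfix sa 1 (by decide)))
    · refine mul_inv_eq_iff_eq_mul.1 (Subtype.ext ((hconjdiag _ (g d) w hd).trans ?_))
      rw [hd]; congr 1; funext x; exact hwv sa x
    · rw [hgu]
      exact mul_inv_eq_iff_eq_mul.1 (hEc _ h01 h01 1 (hSfix sb 0 (by decide)) (hSfix sb 1 (by decide)))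
    · refine mul_inv_eq_iff_eq_mul.1 (Subtype.ext ((hconjdiag _ (g d) w hd).trans ?_))
      rw [hd]; congr 1; funext x; exact hwv sb x
    · rw [hgu, ← hgu, hy, hgu]
      exact (hEcomm h01 (he3 2) h12 (he3 0).symm 1 1).eq
    · rw [hy]
      exact (hcd (g d) w (he3 2) 1 hd (by simp [w, h02.symm, h12.symm, (he3 0).symm, (he3 1).symm])).eq
    · rw [hgu]
      exact (hcd _ _ h01 1 hdy hw4).symm.eq
    · refine Subtype.ext ?_
      show ((g d : Matrix.SpecialLinearGroup (Fin n) F) : Matrix (Fin n) (Fin n) F)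
          * ((f σ4 * g d * (f σ4)⁻¹ : Matrix.SpecialLinearGroup (Fin n) F) : Matrix (Fin n) (Fin n) F)
        = ((f σ4 * g d * (f σ4)⁻¹ : Matrix.SpecialLinearGroup (Fin n) F) : Matrix (Fin n) (Fin n) F)
          * ((g d : Matrix.SpecialLinearGroup (Fin n) F) : Matrix (Fin n) (Fin n) F)
      rw [hdy, hd,
        Matrix.diagonal_mul_diagonal, Matrix.diagonal_mul_diagonal]
      congr 1; funext x; ring
    · rw [hy, hgv]
      exact (hEcomm h01.symm (he3 2) h02 (he3 1).symm 1 1).eq
    · rw [hgv]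
      exact (hcd _ _ h01.symm 1 hdy hw4.symm).symm.eq
  · intro Γ _ α β hh
    simp only [List.mem_cons, List.not_mem_nil, or_false, forall_eq_or_imp, forall_eq, cw, yw, dw, La,
      Lb, map_mul, map_inv, FreeGroup.lift_apply_of, Sum.elim_inl, Sum.elim_inr, mul_inv_eq_one] at hh
    obtain ⟨rc, rs, rsd, rau, rad, rbu, rbd, ruy, rdy, rud, rdd, rvy, rvd⟩ := hh
    let X : Multiplicative F →* Γ := β.comp (mX F)
    let X' : Multiplicative F →* Γ := β.comp (mRoot F 1 0 (by decide))
    have hspan := span_sq (F := F) ht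
    have hX : IsConjHom ((t : F) ^ 2) X (β d) := fun c => by
      show β d * β (mX F (ofAdd c)) * (β d)⁻¹ = β (mX F _)
      rw [← map_inv, ← map_mul, ← map_mul, SL3Pres.mDiag_conj]
      congr 3; simp [pow_two]
    have hX' : IsConjHom (((t⁻¹ : Fˣ) : F) ^ 2) X' (β d) := fun c => by
      show β d * β (mRoot F 1 0 _ (ofAdd c)) * (β d)⁻¹ = β (mRoot F 1 0 _ _)
      rw [← map_inv, ← map_mul, ← map_mul, mDiag_conj10]
      congr 3; simp [pow_two, div_eq_mul_inv]
    have hspan' := span_sq (F := F) hti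
    have hfixX : ∀ h : A, (h : Perm (Fin n)) (e 0) = e 0 → (h : Perm (Fin n)) (e 1) = e 1 →
        ∀ a : F, α h * X (ofAdd a) * (α h)⁻¹ = X (ofAdd a) := by
      intro h e0 e1 a
      have hle : Subgroup.closure ({altIncl S sa, altIncl S sb} : Set A)
          ≤ (Subgroup.centralizer ({X (ofAdd a)} : Set Γ)).comap α := by
        rw [Subgroup.closure_le]
        rintro x (rfl | rfl)
        · exact Subgroup.mem_centralizer_singleton_iff.2 (commute_of_span hX hspan rau rad a).eq
        · exact Subgroup.mem_centralizer_singleton_iff.2 (commute_of_span hX hspan rbu rbd a).eq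
      exact mul_inv_eq_iff_eq_mul.2 (Subgroup.mem_centralizer_singleton_iff.1 (hle (hstab h e0 e1)))
    have hexist : ∀ i j : Fin n, ∃ h : A, i ≠ j →
        (h : Perm (Fin n)) (e 0) = i ∧ (h : Perm (Fin n)) (e 1) = j := by
      intro i j
      by_cases hij : i = j
      · exact ⟨1, fun h => absurd hij h⟩
      obtain ⟨π, hπ⟩ := Equiv.Perm.exists_extending_pair (![e 0, e 1]) (![i, j])
        (by intro a b; fin_cases a <;> fin_cases b <;> simp [h01, h01.symm])
        (by intro a b; fin_cases a <;> fin_cases b <;> simp [hij, Ne.symm hij])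
      have p0 := hπ 0; have p1 := hπ 1
      simp at p0 p1
      rcases Int.units_eq_one_or (sign π) with hs | hs
      · exact ⟨⟨π, Equiv.Perm.mem_alternatingGroup.2 hs⟩, fun _ => ⟨p0, p1⟩⟩
      · refine ⟨⟨π * swap (e 2) i3, Equiv.Perm.mem_alternatingGroup.2 (by
          rw [map_mul, hs, sign_swap (he3 2)]; rfl)⟩, fun _ => ⟨?_, ?_⟩⟩
        · show π (swap (e 2) i3 (e 0)) = i
          rw [swap_apply_of_ne_of_ne h02 (he3 0), p0]
        · show π (swap (e 2) i3 (e 1)) = j
          rw [swap_apply_of_ne_of_ne h12 (he3 1), p1]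
    choose mv hmv using hexist
    let x : Fin n → Fin n → F → Γ := fun i j a => α (mv i j) * X (ofAdd a) * (α (mv i j))⁻¹
    have hx_eq : ∀ (h : A) (i j : Fin n), i ≠ j → (h : Perm (Fin n)) (e 0) = i →
        (h : Perm (Fin n)) (e 1) = j → ∀ a, α h * X (ofAdd a) * (α h)⁻¹ = x i j a := by
      intro h i j hij e0 e1 a
      obtain ⟨m0, m1⟩ := hmv i j hij
      have := hfixX ((mv i j)⁻¹ * h)
        (by rw [Subgroup.coe_mul, Subgroup.coe_inv, Perm.mul_apply, Perm.inv_eq_iff_eq, e0, m0])
        (by rw [Subgroup.coe_mul, Subgroup.coe_inv, Perm.mul_apply, Perm.inv_eq_iff_eq, e1, m1]) a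
      rw [map_mul, map_inv] at this
      show _ = α (mv i j) * X (ofAdd a) * (α (mv i j))⁻¹
      conv_rhs => rw [← this]
      group
    have hequiv : ∀ (h : A) (i j : Fin n), i ≠ j → ∀ a,
        α h * x i j a * (α h)⁻¹ = x ((h : Perm (Fin n)) i) ((h : Perm (Fin n)) j) a := by
      intro h i j hij a
      obtain ⟨m0, m1⟩ := hmv i j hij
      rw [← hx_eq (h * mv i j) _ _ ((h : Perm (Fin n)).injective.ne hij)
        (by rw [Subgroup.coe_mul, Perm.mul_apply, m0]) (by rw [Subgroup.coe_mul, Perm.mul_apply, m1]) a,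
        map_mul]
      show α h * (α (mv i j) * X (ofAdd a) * (α (mv i j))⁻¹) * (α h)⁻¹ = _
      group
    have hx01 : ∀ a, x (e 0) (e 1) a = X (ofAdd a) := fun a => by
      rw [← hx_eq 1 (e 0) (e 1) h01 rfl rfl a, map_one, one_mul, inv_one, mul_one]
    have hshift : ∀ (i j : Fin 3) (hij : i ≠ j), (∀ a, x (e i) (e j) a = β (mRoot F i j hij (ofAdd a))) →
        ∀ a, x (e (i + 1)) (e (j + 1)) a
          = β (mRoot F (i + 1) (j + 1) (fun h => hij (add_right_cancel h)) (ofAdd a)) := by
      intro i j hij hprev a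
      have hcyc : ∀ k : Fin 3, (σc : Perm (Fin n)) (e k) = e (k + 1) := by
        intro k; fin_cases k
        exacts [hc0, hc1, hc2]
      rw [← hcyc, ← hcyc, ← hequiv σc _ _ (he.ne hij), hprev, rc, ← map_inv, ← map_mul, ← map_mul,
        SL3Pres.mC_shift]
    have base01 : ∀ a, x (e 0) (e 1) a = β (mRoot F 0 1 (by decide) (ofAdd a)) := hx01
    have base02 : ∀ a, x (e 0) (e 2) a = β (mRoot F 0 2 (by decide) (ofAdd a)) := by
      intro a
      rw [← hs0, ← hs1, ← hequiv σs _ _ h01, hx01]
      let Z : Multiplicative F →* Γ := (MulAut.conj (α σs)).toMonoidHom.comp X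
      have hZ : IsConjHom ((t : F) ^ 2) Z (β (mH t)) := fun c => by
        show β (mH t) * (α σs * X (ofAdd c) * (α σs)⁻¹) * (β (mH t))⁻¹
          = α σs * X (ofAdd _) * (α σs)⁻¹
        rw [← rsd, ← hX c]; group
      have hW : IsConjHom ((t : F) ^ 2) (β.comp (mY F)) (β (mH t)) := fun c => by
        show β (mH t) * β (mY F (ofAdd c)) * (β (mH t))⁻¹ = β (mY F _)
        rw [← map_inv, ← map_mul, ← map_mul, SL3Pres.mH, mDiag_conj02]
        congr 3; simp [pow_two]
      obtain ⟨P, hP⟩ := hspan a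
      have e1 := hZ.polyWord_eq 1 P
      have e2 := hW.polyWord_eq 1 P
      rw [pow_one, hP] at e1 e2
      show Z (ofAdd a) = β.comp (mY F) (ofAdd a)
      rw [← e1, ← e2]
      congr 1
    have base : ∀ (i j : Fin 3) (hij : i ≠ j), ∀ a, x (e i) (e j) a = β (mRoot F i j hij (ofAdd a)) := by
      have b12 := hshift 0 1 (by decide) base01
      have b20 := hshift 1 2 (by decide) b12
      have b10 := hshift 0 2 (by decide) base02
      have b21 := hshift 1 0 (by decide) b10
      intro i j hij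
      fin_cases i <;> fin_cases j <;> first
        | exact absurd rfl hij
        | exact base01 | exact base02 | exact b12 | exact b20 | exact b10 | exact b21
    have htriple : ∀ i j k : Fin n, i ≠ j → j ≠ k → i ≠ k → ∃ (h : A) (i' j' k' : Fin 3),
        (i' ≠ j' ∧ j' ≠ k' ∧ i' ≠ k') ∧ (h : Perm (Fin n)) (e i') = i ∧
          (h : Perm (Fin n)) (e j') = j ∧ (h : Perm (Fin n)) (e k') = k := by
      intro i j k hij hjk hik
      obtain ⟨π, hπ⟩ := Equiv.Perm.exists_extending_pair e (![i, j, k]) he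
        (by intro a b; fin_cases a <;> fin_cases b <;>
          simp [hij, hij.symm, hjk, hjk.symm, hik, hik.symm])
      have p0 := hπ 0; have p1 := hπ 1; have p2 := hπ 2
      simp at p0 p1 p2
      rcases Int.units_eq_one_or (sign π) with hs | hs
      · exact ⟨⟨π, Equiv.Perm.mem_alternatingGroup.2 hs⟩, 0, 1, 2, by decide, p0, p1, p2⟩
      · refine ⟨⟨π * swap (e 0) (e 1), Equiv.Perm.mem_alternatingGroup.2 (by
          rw [map_mul, hs, sign_swap h01]; rfl)⟩, 1, 0, 2, by decide, ?_, ?_, ?_⟩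
        · show π (swap (e 0) (e 1) (e 1)) = i
          rw [swap_apply_right, p0]
        · show π (swap (e 0) (e 1) (e 0)) = j
          rw [swap_apply_left, p1]
        · show π (swap (e 0) (e 1) (e 2)) = k
          rw [swap_apply_of_ne_of_ne h02.symm h12.symm, p2]
    -- disjoint pairs
    have hy4 : ∀ a, x (e 2) i3 a = α σ4 * X (ofAdd a) * (α σ4)⁻¹ := fun a =>
      (hx_eq σ4 _ _ (he3 2) h40 h41 a).symm
    let X4 : Multiplicative F →* Γ := (MulAut.conj (α σ4)).toMonoidHom.comp X
    have hX4 : IsConjHom ((t : F) ^ 2) X4 (α σ4 * β d * (α σ4)⁻¹) := fun c => by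
      show α σ4 * β d * (α σ4)⁻¹ * (α σ4 * X (ofAdd c) * (α σ4)⁻¹) * (α σ4 * β d * (α σ4)⁻¹)⁻¹
        = α σ4 * X (ofAdd _) * (α σ4)⁻¹
      rw [← hX c]; group
    have comm01 : ∀ a b, Commute (x (e 0) (e 1) a) (x (e 2) i3 b) := fun a b => by
      rw [hx01, hy4]
      exact commute_of_span hX4 hspan
        (commute_of_span hX hspan (Commute.symm ruy) (Commute.symm rdy) a).symm
        (commute_of_span hX hspan (Commute.symm rud) (Commute.symm rdd) a).symm b
    have comm10 : ∀ a b, Commute (x (e 1) (e 0) a) (x (e 2) i3 b) := fun a b => by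
      rw [base 1 0 (by decide), hy4]
      exact commute_of_span hX4 hspan
        (commute_of_span hX' hspan' (Commute.symm rvy) (Commute.symm rdy) a).symm
        (commute_of_span hX' hspan' (Commute.symm rvd) (Commute.symm rdd) a).symm b
    have hconjC : ∀ (h : A) {p q : Γ}, Commute p q →
        Commute (α h * p * (α h)⁻¹) (α h * q * (α h)⁻¹) := fun h p q hpq => by
      show _ = _
      rw [conj_mul, conj_mul, hpq.eq]
    have hquad : ∀ i j k l : Fin n, i ≠ j → k ≠ l → i ≠ k → i ≠ l → j ≠ k → j ≠ l → ∀ a b,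
        Commute (x i j a) (x k l b) := by
      intro i j k l hij hkl hik hil hjk hjl a b
      obtain ⟨π, hπ⟩ := Equiv.Perm.exists_extending_pair (![e 0, e 1, e 2, i3]) (![i, j, k, l])
        (by intro p q; fin_cases p <;> fin_cases q <;>
          simp [h01, h01.symm, h02, h02.symm, h12, h12.symm, he3 0, he3 1, he3 2, (he3 0).symm,
            (he3 1).symm, (he3 2).symm])
        (by intro p q; fin_cases p <;> fin_cases q <;>
          simp [hij, hij.symm, hkl, hkl.symm, hik, hik.symm, hil, hil.symm, hjk, hjk.symm, hjl,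
            hjl.symm])
      have p0 := hπ 0; have p1 := hπ 1; have p2 := hπ 2; have p3 := hπ 3
      simp at p0 p1 p2 p3
      rcases Int.units_eq_one_or (sign π) with hs | hs
      · let h : A := ⟨π, Equiv.Perm.mem_alternatingGroup.2 hs⟩
        have := hconjC h (comm01 a b)
        rw [hequiv h _ _ h01, hequiv h _ _ (he3 2)] at this
        simpa [h, p0, p1, p2, p3] using this
      · let h : A := ⟨π * swap (e 0) (e 1), Equiv.Perm.mem_alternatingGroup.2 (by
          rw [map_mul, hs, sign_swap h01]; rfl)⟩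
        have := hconjC h (comm10 a b)
        rw [hequiv h _ _ h01.symm, hequiv h _ _ (he3 2)] at this
        simpa [h, Perm.mul_apply, swap_apply_of_ne_of_ne h02.symm h12.symm,
          swap_apply_of_ne_of_ne (he3 0).symm (he3 1).symm, p0, p1, p2, p3] using this
    have hadd : ∀ i j a b, x i j (a + b) = x i j a * x i j b := fun i j a b => by
      simp only [x]
      rw [ofAdd_add, map_mul]; group
    have hcomm_same : ∀ i j a b, Commute (x i j a) (x i j b) := fun i j a b => by
      show _ = _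
      rw [← hadd, ← hadd, add_comm]
    have htwo : ∀ i j k : Fin n, i ≠ j → j ≠ k → i ≠ k → ∀ a b,
        Commute (x i j a) (x i k b) ∧ Commute (x i k a) (x j k b) ∧
          x i j a * x j k b * (x i j a)⁻¹ = x i k (a * b) * x j k b := by
      intro i j k hij hjk hik a b
      obtain ⟨h, i', j', k', ⟨nij, njk, nik⟩, pi, pj, pk⟩ := htriple i j k hij hjk hik
      subst pi pj pk
      rw [← hequiv h _ _ (he.ne nij), ← hequiv h _ _ (he.ne njk), ← hequiv h _ _ (he.ne nik),
        ← hequiv h _ _ (he.ne nik), ← hequiv h _ _ (he.ne nik), base i' j' nij, base j' k' njk,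
        base i' k' nik, base i' k' nik, base i' k' nik]
      refine ⟨hconjC h ((SL3Pres.mRoot_commute i' j' i' k' nij nik nij.symm nik.symm a b).map β),
        hconjC h ((SL3Pres.mRoot_commute i' k' j' k' nik njk njk.symm nik.symm a b).map β), ?_⟩
      have e0 := congrArg β (comm_cm (SL3Pres.mRoot_cm i' j' k' nij njk nik a b))
      simp only [map_mul, map_inv] at e0
      rw [conj_inv, conj_mul, conj_mul, conj_mul, e0]
    have S : CfsgLib.SLSteinberg.StComm x := by
      refine ⟨fun i j t u _ => hadd i j t u, fun i j k l hij hkl hil hjk t u => ?_,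
        fun i j k hij hjk hik t u => (htwo i j k hij hjk hik t u).2.2⟩
      by_cases hik : i = k
      · subst hik
        by_cases hjl : j = l
        · subst hjl; exact hcomm_same i j t u
        · exact (htwo i j l hij hjl hil t u).1
      · by_cases hjl : j = l
        · subst hjl; exact (htwo i k j hik (Ne.symm hjk) hij t u).2.1
        · exact hquad i j k l hij hkl hik hil hjk hjl t u
    have hthird : ∀ a b : Fin n, ∃ c, c ≠ a ∧ c ≠ b := by
      intro a b
      obtain ⟨c, -, hc⟩ := Finset.exists_mem_notMem_of_card_lt_card (s := ({a, b} : Finset (Fin n)))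
        (t := Finset.univ) (lt_of_le_of_lt Finset.card_le_two (by simp; omega))
      simp only [Finset.mem_insert, Finset.mem_singleton, not_or] at hc
      exact ⟨c, hc.1, hc.2⟩
    let P : Fin n → Fin n → F → Matrix.SpecialLinearGroup (Fin n) F × Γ := fun i j a =>
      if h : i = j then 1 else (E h a, x i j a)
    have hPne : ∀ {i j : Fin n} (h : i ≠ j) a, P i j a = (E h a, x i j a) := fun h a => dif_neg h
    let N : Subgroup (Matrix.SpecialLinearGroup (Fin n) F × Γ) :=
      Subgroup.closure {p | ∃ i j, i ≠ j ∧ ∃ a, p = P i j a}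
    let P' : Fin n → Fin n → F → N := fun i j a => ⟨P i j a, by
      by_cases h : i = j
      · simp only [P, dif_pos h]; exact one_mem N
      · exact Subgroup.subset_closure ⟨i, j, h, a, rfl⟩⟩
    have hEadd : ∀ {i j : Fin n} (h : i ≠ j) (a b : F), E h (a + b) = E h a * E h b := fun h a b =>
      Subtype.ext (Matrix.transvection_mul_transvection_same _ _ h a b).symm
    have hE1 : ∀ {i j k : Fin n} (hij : i ≠ j) (hjk : j ≠ k) (hik : i ≠ k) (a b : F),
        E hij a * E hjk b * (E hij a)⁻¹ = E hik (a * b) * E hjk b := by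
      intro i j k hij hjk hik a b
      rw [mul_inv_eq_iff_eq_mul]
      refine Subtype.ext ?_
      show Matrix.transvection i j a * Matrix.transvection j k b
        = Matrix.transvection i k (a * b) * Matrix.transvection j k b * Matrix.transvection i j a
      simp only [Matrix.transvection, add_mul, mul_add, one_mul, mul_one,
        Matrix.single_mul_single_same, Matrix.single_mul_single_of_ne _ _ _ _ hjk.symm,
        Matrix.single_mul_single_of_ne _ _ _ _ hik.symm, zero_mul]
      abel
    have SP : CfsgLib.SLSteinberg.StComm P' := by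
      refine ⟨fun i j t u hij => Subtype.ext ?_, fun i j k l hij hkl hil hjk t u => Subtype.ext ?_,
        fun i j k hij hjk hik t u => Subtype.ext ?_⟩
      · show P i j (t + u) = P i j t * P i j u
        rw [hPne hij, hPne hij, hPne hij, hEadd, hadd]; rfl
      · show P i j t * P k l u = P k l u * P i j t
        rw [hPne hij, hPne hkl]
        exact Prod.ext (hEcomm hij hkl hjk hil.symm t u).eq (S.comm0 i j k l hij hkl hil hjk t u).eq
      · show P i j t * P j k u * (P i j t)⁻¹ = P i k (t * u) * P j k u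
        rw [hPne hij, hPne hjk, hPne hik]
        exact Prod.ext (hE1 hij hjk hik t u) (S.comm1 i j k hij hjk hik t u)
    let π : N →* Matrix.SpecialLinearGroup (Fin n) F := (MonoidHom.fst _ _).comp N.subtype
    have hπP : ∀ {i j : Fin n} (h : i ≠ j) a, π (P' i j a) = E h a := fun h a => by
      show (P _ _ a).1 = _
      rw [hPne h]
    have hinj : Function.Injective π := by
      refine CfsgLib.SLSteinberg.exists_hom P' (SP.toRel hthird) π (fun i j a hij => ?_) ?_
      · rw [hπP hij]; rfl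
      · refine (Subgroup.map_injective N.subtype_injective ?_)
        rw [MonoidHom.map_closure, ← MonoidHom.range_eq_map, Subgroup.range_subtype]
        refine congrArg Subgroup.closure (Set.ext fun p => ⟨?_, ?_⟩)
        · rintro ⟨q, ⟨i, j, h, a, rfl⟩, rfl⟩
          exact ⟨i, j, h, a, rfl⟩
        · rintro ⟨i, j, h, a, rfl⟩
          exact ⟨P' i j a, ⟨i, j, h, a, rfl⟩, rfl⟩
    have hsurj : Function.Surjective π := by
      rw [← MonoidHom.range_eq_top]
      exact CfsgLib.Classical.SL_le_of_transvections _ fun i j hij a => ⟨P' i j a, hπP hij a⟩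
    let φ := MulEquiv.ofBijective π ⟨hinj, hsurj⟩
    let Ψ : Matrix.SpecialLinearGroup (Fin n) F →* Γ :=
      ((MonoidHom.snd _ _).comp N.subtype).comp φ.symm.toMonoidHom
    have hΨ : ∀ {i j : Fin n} (h : i ≠ j) a, Ψ (E h a) = x i j a := by
      intro i j h a
      have : φ.symm (E h a) = P' i j a := by
        rw [MulEquiv.symm_apply_eq]; exact (hπP h a).symm
      show (φ.symm (E h a) : Matrix.SpecialLinearGroup (Fin n) F × Γ).2 = _
      rw [this]
      show (P i j a).2 = _
      rw [hPne h]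
    have hΨg : Ψ.comp g = β := by
      have : MonoidHom.eqLocus (Ψ.comp g) β = ⊤ :=
        CfsgLib.Classical.SL_le_of_transvections _ fun i j hij a => by
          show Ψ (g (mRoot F i j hij (ofAdd a))) = β (mRoot F i j hij (ofAdd a))
          rw [hgR, hΨ, base i j hij]
      exact MonoidHom.ext fun m => (this ▸ Subgroup.mem_top m : m ∈ MonoidHom.eqLocus (Ψ.comp g) β)
    have hΨequiv : ∀ (h : A) y, α h * Ψ y * (α h)⁻¹ = Ψ (f h * y * (f h)⁻¹) := by
      intro h
      have : MonoidHom.eqLocus ((MulAut.conj (α h)).toMonoidHom.comp Ψ)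
          (Ψ.comp (MulAut.conj (f h)).toMonoidHom) = ⊤ :=
        CfsgLib.Classical.SL_le_of_transvections _ fun i j hij a => by
          show α h * Ψ (E hij a) * (α h)⁻¹ = Ψ (f h * E hij a * (f h)⁻¹)
          rw [hΨ, hEc h hij ((h : Perm (Fin n)).injective.ne hij) a rfl rfl, hΨ, hequiv h i j hij]
      intro y
      exact (this ▸ Subgroup.mem_top y : y ∈ MonoidHom.eqLocus _ _)
    refine ⟨Ψ, ?_, hΨg⟩
    let K : Subgroup A := MonoidHom.eqLocus (Ψ.comp f) α
    have hc0' : σc ∈ K := by
      show Ψ (f σc) = α σc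
      rw [hfc, rc]; exact DFunLike.congr_fun hΨg _
    have hK : K = ⊤ := by
      have hKn : ∀ k ∈ K, ∀ h : A, h * k * h⁻¹ ∈ K := fun k (hk : Ψ (f k) = α k) h => by
        show Ψ (f (h * k * h⁻¹)) = α (h * k * h⁻¹)
        rw [map_mul f, map_mul f, map_inv, ← hΨequiv, hk]
        simp
      rw [eq_top_iff, ← gen_closure h01, Subgroup.closure_le]
      rintro _ ⟨i, rfl⟩
      by_cases hi : i.1 = e 2
      · obtain rfl : i = ⟨e 2, h02.symm, h12.symm⟩ := Subtype.ext hi
        exact hc0'
      let w : A := ⟨swap (e 0) (e 1) * swap (e 2) i.1, by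
        rw [Equiv.Perm.mem_alternatingGroup, map_mul, sign_swap h01, sign_swap (Ne.symm hi)]; rfl⟩
      have : w * σc⁻¹ * w⁻¹ = gen h01 i := by
        rw [← conj_inv, inv_eq_iff_eq_inv]
        refine Subtype.ext ?_
        show (swap (e 0) (e 1) * swap (e 2) i.1) * cyc (e 0) (e 1) (e 2)
          * (swap (e 0) (e 1) * swap (e 2) i.1)⁻¹ = (cyc (e 0) (e 1) i.1)⁻¹
        rw [conj_cyc]
        simp only [Perm.mul_apply, swap_apply_of_ne_of_ne h02 (Ne.symm i.2.1),
          swap_apply_of_ne_of_ne h12 (Ne.symm i.2.2), swap_apply_left, swap_apply_right,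
          swap_apply_of_ne_of_ne i.2.1 i.2.2]
        rw [cyc, cyc, _root_.mul_inv_rev, swap_inv, swap_inv, Equiv.swap_comm (e 1) (e 0)]
        have := swap_apply_apply (swap (e 0) (e 1)) (e 0) i.1
        rw [swap_apply_left, swap_apply_of_ne_of_ne i.2.1 i.2.2, swap_inv] at this
        rw [this, mul_assoc, Equiv.swap_mul_self, mul_one]
      show gen h01 i ∈ K
      rw [← this]
      exact hKn _ (inv_mem hc0') w
    exact MonoidHom.ext fun a => (hK ▸ Subgroup.mem_top a : a ∈ K)

end CfsgLib.Presentations
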