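import Mathlib
import Cfsg.Agent.Lib.Presentations.SLGlue
import Cfsg.Agent.Lib.Generation.SL3Pair
import Cfsg.Agent.Lib.Generation.SL3Four

/-!
Two generators and few relations for projective special linear groups.
-/

set_option autoImplicit false

namespace CfsgLib.Presentations

open Equiv Equiv.Perm Matrix
open Multiplicative (ofAdd)
open Fin.NatCast
open CfsgLib.SL2Pres (xHom hDiag wEl sl2_conj sl2_whw IsConjHom hom_mem_of_span)

variable {F : Type*} [Field F] [Fintype F]

theorem sl2_two_generated (hq : 4 ≤ Fintype.card F) :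
    ∃ a b : Matrix.SpecialLinearGroup (Fin 2) F,
      Subgroup.closure ({a, b} : Set (Matrix.SpecialLinearGroup (Fin 2) F)) = ⊤ := by
  obtain ⟨t, ht, hord⟩ := CfsgLib.SL2Pres.exists_gen F
  refine ⟨hDiag t, xHom F (ofAdd 1) * wEl F, ?_⟩
  set C := Subgroup.closure
    ({hDiag t, xHom F (ofAdd 1) * wEl F} : Set (Matrix.SpecialLinearGroup (Fin 2) F))
  have hh : hDiag t ∈ C := Subgroup.subset_closure (Or.inl rfl)
  have hb : xHom F (ofAdd 1) * wEl F ∈ C := Subgroup.subset_closure (Or.inr rfl)
  set c : F := 1 + -((((t⁻¹ : Fˣ) : F)) ^ 2) with hcdef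
  have hc : c ≠ 0 := by
    intro h
    have h2 : ((t⁻¹ : Fˣ) : F) ^ 2 = 1 := by
      rw [hcdef, ← sub_eq_add_neg, sub_eq_zero] at h; exact h.symm
    have h3 : (t⁻¹) ^ 2 = 1 := Units.ext (by rw [Units.val_pow_eq_pow_val, h2, Units.val_one])
    have h4 : t ^ 2 = 1 := by rwa [inv_pow, inv_eq_one] at h3
    have := Nat.le_of_dvd two_pos (orderOf_dvd_of_pow_eq_one h4)
    omega
  have e1 : hDiag t⁻¹ * xHom F (ofAdd (-1)) * hDiag t
      = xHom F (ofAdd (-(((t⁻¹ : Fˣ) : F) ^ 2))) := by
    have := sl2_conj t⁻¹ (-1 : F)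
    rw [map_inv, inv_inv] at this
    rw [map_inv, this]; simp
  have hkey : xHom F (ofAdd c) ∈ C := by
    have hm : (xHom F (ofAdd 1) * wEl F) * hDiag t * (xHom F (ofAdd 1) * wEl F)⁻¹ * hDiag t ∈ C :=
      mul_mem (mul_mem (mul_mem hb hh) (inv_mem hb)) hh
    have e : (xHom F (ofAdd 1) * wEl F) * hDiag t * (xHom F (ofAdd 1) * wEl F)⁻¹ * hDiag t
        = xHom F (ofAdd c) := by
      rw [show (xHom F (ofAdd 1) * wEl F) * hDiag t * (xHom F (ofAdd 1) * wEl F)⁻¹ * hDiag t
        = xHom F (ofAdd 1) * ((wEl F * hDiag t * (wEl F)⁻¹) * (xHom F (ofAdd 1))⁻¹ * hDiag t) by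
          group, sl2_whw t, ← map_inv hDiag, ← map_inv, ← ofAdd_neg, e1, ← map_mul, ← ofAdd_add]
    rwa [e] at hm
  let X : Multiplicative F →* Matrix.SpecialLinearGroup (Fin 2) F :=
    (xHom F).comp (AddMonoidHom.mulLeft c).toMultiplicative
  have hX : IsConjHom ((t : F) ^ 2) X (hDiag t) := fun a => by
    show hDiag t * xHom F (ofAdd (c * a)) * (hDiag t)⁻¹ = xHom F (ofAdd (c * ((t : F) ^ 2 * a)))
    rw [sl2_conj]; congr 2; ring
  have hall := hom_mem_of_span X (hDiag t) hX (span_sq ht) C (by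
    show xHom F (ofAdd (c * 1)) ∈ C
    rwa [mul_one]) hh c⁻¹
  have h1 : xHom F (ofAdd 1) ∈ C := by
    have : X (ofAdd c⁻¹) = xHom F (ofAdd 1) := by
      show xHom F (ofAdd (c * c⁻¹)) = _
      rw [mul_inv_cancel₀ hc]
    rwa [this] at hall
  rw [eq_top_iff, ← CfsgLib.SL2Pres.sl2_gen ht (span_sq ht), Subgroup.closure_le]
  rintro x (rfl | rfl | rfl)
  · exact h1
  · exact hh
  · have := mul_mem (inv_mem h1) hb
    rwa [inv_mul_cancel_left] at this

theorem sl_two_generated (n : ℕ) (hn : 4 ≤ n) (F : Type*) [Field F] [Fintype F] :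
    ∃ a b : Matrix.SpecialLinearGroup (Fin n) F,
      Subgroup.closure ({a, b} : Set (Matrix.SpecialLinearGroup (Fin n) F)) = ⊤ := by
  classical
  have : NeZero n := ⟨by omega⟩
  obtain ⟨t, ht, hord⟩ := CfsgLib.SL2Pres.exists_gen F
  let i : Fin 4 → Fin n := Fin.castLE hn
  have hi : Function.Injective i := Fin.castLE_injective hn
  have h01 : i 0 ≠ i 1 := hi.ne (by decide)
  have h23 : i 2 ≠ i 3 := hi.ne (by decide)
  let v : Fin n → F := fun x => if x = i 2 then (t : F) else if x = i 3 then ((t⁻¹ : Fˣ) : F) else 1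
  have hvdet : (Matrix.diagonal v).det = 1 := by
    rw [Matrix.det_diagonal, ← Finset.prod_subset (Finset.subset_univ {i 2, i 3}) fun x _ hx => by
      simp only [Finset.mem_insert, Finset.mem_singleton, not_or] at hx
      simp [v, hx.1, hx.2], Finset.prod_pair h23]
    simp [v, h23.symm]
  let d : Matrix.SpecialLinearGroup (Fin n) F := ⟨Matrix.diagonal v, hvdet⟩
  let σ : Perm (Fin n) := finRotate n
  let s : Fin n → F := fun x => if x = i 0 then ((Equiv.Perm.sign σ : ℤ) : F) else 1
  have hss : ((Equiv.Perm.sign σ : ℤ) : F) * ((Equiv.Perm.sign σ : ℤ) : F) = 1 := by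
    rw [← Int.cast_mul, ← Units.val_mul, Int.units_mul_self, Units.val_one, Int.cast_one]
  have hs0 : ∀ x, s x ≠ 0 := fun x => by
    simp only [s]; split
    · exact left_ne_zero_of_mul_eq_one hss
    · exact one_ne_zero
  have hwdet : (Equiv.Perm.permMatrix F σ⁻¹ * Matrix.diagonal s).det = 1 := by
    rw [Matrix.det_mul, Matrix.det_permutation, Matrix.det_diagonal, Finset.prod_eq_single (i 0)
      (fun x _ hx => by simp [s, hx]) (by simp), Equiv.Perm.sign_inv]
    simpa [s] using hss
  let w : Matrix.SpecialLinearGroup (Fin n) F :=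
    ⟨Equiv.Perm.permMatrix F σ⁻¹ * Matrix.diagonal s, hwdet⟩
  let E : ∀ {a b : Fin n}, a ≠ b → F → Matrix.SpecialLinearGroup (Fin n) F :=
    fun hab c => Matrix.SpecialLinearGroup.transvection hab c
  have hEadd : ∀ {a b : Fin n} (h : a ≠ b) (x y : F), E h (x + y) = E h x * E h y := fun h x y =>
    Subtype.ext (Matrix.transvection_mul_transvection_same _ _ h x y).symm
  have key : ∀ a b : Fin n, a = σ⁻¹ b ↔ σ a = b := fun a b => by rw [Equiv.Perm.eq_inv_iff_eq]
  have hwE : ∀ {a b : Fin n} (h : a ≠ b) (c : F),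
      w * E h c * w⁻¹ = E (σ.injective.ne h) (s a * c / s b) := by
    intro a b h c
    rw [mul_inv_eq_iff_eq_mul]
    refine Subtype.ext ?_
    show Equiv.Perm.permMatrix F σ⁻¹ * Matrix.diagonal s * Matrix.transvection a b c
      = Matrix.transvection (σ a) (σ b) (s a * c / s b) * (Equiv.Perm.permMatrix F σ⁻¹ * Matrix.diagonal s)
    have e : Matrix.diagonal s * Matrix.transvection a b c
        = Matrix.transvection a b (s a * c / s b) * Matrix.diagonal s := by
      ext r q
      rw [Matrix.diagonal_mul, Matrix.mul_diagonal]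
      simp only [Matrix.transvection, Matrix.add_apply, Matrix.one_apply, Matrix.single_apply]
      by_cases h1 : r = q
      · subst h1
        have : ¬ (a = r ∧ b = r) := fun h2 => h (h2.1.trans h2.2.symm)
        simp [this]
      · by_cases h2 : a = r ∧ b = q
        · obtain ⟨rfl, rfl⟩ := h2
          simp [h1, div_mul_cancel₀ _ (hs0 b)]
        · simp [h1, h2]
    rw [mul_assoc, e, ← mul_assoc, ← mul_assoc]
    congr 1
    rw [Equiv.Perm.permMatrix, PEquiv.toMatrix_toPEquiv_mul, PEquiv.mul_toMatrix_toPEquiv]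
    ext r q
    simp only [Matrix.submatrix_apply, id_eq, Matrix.transvection, Matrix.add_apply, Matrix.one_apply,
      Matrix.single_apply, Equiv.Perm.inv_def, Equiv.symm_symm]
    simp only [← Equiv.Perm.inv_def, key, Equiv.Perm.inv_eq_iff_eq]
    congr 1
    by_cases hr : r = σ q <;> simp [hr]
  have hwd : ∃ d' : Matrix.SpecialLinearGroup (Fin n) F, (d' : Matrix (Fin n) (Fin n) F)
      = Matrix.diagonal (fun x => v (σ x)) ∧ w⁻¹ * d * w = d' := by
    let D : Matrix.SpecialLinearGroup (Fin n) F := ⟨Matrix.diagonal (fun x => v (σ x)), by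
      rw [Matrix.det_diagonal, Equiv.prod_comp σ v, ← Matrix.det_diagonal, hvdet]⟩
    refine ⟨D, rfl, ?_⟩
    · rw [mul_assoc, inv_mul_eq_iff_eq_mul]
      refine Subtype.ext ?_
      show Matrix.diagonal v * (Equiv.Perm.permMatrix F σ⁻¹ * Matrix.diagonal s)
        = Equiv.Perm.permMatrix F σ⁻¹ * Matrix.diagonal s * Matrix.diagonal (fun x => v (σ x))
      rw [mul_assoc, Matrix.diagonal_mul_diagonal]
      ext r q
      simp only [Matrix.diagonal_mul, ← mul_assoc, Matrix.mul_diagonal, Equiv.Perm.permMatrix,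
        PEquiv.toMatrix_apply, Equiv.toPEquiv_apply, Option.mem_def, Option.some.injEq,
        Equiv.Perm.inv_eq_iff_eq]
      by_cases hr : r = σ q
      · simp [hr, mul_comm]
      · simp [hr]
  refine ⟨E h01 1 * d, w, ?_⟩
  set C := Subgroup.closure ({E h01 1 * d, w} : Set (Matrix.SpecialLinearGroup (Fin n) F))
  have hw : w ∈ C := Subgroup.subset_closure (Or.inr rfl)
  have hEd : E h01 1 * d ∈ C := Subgroup.subset_closure (Or.inl rfl)
  have hcomm : ∀ (D : Matrix.SpecialLinearGroup (Fin n) F) (u : Fin n → F) (c : F),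
      (D : Matrix (Fin n) (Fin n) F) = Matrix.diagonal u → u (i 1) ≠ 0 →
      D * E h01 c * D⁻¹ = E h01 (u (i 0) * c / u (i 1)) := by
    intro D u c hD hu
    rw [mul_inv_eq_iff_eq_mul]
    refine Subtype.ext ?_
    show (D : Matrix (Fin n) (Fin n) F) * Matrix.transvection (i 0) (i 1) c
      = Matrix.transvection (i 0) (i 1) (u (i 0) * c / u (i 1)) * (D : Matrix (Fin n) (Fin n) F)
    rw [hD]
    ext r q
    rw [Matrix.diagonal_mul, Matrix.mul_diagonal]
    simp only [Matrix.transvection, Matrix.add_apply, Matrix.one_apply, Matrix.single_apply]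
    by_cases h1 : r = q
    · subst h1
      have : ¬ (i 0 = r ∧ i 1 = r) := fun h2 => h01 (h2.1.trans h2.2.symm)
      simp [this]
    · by_cases h2 : i 0 = r ∧ i 1 = q
      · obtain ⟨rfl, rfl⟩ := h2
        simp [h1, div_mul_cancel₀ _ hu]
      · simp [h1, h2]
  have hv0 : v (i 0) = 1 := by simp [v, hi.eq_iff]
  have hv1 : v (i 1) = 1 := by simp [v, hi.eq_iff]
  have hEd_comm : Commute (E h01 1) d := by
    have := hcomm d v 1 rfl (by rw [hv1]; exact one_ne_zero)
    rw [hv0, hv1, one_mul, div_one] at this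
    exact (mul_inv_eq_iff_eq_mul.1 this).symm
  have hdq : d ^ (Fintype.card F - 1) = 1 := by
    refine Subtype.ext ?_
    show (Matrix.diagonal v) ^ (Fintype.card F - 1) = 1
    rw [Matrix.diagonal_pow, ← Matrix.diagonal_one]
    congr 1; funext x
    refine FiniteField.pow_card_sub_one_eq_one _ ?_
    simp only [v]; split
    · exact t.ne_zero
    · split
      · exact (t⁻¹).ne_zero
      · exact one_ne_zero
  have hEpow : ∀ k : ℕ, E h01 1 ^ k = E h01 (k : F) := by
    intro k
    induction k with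
    | zero => simp [E]
    | succ k ih => rw [pow_succ, ih, Nat.cast_succ, hEadd]
  have hE1 : E h01 1 ∈ C := by
    have h := pow_mem hEd (Fintype.card F - 1)
    rw [hEd_comm.mul_pow, hdq, mul_one, hEpow, Nat.cast_sub Fintype.one_lt_card.le,
      FiniteField.cast_card_eq_zero, Nat.cast_one, zero_sub] at h
    have h' := inv_mem h
    have : (E h01 (-1))⁻¹ = E h01 1 := by
      rw [inv_eq_iff_mul_eq_one, ← hEadd, neg_add_cancel]
      exact Subtype.ext (Matrix.transvection_zero _ _)
    rwa [this] at h'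
  have hd : d ∈ C := by
    have := mul_mem (inv_mem hE1) hEd
    rwa [inv_mul_cancel_left] at this
  obtain ⟨d', hd'v, hd'⟩ := hwd
  have hd'C : d' ∈ C := hd' ▸ mul_mem (mul_mem (inv_mem hw) hd) hw
  have hσ : ∀ x : Fin n, σ x = x + 1 := fun x => by
    obtain ⟨m, rfl⟩ := Nat.exists_eq_succ_of_ne_zero (by omega : n ≠ 0)
    exact finRotate_succ_apply x
  have hval : ∀ k : Fin 3, σ (i k.castSucc) = i k.succ := fun k => by
    rw [hσ]
    refine Fin.ext ?_
    rw [Fin.val_add, Fin.val_one']
    simp [i]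
    have := k.2
    rw [Nat.mod_eq_of_lt (by omega)]
  have hr : ∀ k : ℕ, E h01 ((((t ^ k : Fˣ)⁻¹ : Fˣ)) : F) ∈ C := by
    intro k
    induction k with
    | zero => simpa using hE1
    | succ k ih =>
      have a0 : v (σ (i 0)) = 1 := by
        rw [show (0 : Fin 4) = Fin.castSucc (0 : Fin 3) from rfl, hval]; exact hv1
      have a1 : v (σ (i 1)) = (t : F) := by
        rw [show (1 : Fin 4) = Fin.castSucc (1 : Fin 3) from rfl, hval]; simp [v]
      have := hcomm d' (fun x => v (σ x)) ((((t ^ k : Fˣ)⁻¹ : Fˣ)) : F) hd'v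
        (by rw [a1]; exact t.ne_zero)
      have h := mul_mem (mul_mem hd'C ih) (inv_mem hd'C)
      rw [this, a0, a1, one_mul] at h
      have e : ((((t ^ k : Fˣ)⁻¹ : Fˣ)) : F) / (t : F) = ((((t ^ (k + 1) : Fˣ)⁻¹ : Fˣ)) : F) := by
        simp [pow_succ, div_eq_mul_inv]
        ring
      rwa [e] at h
  have h0C : ∀ c : F, E h01 c ∈ C := by
    intro c
    rcases eq_or_ne c 0 with rfl | hc
    · have : E h01 0 = 1 := Subtype.ext (Matrix.transvection_zero _ _)
      rw [this]; exact one_mem C
    · obtain ⟨k, hk⟩ := ht (Units.mk0 c hc)⁻¹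
      have := hr k
      rwa [hk, inv_inv, Units.val_mk0] at this
  have hne1 : ∀ x : Fin n, x ≠ x + 1 := fun x h => by
    have := congrArg Fin.val (left_eq_add.1 h)
    rw [Fin.val_one'] at this
    simp [Nat.mod_eq_of_lt (show 1 < n by omega)] at this
  have hstep : ∀ (k : ℕ) (a : Fin n) (h : a ≠ a + 1), a.1 = k → ∀ c, E h c ∈ C := by
    intro k
    induction k with
    | zero =>
      intro a h ha c
      have e0 : a = i 0 := Fin.ext ha
      subst e0
      have e1 : i 0 + 1 = i 1 := by
        rw [← hσ, show (0 : Fin 4) = Fin.castSucc (0 : Fin 3) from rfl, hval]; rfl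
      convert h0C c using 2
    | succ k ih =>
      intro a h ha c
      let b : Fin n := ⟨k, by have := a.2; omega⟩
      have hb : σ b = a := by
        rw [hσ]; refine Fin.ext ?_
        rw [Fin.val_add, Fin.val_one', ha]
        show (k + 1 % n) % n = k + 1
        rw [Nat.mod_eq_of_lt (show 1 < n by omega), Nat.mod_eq_of_lt (by have := a.2; omega)]
      have := mul_mem (mul_mem hw (ih b (hne1 b) rfl (c * s (b + 1) / s b))) (inv_mem hw)
      rw [hwE] at this
      have e : s b * (c * s (b + 1) / s b) / s (b + 1) = c := by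
        field_simp [hs0 b, hs0 (b + 1)]
      have hb2 : σ (b + 1) = a + 1 := by
        rw [hσ, ← hσ b, hb]
      rw [e] at this
      convert this using 2 <;> simp [hb, hb2]
  have hchain : ∀ (m : ℕ) (a b : Fin n) (h : a ≠ b), b = a + (m : Fin n) → ∀ c, E h c ∈ C := by
    intro m
    induction m with
    | zero => intro a b h hb; exact absurd (by simpa using hb.symm) h
    | succ m ih =>
      intro a b h hb c
      subst hb
      by_cases hm : a = a + (m : Fin n)
      · have hm0 : (m : Fin n) = 0 := left_eq_add.1 hm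
        convert hstep a.1 a (hne1 a) rfl c using 2
        rw [Nat.cast_succ, hm0, zero_add]
      · have hb' : a + ((m + 1 : ℕ) : Fin n) = a + (m : Fin n) + 1 := by rw [Nat.cast_succ, add_assoc]
        have hmem1 := ih a _ hm rfl c
        have hmem2 := hstep _ (a + (m : Fin n)) (hne1 _) rfl 1
        have h' : a ≠ a + (m : Fin n) + 1 := hb' ▸ h
        have e : E hm c * E (hne1 (a + (m : Fin n))) 1 * (E hm c)⁻¹ * (E (hne1 (a + (m : Fin n))) 1)⁻¹ = E h' c := by
          rw [mul_inv_eq_iff_eq_mul, mul_inv_eq_iff_eq_mul]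
          refine Subtype.ext ?_
          show Matrix.transvection a (a + (m : Fin n)) c
              * Matrix.transvection (a + (m : Fin n)) (a + (m : Fin n) + 1) 1
            = Matrix.transvection a (a + (m : Fin n) + 1) c
              * Matrix.transvection (a + (m : Fin n)) (a + (m : Fin n) + 1) 1
              * Matrix.transvection a (a + (m : Fin n)) c
          simp only [Matrix.transvection, add_mul, mul_add, one_mul, mul_one,
            Matrix.single_mul_single_same, Matrix.single_mul_single_of_ne _ _ _ _ (hne1 _).symm,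
            Matrix.single_mul_single_of_ne _ _ _ _ h'.symm, zero_mul]
          abel
        have := mul_mem (mul_mem (mul_mem hmem1 hmem2) (inv_mem hmem1)) (inv_mem hmem2)
        rw [e] at this
        convert this using 2
  exact CfsgLib.Classical.SL_le_of_transvections C fun a b hab c =>
    hchain (b - a).1 a b hab (by rw [Fin.cast_val_eq_self, add_sub_cancel]) c

/-- The main theorem. -/
theorem psl_two_generators (n : ℕ) (hn : 2 ≤ n) (F : Type*) [Field F] [Fintype F]
    (h2 : n = 2 → 4 ≤ Fintype.card F) :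
    ∃ rels : Finset (FreeGroup (Fin 2)), rels.card ≤ 80 ∧
      Nonempty (PresentedGroup (↑rels : Set (FreeGroup (Fin 2))) ≃*
        Matrix.ProjectiveSpecialLinearGroup (Fin n) F) := by
  classical
  obtain ⟨m, hm, hB, a, b, hab⟩ : ∃ m, m ≤ 77 ∧
      Bounded (Matrix.SpecialLinearGroup (Fin n) F) m ∧
      ∃ a b : Matrix.SpecialLinearGroup (Fin n) F,
        Subgroup.closure ({a, b} : Set (Matrix.SpecialLinearGroup (Fin n) F)) = ⊤ := by
    obtain rfl | rfl | h4 : n = 2 ∨ n = 3 ∨ 4 ≤ n := by omega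
    · obtain ⟨rels, hc, ⟨e⟩⟩ := (CfsgLib.SL2Pres.presentations F).1
      exact ⟨9, by omega, Bounded.of_presented hc e, sl2_two_generated (h2 rfl)⟩
    · refine ⟨14, by omega, sl3_bounded F, ?_⟩
      by_cases hq : Fintype.card F = 4
      · obtain ⟨u, g, -, -, h⟩ := CfsgLib.Generation.exists_pair_of_card_four hq
        exact ⟨u, _, h⟩
      · obtain ⟨u, g, -, -, h⟩ := CfsgLib.Generation.exists_pair_of_card_ne_four hq
        exact ⟨u, _, h⟩
    · exact ⟨61, by omega, sl_bounded n h4 F, sl_two_generated n h4 F⟩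
  set Z := Subgroup.center (Matrix.SpecialLinearGroup (Fin n) F)
  have : IsCyclic Z :=
    isCyclic_of_surjective Matrix.SpecialLinearGroup.center_equiv_rootsOfUnity.symm.toMonoidHom
      Matrix.SpecialLinearGroup.center_equiv_rootsOfUnity.symm.surjective
  obtain ⟨z, hz⟩ := IsCyclic.exists_generator (α := Z)
  let p := QuotientGroup.mk' Z
  have hker : p.ker = Subgroup.normalClosure {(z : Matrix.SpecialLinearGroup (Fin n) F)} := by
    rw [QuotientGroup.ker_mk']
    refine le_antisymm (fun y hy => ?_)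
      (Subgroup.normalClosure_le_normal (Set.singleton_subset_iff.2 z.2))
    obtain ⟨k, hk⟩ := Subgroup.mem_zpowers_iff.1 (hz ⟨y, hy⟩)
    have : (z : Matrix.SpecialLinearGroup (Fin n) F) ^ k = y := by
      simpa using congrArg Subtype.val hk
    rw [← this]
    exact zpow_mem (Subgroup.subset_normalClosure (Set.mem_singleton _)) k
  have hQ := hB.quotient p (QuotientGroup.mk'_surjective Z) _ hker
  have hgen : Subgroup.closure ({p a, p b} : Set (Matrix.SpecialLinearGroup (Fin n) F ⧸ Z)) = ⊤ := by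
    rw [show ({p a, p b} : Set (Matrix.SpecialLinearGroup (Fin n) F ⧸ Z)) = p '' {a, b} by
      rw [Set.image_pair], ← MonoidHom.map_closure, hab,
      Subgroup.map_top_of_surjective _ (QuotientGroup.mk'_surjective Z)]
  obtain ⟨rels, hc, he⟩ := hQ.two_generators (p a) (p b) hgen
  exact ⟨rels, by omega, he⟩

end CfsgLib.Presentations
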