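/-
A short root group and two commuting copies of SL₂ inside an abstract group: the local data of a
symplectic amalgam.
-/
import Mathlib
import Cfsg.Agent.Lib.Chev.CT.SpAmalgam.Main
import Cfsg.Agent.Lib.SL2Pres.Models
import Cfsg.Agent.Lib.Presentations.SLModel

set_option autoImplicit false

namespace CfsgLib.Presentations.SpPres

open CfsgLib.Chev.CT.SpAm
open CfsgLib.SL2Pres (xHom hDiag wEl xHom_val hDiag_val wEl_val sl2_gen)
open Multiplicative (ofAdd toAdd)
open scoped MatrixGroups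

universe u v

variable {F : Type u} [Field F] {n : ℕ}

/-- The action of a 2 × 2 matrix on the `k`th hyperbolic plane. -/
def planeMap (k : Fin n) (g : SL(2, F)) : V F n →ₗ[F] V F n where
  toFun y := y + (((g.1 0 0 - 1) * y (Sum.inl k) + g.1 0 1 * y (Sum.inr k)) • be k
    + (g.1 1 0 * y (Sum.inl k) + (g.1 1 1 - 1) * y (Sum.inr k)) • bf k)
  map_add' y z := by simp only [Pi.add_apply]; module
  map_smul' r y := by simp only [Pi.smul_apply, smul_eq_mul, RingHom.id_apply]; module

theorem planeMap_be (k : Fin n) (g : SL(2, F)) :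
    planeMap k g (be k) = g.1 0 0 • be k + g.1 1 0 • bf k := by
  simp [planeMap, be_inl, be_inr]; module

theorem planeMap_bf (k : Fin n) (g : SL(2, F)) :
    planeMap k g (bf k) = g.1 0 1 • be k + g.1 1 1 • bf k := by
  simp [planeMap, bf_inl, bf_inr]; module

theorem planeMap_other {k : Fin n} (g : SL(2, F)) {y : V F n} (h1 : y (Sum.inl k) = 0)
    (h2 : y (Sum.inr k) = 0) : planeMap k g y = y := by
  simp [planeMap, h1, h2]

theorem planeMap_om (k : Fin n) (g : SL(2, F)) (x y : V F n) :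
    om (planeMap k g x) (planeMap k g y) = om x y := by
  have hd : g.1 0 0 * g.1 1 1 - g.1 0 1 * g.1 1 0 = 1 := by rw [← Matrix.det_fin_two]; exact g.2
  have e : ∀ z : V F n, om (be k) z = z (Sum.inr k) := fun z => by
    rw [om_swap, om_be_right, neg_neg]
  have f : ∀ z : V F n, om (bf k) z = -z (Sum.inl k) := fun z => by rw [om_swap, om_bf_right]
  simp only [planeMap, LinearMap.coe_mk, AddHom.coe_mk, om_add_left, om_add_right, om_smul_left,
    om_smul_right, om_be_right, om_bf_right, e, f, Pi.add_apply, Pi.smul_apply, smul_eq_mul,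
    be_inl, be_inr, bf_inl, bf_inr, if_pos]
  linear_combination (x (Sum.inl k) * y (Sum.inr k) - x (Sum.inr k) * y (Sum.inl k)) * hd

/-- The copy of SL₂ on the `k`th plane. -/
def g2 (k : Fin n) : SL(2, F) →* Sp F n where
  toFun g := ofLin (planeMap k g) (planeMap_om k g)
  map_one' := Sp_ext fun y => by simp [act_ofLin, planeMap]
  map_mul' g h := Sp_ext fun y => by
    rw [act_mul, act_ofLin, act_ofLin, act_ofLin]
    simp [planeMap, be_inl, be_inr, bf_inl, bf_inr, Matrix.mul_apply, Fin.sum_univ_two]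
    module

theorem act_g2 (k : Fin n) (g : SL(2, F)) (y : V F n) : act (g2 k g) y = planeMap k g y :=
  act_ofLin (planeMap k g) (planeMap_om k g) y

theorem act_g2_be (k : Fin n) (g : SL(2, F)) :
    act (g2 k g) (be k) = g.1 0 0 • be k + g.1 1 0 • bf k := by rw [act_g2, planeMap_be]

theorem act_g2_bf (k : Fin n) (g : SL(2, F)) :
    act (g2 k g) (bf k) = g.1 0 1 • be k + g.1 1 1 • bf k := by rw [act_g2, planeMap_bf]

theorem act_g2_be_ne {i k : Fin n} (h : i ≠ k) (g : SL(2, F)) : act (g2 k g) (be i) = be i := by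
  rw [act_g2, planeMap_other] <;> simp [be_inl, be_inr, h.symm]

theorem act_g2_bf_ne {i k : Fin n} (h : i ≠ k) (g : SL(2, F)) : act (g2 k g) (bf i) = bf i := by
  rw [act_g2, planeMap_other] <;> simp [bf_inl, bf_inr, h.symm]

theorem g2_mem_FS (k : Fin n) (g : SL(2, F)) : g2 k g ∈ FS (F := F) k := by
  rintro x ⟨i, hi, rfl | rfl⟩
  · exact act_g2_be_ne hi g
  · exact act_g2_bf_ne hi g

theorem g2_injective (k : Fin n) : Function.Injective (g2 (F := F) k) := by
  intro g h e
  have e1 := congrArg (fun z => act z (be k)) e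
  have e2 := congrArg (fun z => act z (bf k)) e
  simp only [act_g2_be, act_g2_bf] at e1 e2
  have a1 := congrFun e1 (Sum.inl k); have a2 := congrFun e1 (Sum.inr k)
  have a3 := congrFun e2 (Sum.inl k); have a4 := congrFun e2 (Sum.inr k)
  simp [be_inl, be_inr, bf_inl, bf_inr] at a1 a2 a3 a4
  refine Matrix.SpecialLinearGroup.ext _ _ fun i j => ?_
  fin_cases i <;> fin_cases j <;> simp [a1, a2, a3, a4]

theorem g2_range (k : Fin n) : (g2 (F := F) k).range = FS k := by
  refine le_antisymm ?_ fun z hz => ?_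
  · rintro _ ⟨g, rfl⟩; exact g2_mem_FS k g
  have hsp : ∀ v : V F n, (v = be k ∨ v = bf k) →
      act z v = (act z v) (Sum.inl k) • be k + (act z v) (Sum.inr k) • bf k := by
    intro v hv
    refine span_of_others fun w hw => ?_
    conv_lhs => rw [← hz w hw]
    rw [om_act]
    rcases hv with rfl | rfl
    · exact (others_om hw).1
    · exact (others_om hw).2
  set p := (act z (be k)) (Sum.inl k)
  set r := (act z (be k)) (Sum.inr k)
  set q := (act z (bf k)) (Sum.inl k)
  set s := (act z (bf k)) (Sum.inr k)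
  have hdet : (!![p, q; r, s] : Matrix (Fin 2) (Fin 2) F).det = 1 := by
    have h := om_act z (be k) (bf k)
    rw [hsp _ (Or.inl rfl), hsp _ (Or.inr rfl), om_be_bf, if_pos rfl] at h
    simp [om_be_bf, om_bf_be, om_be_be, om_bf_bf] at h
    rw [Matrix.det_fin_two]; simp
    linear_combination h
  let g₀ : SL(2, F) := ⟨!![p, q; r, s], hdet⟩
  have e : g₀.1 = !![p, q; r, s] := rfl
  refine ⟨g₀, FS_ext (g2_mem_FS k _) hz ?_ ?_⟩
  · rw [act_g2_be, hsp _ (Or.inl rfl), e]; simp; rfl
  · rw [act_g2_bf, hsp _ (Or.inr rfl), e]; simp; rfl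

theorem g2_xHom (k : Fin n) (c : F) : g2 k (xHom F (ofAdd c)) = T (be k) c := by
  refine FS_ext (g2_mem_FS k _) (T_be_mem_FS k c) ?_ ?_
  · rw [act_g2_be, xHom_val]; simp
  · rw [act_g2_bf, xHom_val]; simp [om_be_bf]; module

theorem g2_hDiag (k : Fin n) (l : Fˣ) :
    act (g2 k (hDiag l)) (be k) = (l : F) • be k ∧
      act (g2 k (hDiag l)) (bf k) = ((l⁻¹ : Fˣ) : F) • bf k := by
  rw [act_g2_be, act_g2_bf, hDiag_val]; simp

theorem g2_wEl (k : Fin n) :
    act (g2 k (wEl F)) (be k) = -(bf k : V F n) ∧ act (g2 k (wEl F)) (bf k) = (be k : V F n) := by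
  rw [act_g2_be, act_g2_bf, wEl_val]; simp

/-- The short root element. -/
def rX (i j : Fin n) (r : F) : Sp F n := Ei (be i) (r • be j)

/-- The opposite short root element. -/
def rY (i j : Fin n) (r : F) : Sp F n := Ei (-(bf i)) (r • be j)

section Root
variable {i j : Fin n} (hij : i ≠ j)
include hij

theorem om_i_j (r : F) : om (be i : V F n) (r • be j) = 0 := by simp [om_be_be]

theorem om_mf_j (r : F) : om (-(bf i) : V F n) (r • be j) = 0 := by
  simp [om_bf_be, hij.symm]

theorem rX_add (r s : F) : rX i j r * rX i j s = rX i j (r + s) := by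
  rw [rX, rX, rX, Ei_mul (om_i_j hij r) (om_i_j hij s), add_smul]
  simp [om_be_be]

theorem rY_add (r s : F) : rY i j r * rY i j s = rY i j (r + s) := by
  rw [rY, rY, rY, Ei_mul (om_mf_j hij r) (om_mf_j hij s), add_smul]
  simp [om_be_be]

theorem rX_symm (r : F) : rX i j r = rX j i r := by
  rw [rX, rX, Ei_symm (om_i_j hij r), Ei_smul (by simp [om_be_be])]

theorem act_rX (r : F) (y : V F n) :
    act (rX i j r) y = y + (om (be i) y * r) • be j + (r * om (be j) y) • be i := by
  rw [rX, act_Ei (om_i_j hij r)]; simp; module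

theorem act_rY (r : F) (y : V F n) :
    act (rY i j r) y = y - (om (bf i) y * r) • be j - (r * om (be j) y) • bf i := by
  rw [rY, act_Ei (om_mf_j hij r)]; simp; module

theorem rX_mul_rY (r s : F) : rX i j r * rY i j s = rY i j s * rX i j r * T (be j) (-2 * (r * s)) :=
  Sp_ext fun y => by
    simp [act_rX hij, act_rY hij, om_be_be, om_bf_bf, om_be_bf, om_bf_be, hij, hij.symm]
    module

theorem T_conj_rY (a r : F) :
    T (be i) a * rY i j r * (T (be i) a)⁻¹ = rY i j r * rX i j (-(r * a)) * T (be j) (r * r * a) :=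
  Sp_ext fun y => by
    simp [T_inv, act_rX hij, act_rY hij, om_be_be, om_bf_bf, om_be_bf, om_bf_be, hij, hij.symm]
    module

/-- The coordinates of an element of the unipotent group. -/
theorem coords_inj (p q c : F) (g : SL(2, F))
    (h : rX i j p * rY i j q * T (be j) c * g2 i g = 1) : p = 0 ∧ q = 0 ∧ c = 0 := by
  have h2 := congrArg (fun z => act z (bf j)) h
  simp [act_g2_bf_ne hij.symm, act_rY hij, act_rX hij, om_be_bf,
    om_bf_bf, om_be_be, om_bf_be, hij, hij.symm] at h2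
  have a1 := congrFun h2 (Sum.inl i); have a2 := congrFun h2 (Sum.inr i)
  have a3 := congrFun h2 (Sum.inl j)
  simp [be_inl, be_inr, bf_inl, bf_inr, hij, hij.symm] at a1 a2 a3
  subst a2
  subst a1
  exact ⟨rfl, rfl, by simpa using a3⟩

end Root

variable {Γ : Type v} [Group Γ]

/-- Local data in an abstract group: two copies of SL₂ and a short root group between them. -/
structure Local (F : Type u) [Field F] (Γ : Type v) [Group Γ] where
  β0 : SL(2, F) →* Γ
  β1 : SL(2, F) →* Γ
  X : Multiplicative F →* Γ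
  comm : ∀ a b, Commute (β0 a) (β1 b)
  h0 : ∀ (l : Fˣ) (r : F), β0 (hDiag l) * X (ofAdd r) * (β0 (hDiag l))⁻¹ = X (ofAdd (l * r))
  h1 : ∀ (l : Fˣ) (r : F), β1 (hDiag l) * X (ofAdd r) * (β1 (hDiag l))⁻¹ = X (ofAdd (l * r))
  u0 : ∀ a r : F, Commute (β0 (xHom F (ofAdd a))) (X (ofAdd r))
  u1 : ∀ a r : F, Commute (β1 (xHom F (ofAdd a))) (X (ofAdd r))
  heis : ∀ r s : F, X (ofAdd r) * (β0 (wEl F) * X (ofAdd s) * (β0 (wEl F))⁻¹) =
    (β0 (wEl F) * X (ofAdd s) * (β0 (wEl F))⁻¹) * X (ofAdd r) *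
      β1 (xHom F (ofAdd (-2 * (r * s))))
  upass : ∀ a r : F, β0 (xHom F (ofAdd a)) * (β0 (wEl F) * X (ofAdd r) * (β0 (wEl F))⁻¹) *
      (β0 (xHom F (ofAdd a)))⁻¹ =
    (β0 (wEl F) * X (ofAdd r) * (β0 (wEl F))⁻¹) * X (ofAdd (-(r * a))) *
      β1 (xHom F (ofAdd (r * r * a)))

namespace Local

variable (D : Local F Γ)

/-- The opposite short root group in the abstract group. -/
def Y (r : F) : Γ := D.β0 (wEl F) * D.X (ofAdd r) * (D.β0 (wEl F))⁻¹

/-- The long root group of the second index. -/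
def U (c : F) : Γ := D.β1 (xHom F (ofAdd c))

theorem X_add (r s : F) : D.X (ofAdd r) * D.X (ofAdd s) = D.X (ofAdd (r + s)) := by
  rw [← map_mul, ← ofAdd_add]

theorem Y_add (r s : F) : D.Y r * D.Y s = D.Y (r + s) := by
  rw [Y, Y, Y, conj_mul, D.X_add]

theorem U_add (a b : F) : D.U a * D.U b = D.U (a + b) := by
  rw [U, U, U, ← map_mul, ← map_mul, ← ofAdd_add]

theorem U_zero : D.U 0 = 1 := by simp [U]
theorem Y_zero : D.Y 0 = 1 := by simp [Y]

theorem U_Y (c r : F) : Commute (D.U c) (D.Y r) := by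
  have h := (D.comm (wEl F) (xHom F (ofAdd c))).symm
  exact (h.mul_right (D.u1 c r)).mul_right h.inv_right

variable {i j : Fin n} (hij : i ≠ j)

/-- A point of the graph on the unipotent group. -/
def pt (i j : Fin n) (p q c : F) : Sp F n × Γ :=
  (rX i j p * rY i j q * T (be j) c, D.X (ofAdd p) * D.Y q * D.U c)

/-- The graph of a copy of SL₂. -/
def gS (k : Fin n) (β : SL(2, F) →* Γ) : Subgroup (Sp F n × Γ) := ((g2 k).prod β).range

theorem gS_proj (k : Fin n) (β : SL(2, F) →* Γ) :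
    (gS k β).map (MonoidHom.fst (Sp F n) Γ) = FS k := by
  rw [gS, ← MonoidHom.range_comp, ← g2_range]
  congr 1

theorem gS_func (k : Fin n) (β : SL(2, F) →* Γ) : Func (gS k β) := by
  rintro _ ⟨g, rfl⟩ (e : g2 k g = 1)
  have : g = 1 := g2_injective k (e.trans (map_one _).symm)
  subst this; simp

/-- The generators of the graph on the unipotent group. -/
def genSet (i j : Fin n) : Set (Sp F n × Γ) :=
  {z | ∃ r, z = (rX i j r, D.X (ofAdd r)) ∨ z = (rY i j r, D.Y r) ∨ z = (T (be j) r, D.U r)}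

/-- The graph on the unipotent group. -/
def gV (i j : Fin n) : Subgroup (Sp F n × Γ) := Subgroup.closure (D.genSet i j)

theorem mem_X (i j : Fin n) (r : F) : (rX i j r, D.X (ofAdd r)) ∈ D.gV i j :=
  Subgroup.subset_closure ⟨r, Or.inl rfl⟩
theorem mem_Y (i j : Fin n) (r : F) : (rY i j r, D.Y r) ∈ D.gV i j :=
  Subgroup.subset_closure ⟨r, Or.inr (Or.inl rfl)⟩
theorem mem_U (i j : Fin n) (r : F) : (T (be j) r, D.U r) ∈ D.gV i j :=
  Subgroup.subset_closure ⟨r, Or.inr (Or.inr rfl)⟩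

include hij in
theorem pt_mul (p q c p' q' c' : F) :
    D.pt i j p q c * D.pt i j p' q' c' = D.pt i j (p + p') (q + q') (c + c' + 2 * (p' * q)) := by
  refine Prod.ext ?_ ?_
  · show rX i j p * rY i j q * T (be j) c * (rX i j p' * rY i j q' * T (be j) c') = rX i j (p + p') *
      rY i j (q + q') * T (be j) (c + c' + 2 * (p' * q))
    have hTX : ∀ a r : F, Commute (T (be j) a) (rX i j r) := fun a r => fix_commute
      (fun l => by simp [om_be_be]) (fun l => by simp [act_rX hij, om_be_be])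
    have hTY : ∀ a r : F, Commute (T (be j) a) (rY i j r) := fun a r => Sp_ext fun y => by
      simp [act_rY hij, om_be_be, om_be_bf, om_bf_be, hij, hij.symm]
    have hYX : rY i j q * rX i j p' = rX i j p' * rY i j q * T (be j) (2 * (p' * q)) := by
      rw [rX_mul_rY hij, mul_assoc (rY i j q * rX i j p'), T_add]
      simp
    calc rX i j p * rY i j q * T (be j) c * (rX i j p' * rY i j q' * T (be j) c')
        = rX i j p * (rY i j q * rX i j p') * T (be j) c * rY i j q' * T (be j) c' := by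
          rw [← mul_assoc, ← mul_assoc, mul_assoc (rX i j p * rY i j q) (T (be j) c),
            (hTX c p').eq]
          group
      _ = rX i j p * rX i j p' * rY i j q * (T (be j) (2 * (p' * q)) * T (be j) c) * rY i j q' *
            T (be j) c' := by rw [hYX]; group
      _ = rX i j (p + p') * (rY i j q * rY i j q') * (T (be j) (2 * (p' * q) + c) *
            T (be j) c') := by
          rw [rX_add hij, T_add, mul_assoc (rX i j (p + p') * rY i j q), (hTY _ q').eq]
          group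
      _ = _ := by rw [rY_add hij, T_add]; congr 2; ring
  · show D.X (ofAdd p) * D.Y q * D.U c * (D.X (ofAdd p') * D.Y q' * D.U c') =
      D.X (ofAdd (p + p')) * D.Y (q + q') * D.U (c + c' + 2 * (p' * q))
    have hYX : D.Y q * D.X (ofAdd p') = D.X (ofAdd p') * D.Y q * D.U (2 * (p' * q)) := by
      rw [show D.X (ofAdd p') * D.Y q = D.Y q * D.X (ofAdd p') * D.U (-2 * (p' * q)) from
        D.heis p' q, mul_assoc (D.Y q * D.X (ofAdd p')), U_add]
      simp [U_zero]
    calc D.X (ofAdd p) * D.Y q * D.U c * (D.X (ofAdd p') * D.Y q' * D.U c')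
        = D.X (ofAdd p) * (D.Y q * D.X (ofAdd p')) * D.U c * D.Y q' * D.U c' := by
          rw [← mul_assoc, ← mul_assoc, mul_assoc (D.X (ofAdd p) * D.Y q) (D.U c),
            show D.U c * D.X (ofAdd p') = D.X (ofAdd p') * D.U c from (D.u1 c p').eq]
          group
      _ = D.X (ofAdd p) * D.X (ofAdd p') * D.Y q * (D.U (2 * (p' * q)) * D.U c) * D.Y q' *
            D.U c' := by rw [hYX]; group
      _ = D.X (ofAdd (p + p')) * (D.Y q * D.Y q') * (D.U (2 * (p' * q) + c) * D.U c') := by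
          rw [D.X_add, D.U_add, mul_assoc (D.X (ofAdd (p + p')) * D.Y q), (D.U_Y _ q').eq]
          group
      _ = _ := by rw [D.Y_add, D.U_add]; congr 2; ring

include hij in
theorem pt_zero : D.pt i j 0 0 0 = 1 := by
  have h1 : rX i j (0 : F) = 1 := by simp [rX]
  have h2 : rY i j (0 : F) = 1 := by simp [rY]
  refine Prod.ext ?_ ?_
  · show rX i j 0 * rY i j 0 * T (be j) 0 = 1
    rw [h1, h2, T_zero, one_mul, one_mul]
  · show D.X (ofAdd 0) * D.Y 0 * D.U 0 = 1
    simp [D.Y_zero, D.U_zero]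

include hij in
theorem mem_pt {z : Sp F n × Γ} (hz : z ∈ D.gV i j) : ∃ p q c, z = D.pt i j p q c := by
  have h1 : rX i j (0 : F) = 1 := by simp [rX]
  have h2 : rY i j (0 : F) = 1 := by simp [rY]
  induction hz using Subgroup.closure_induction with
  | mem z hz =>
    obtain ⟨r, rfl | rfl | rfl⟩ := hz
    · exact ⟨r, 0, 0, Prod.ext (by simp [pt, h2]) (by simp [pt, D.Y_zero, D.U_zero])⟩
    · exact ⟨0, r, 0, Prod.ext (by simp [pt, h1]) (by simp [pt, D.U_zero])⟩
    · exact ⟨0, 0, r, Prod.ext (by simp [pt, h1, h2]) (by simp [pt, D.Y_zero])⟩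
  | one => exact ⟨0, 0, 0, (D.pt_zero hij).symm⟩
  | mul z z' _ _ hz hz' =>
    obtain ⟨p, q, c, rfl⟩ := hz
    obtain ⟨p', q', c', rfl⟩ := hz'
    exact ⟨_, _, _, D.pt_mul hij p q c p' q' c'⟩
  | inv z _ hz =>
    obtain ⟨p, q, c, rfl⟩ := hz
    refine ⟨-p, -q, -c + 2 * (p * q), inv_eq_of_mul_eq_one_right ?_⟩
    rw [D.pt_mul hij, add_neg_cancel, add_neg_cancel,
      show c + (-c + 2 * (p * q)) + 2 * (-p * q) = 0 by ring, D.pt_zero hij]

include hij in
theorem conj_gV (g : SL(2, F)) {z : Sp F n × Γ} (hz : z ∈ D.gV i j) :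
    (g2 i g, D.β0 g) * z * (g2 i g, D.β0 g)⁻¹ ∈ D.gV i j := by
  let P : SL(2, F) → Prop := fun g => ∀ z ∈ D.gV i j,
    (g2 i g, D.β0 g) * z * (g2 i g, D.β0 g)⁻¹ ∈ D.gV i j
  suffices h : ∀ g, P g from h g z hz
  have hgen : ∀ g, (∀ r, (g2 i g, D.β0 g) * (rX i j r, D.X (ofAdd r)) * (g2 i g, D.β0 g)⁻¹ ∈ D.gV i j)
      → (∀ r, (g2 i g, D.β0 g) * (rY i j r, D.Y r) * (g2 i g, D.β0 g)⁻¹ ∈ D.gV i j) → P g := by
    intro g hX hY z hz
    induction hz using Subgroup.closure_induction with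
    | mem z hz =>
      obtain ⟨r, rfl | rfl | rfl⟩ := hz
      · exact hX r
      · exact hY r
      · have hc : (g2 i g, D.β0 g) * (T (be j) r, D.U r) * (g2 i g, D.β0 g)⁻¹ = (T (be j) r, D.U r) := by
          refine Prod.ext ?_ ?_
          · show g2 i g * T (be j) r * (g2 i g)⁻¹ = T (be j) r
            rw [T_conj, act_g2_be_ne hij.symm]
          · show D.β0 g * D.β1 (xHom F (ofAdd r)) * (D.β0 g)⁻¹ = D.β1 (xHom F (ofAdd r))
            rw [(D.comm g (xHom F (ofAdd r))).eq, mul_inv_cancel_right]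
        rw [hc]; exact D.mem_U i j r
    | one => rw [mul_one, mul_inv_cancel]; exact one_mem _
    | mul x y _ _ hx hy => rw [← conj_mul]; exact mul_mem hx hy
    | inv x _ hx => rw [← conj_inv]; exact inv_mem hx
  have hmul : ∀ a b, P a → P b → P (a * b) := by
    intro a b ha hb z hz
    have := ha _ (hb z hz)
    convert this using 1
    rw [map_mul, map_mul, ← Prod.mk_mul_mk]
    group
  have hx : ∀ a : F, P (xHom F (ofAdd a)) := by
    intro a
    refine hgen _ (fun r => ?_) (fun r => ?_)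
    · have hc : (g2 i (xHom F (ofAdd a)), D.β0 (xHom F (ofAdd a))) * (rX i j r, D.X (ofAdd r)) *
          (g2 i (xHom F (ofAdd a)), D.β0 (xHom F (ofAdd a)))⁻¹ = (rX i j r, D.X (ofAdd r)) := by
        refine Prod.ext ?_ ?_
        · show g2 i (xHom F (ofAdd a)) * rX i j r * (g2 i (xHom F (ofAdd a)))⁻¹ = rX i j r
          rw [g2_xHom, rX, Ei_conj]
          simp [om_be_be]
        · show D.β0 _ * D.X (ofAdd r) * (D.β0 _)⁻¹ = D.X (ofAdd r)
          rw [(D.u0 a r).eq, mul_inv_cancel_right]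
      rw [hc]; exact D.mem_X i j r
    · have hc : (g2 i (xHom F (ofAdd a)), D.β0 (xHom F (ofAdd a))) * (rY i j r, D.Y r) *
          (g2 i (xHom F (ofAdd a)), D.β0 (xHom F (ofAdd a)))⁻¹ =
          (rY i j r, D.Y r) * (rX i j (-(r * a)), D.X (ofAdd (-(r * a)))) *
            (T (be j) (r * r * a), D.U (r * r * a)) :=
        Prod.ext (by
          show g2 i _ * rY i j r * (g2 i _)⁻¹ = _
          rw [g2_xHom]; exact T_conj_rY hij a r) (D.upass a r)
      rw [hc]; exact mul_mem (mul_mem (D.mem_Y i j r) (D.mem_X i j _)) (D.mem_U i j _)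
  have hh : ∀ l : Fˣ, P (hDiag l) := by
    intro l
    obtain ⟨ha, hb⟩ := g2_hDiag i l
    refine hgen _ (fun r => ?_) (fun r => ?_)
    · have hc : (g2 i (hDiag l), D.β0 (hDiag l)) * (rX i j r, D.X (ofAdd r)) *
          (g2 i (hDiag l), D.β0 (hDiag l))⁻¹ = (rX i j (l * r), D.X (ofAdd (l * r))) := by
        refine Prod.ext ?_ (D.h0 l r)
        show g2 i (hDiag l) * rX i j r * (g2 i (hDiag l))⁻¹ = rX i j (l * r)
        rw [rX, Ei_conj, ha, act_smul, act_g2_be_ne hij.symm, Ei_smul (by simp [om_be_be]),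
          smul_smul, rX]
      rw [hc]; exact D.mem_X i j _
    · have hc : (g2 i (hDiag l), D.β0 (hDiag l)) * (rY i j r, D.Y r) *
          (g2 i (hDiag l), D.β0 (hDiag l))⁻¹ =
          (rY i j ((l⁻¹ : Fˣ) * r), D.Y ((l⁻¹ : Fˣ) * r)) := by
        refine Prod.ext ?_ ?_
        · show g2 i (hDiag l) * rY i j r * (g2 i (hDiag l))⁻¹ = rY i j _
          rw [rY, Ei_conj, act_neg, hb, act_smul, act_g2_be_ne hij.symm, ← smul_neg,
            Ei_smul (by simp [om_bf_be, hij.symm]), smul_smul, rY]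
        · show D.β0 (hDiag l) * D.Y r * (D.β0 (hDiag l))⁻¹ = D.Y _
          have e : D.β0 (hDiag l) * D.β0 (wEl F) = D.β0 (wEl F) * D.β0 (hDiag l⁻¹) := by
            rw [← map_mul, ← map_mul]
            congr 1
            have h := CfsgLib.SL2Pres.sl2_whw (F := F) l⁻¹
            rw [mul_inv_eq_iff_eq_mul, map_inv, inv_inv] at h
            rw [map_inv]; exact h.symm
          calc D.β0 (hDiag l) * D.Y r * (D.β0 (hDiag l))⁻¹
              = (D.β0 (hDiag l) * D.β0 (wEl F)) * D.X (ofAdd r) *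
                (D.β0 (hDiag l) * D.β0 (wEl F))⁻¹ := by rw [Y]; group
            _ = D.β0 (wEl F) * (D.β0 (hDiag l⁻¹) * D.X (ofAdd r) * (D.β0 (hDiag l⁻¹))⁻¹) *
                (D.β0 (wEl F))⁻¹ := by rw [e]; group
            _ = _ := by rw [D.h0]; rfl
      rw [hc]; exact D.mem_Y i j _
  have hw : P (wEl F) := by
    obtain ⟨ha, hb⟩ := g2_wEl (F := F) i
    refine hgen _ (fun r => ?_) (fun r => ?_)
    · have hc : (g2 i (wEl F), D.β0 (wEl F)) * (rX i j r, D.X (ofAdd r)) *
          (g2 i (wEl F), D.β0 (wEl F))⁻¹ = (rY i j r, D.Y r) := by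
        refine Prod.ext ?_ rfl
        show g2 i (wEl F) * rX i j r * (g2 i (wEl F))⁻¹ = rY i j r
        rw [rX, Ei_conj, ha, act_smul, act_g2_be_ne hij.symm, rY]
      rw [hc]; exact D.mem_Y i j _
    · have hc : (g2 i (wEl F), D.β0 (wEl F)) * (rY i j r, D.Y r) *
          (g2 i (wEl F), D.β0 (wEl F))⁻¹ = (rX i j (-r), D.X (ofAdd (-r))) := by
        refine Prod.ext ?_ ?_
        · show g2 i (wEl F) * rY i j r * (g2 i (wEl F))⁻¹ = rX i j (-r)
          rw [rY, Ei_conj, act_neg, hb, act_smul, act_g2_be_ne hij.symm,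
            show -(be i : V F n) = (-1 : F) • be i by simp, Ei_smul (by simp [om_be_be]), smul_smul,
            neg_one_mul, rX]
        · show D.β0 (wEl F) * D.Y r * (D.β0 (wEl F))⁻¹ = D.X (ofAdd (-r))
          have e : D.β0 (wEl F) * D.β0 (wEl F) = D.β0 (hDiag (-1 : Fˣ)) := by
            rw [← map_mul]
            congr 1
            refine Matrix.SpecialLinearGroup.ext _ _ fun a b => ?_
            rw [CfsgLib.SL2Pres.sl2_w_sq_apply, hDiag_val]
            fin_cases a <;> fin_cases b <;> simp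
          calc D.β0 (wEl F) * D.Y r * (D.β0 (wEl F))⁻¹
              = (D.β0 (wEl F) * D.β0 (wEl F)) * D.X (ofAdd r) *
                (D.β0 (wEl F) * D.β0 (wEl F))⁻¹ := by rw [Y]; group
            _ = _ := by rw [e, D.h0]; simp
      rw [hc]; exact D.mem_X i j _
  have hw' : P (wEl F)⁻¹ := by
    have e : (wEl F)⁻¹ = wEl F * hDiag (-1 : Fˣ) := by
      refine inv_eq_of_mul_eq_one_right ?_
      refine Matrix.SpecialLinearGroup.ext _ _ fun a b => ?_
      rw [← mul_assoc, Matrix.SpecialLinearGroup.coe_mul, CfsgLib.SL2Pres.sl2_w_sq_apply, hDiag_val,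
        Matrix.SpecialLinearGroup.coe_one]
      fin_cases a <;> fin_cases b <;> simp [Matrix.mul_apply, Fin.sum_univ_two]
    rw [e]; exact hmul _ _ hw (hh _)
  intro g
  by_cases hc : g.1 1 0 = 0
  · have hd : g.1 0 0 * g.1 1 1 = 1 := by
      have := g.2; rw [Matrix.det_fin_two, hc] at this; simpa using this
    have e : g = xHom F (ofAdd (g.1 0 1 * g.1 0 0)) * hDiag (Units.mkOfMulEqOne _ _ hd) := by
      refine Matrix.SpecialLinearGroup.ext _ _ fun a b => ?_
      rw [Matrix.SpecialLinearGroup.coe_mul, hDiag_val, xHom_val]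
      fin_cases a <;> fin_cases b <;> simp [Matrix.mul_apply, Fin.sum_univ_two, hc]
      · rw [mul_assoc, mul_inv_cancel₀ (left_ne_zero_of_mul_eq_one hd), mul_one]
      · exact eq_inv_of_mul_eq_one_right hd
    rw [e]; exact hmul _ _ (hx _) (hh _)
  · have hdet : g.1 0 0 * g.1 1 1 - g.1 0 1 * g.1 1 0 = 1 := by
      rw [← Matrix.det_fin_two]; exact g.2
    have e : g = xHom F (ofAdd (g.1 0 0 / g.1 1 0)) *
        hDiag (Units.mk0 (-(g.1 1 0)⁻¹) (neg_ne_zero.2 (inv_ne_zero hc))) *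
        wEl F * xHom F (ofAdd (g.1 1 1 / g.1 1 0)) := by
      refine Matrix.SpecialLinearGroup.ext _ _ fun a b => ?_
      simp only [Matrix.SpecialLinearGroup.coe_mul, hDiag_val, xHom_val, wEl_val]
      fin_cases a <;> fin_cases b <;> simp [Matrix.mul_apply, Fin.sum_univ_two] <;> field_simp <;>
        linear_combination (-1 : F) * hdet
    rw [e]; exact hmul _ _ (hmul _ _ (hmul _ _ (hx _) (hh _)) hw) (hx _)

include hij in
/-- The graph on the parabolic is functional. -/
theorem func : Func (D.gV i j ⊔ gS i D.β0) := by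
  have hn : gS i D.β0 ≤ Subgroup.normalizer (D.gV i j : Set (Sp F n × Γ)) := by
    rintro _ ⟨g, rfl⟩
    rw [Subgroup.mem_normalizer_iff]
    intro z
    refine ⟨fun h => D.conj_gV hij g h, fun h => ?_⟩
    have := D.conj_gV hij g⁻¹ h
    simp only [map_inv, ← Prod.inv_mk] at this
    convert this using 1
    rw [MonoidHom.prod_apply]
    group
  intro z hz e
  have hz' : z ∈ ((D.gV i j ⊔ gS i D.β0 : Subgroup (Sp F n × Γ)) : Set (Sp F n × Γ)) := hz
  rw [Subgroup.coe_mul_of_right_le_normalizer_left _ _ hn] at hz'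
  obtain ⟨v, hv, s, ⟨g, rfl⟩, rfl⟩ := Set.mem_mul.1 hz'
  obtain ⟨p, q, c, rfl⟩ := D.mem_pt hij hv
  change rX i j p * rY i j q * T (be j) c * g2 i g = 1 at e
  obtain ⟨rfl, rfl, rfl⟩ := coords_inj hij p q c g e
  rw [D.pt_zero hij, one_mul]
  have h0 := congrArg Prod.fst (D.pt_zero hij)
  change rX i j 0 * rY i j 0 * T (be j) 0 = 1 at h0
  rw [h0, one_mul] at e
  exact gS_func i D.β0 _ ⟨g, rfl⟩ e

/-- The graph on the short root group with its two long root groups. -/
def gM (i j : Fin n) : Subgroup (Sp F n × Γ) :=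
  Subgroup.closure {z | ∃ r, z = (T (be i) r, D.β0 (xHom F (ofAdd r))) ∨
    z = (T (be j) r, D.U r) ∨ z = (rX i j r, D.X (ofAdd r))}

include hij in
theorem gM_le : D.gM i j ≤ D.gV i j ⊔ gS i D.β0 := by
  rw [gM, Subgroup.closure_le]
  rintro z ⟨r, rfl | rfl | rfl⟩
  · exact Subgroup.mem_sup_right ⟨xHom F (ofAdd r), Prod.ext (g2_xHom i r) rfl⟩
  · exact Subgroup.mem_sup_left (D.mem_U i j r)
  · exact Subgroup.mem_sup_left (D.mem_X i j r)

theorem gM_proj (hj : (j : ℕ) = (i : ℕ) + 1) :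
    (D.gM i j).map (MonoidHom.fst (Sp F n) Γ) = FM i := by
  have hij : i ≠ j := fun e => by subst e; omega
  refine le_antisymm ?_ fun g hg => ?_
  · rw [gM, MonoidHom.map_closure, Subgroup.closure_le]
    rintro _ ⟨_, ⟨r, rfl | rfl | rfl⟩, rfl⟩ z ⟨k, rfl | ⟨h1, h2, rfl⟩⟩
    · show act (T (be i) r) _ = _; simp [om_be_be]
    · have e1 : k ≠ i := fun e => h1 (congrArg Fin.val e)
      show act (T (be i) r) _ = _; simp [om_be_bf, e1]
    · show act (T (be j) r) _ = _; simp [om_be_be]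
    · have e2 : k ≠ j := fun e => h2 ((congrArg Fin.val e).trans hj)
      show act (T (be j) r) _ = _; simp [om_be_bf, e2]
    · show act (rX i j r) _ = _; simp [act_rX hij, om_be_be]
    · have e1 : k ≠ i := fun e => h1 (congrArg Fin.val e)
      have e2 : k ≠ j := fun e => h2 ((congrArg Fin.val e).trans hj)
      show act (rX i j r) _ = _; simp [act_rX hij, om_be_bf, e1, e2]
  · obtain ⟨p, q, r, rfl⟩ := M_decomp hj hg
    refine mul_mem (mul_mem ?_ ?_) ?_
    · exact Subgroup.mem_map_of_mem (MonoidHom.fst (Sp F n) Γ) (x := (T (be i) p, D.β0 (xHom F (ofAdd p))))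
        (Subgroup.subset_closure ⟨p, Or.inl rfl⟩)
    · exact Subgroup.mem_map_of_mem (MonoidHom.fst (Sp F n) Γ) (x := (T (be j) q, D.U q))
        (Subgroup.subset_closure ⟨q, Or.inr (Or.inl rfl)⟩)
    · exact Subgroup.mem_map_of_mem (MonoidHom.fst (Sp F n) Γ) (x := (rX i j r, D.X (ofAdd r)))
        (Subgroup.subset_closure ⟨r, Or.inr (Or.inr rfl)⟩)

/-- Two commuting copies on different planes form a functional graph. -/
theorem gS_sup_func {i j : Fin n} (hij : i ≠ j) (β β' : SL(2, F) →* Γ)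
    (hc : ∀ a b, Commute (β a) (β' b)) : Func (gS i β ⊔ gS j β') := by
  intro z hz e
  have hn : gS j β' ≤ Subgroup.normalizer (gS i β : Set (Sp F n × Γ)) := by
    refine le_trans ?_ (Subgroup.centralizer_le_normalizer _)
    rintro _ ⟨b, rfl⟩
    rw [Subgroup.mem_centralizer_iff]
    rintro _ ⟨a, rfl⟩
    exact Prod.ext (commute_of_fix (g2_mem_FS i a) (act_g2_be_ne hij b) (act_g2_bf_ne hij b)).eq.symm
      (hc a b).eq
  have hz' : z ∈ ((gS i β ⊔ gS j β' : Subgroup (Sp F n × Γ)) : Set (Sp F n × Γ)) := hz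
  rw [Subgroup.coe_mul_of_right_le_normalizer_left _ _ hn] at hz'
  obtain ⟨_, ⟨a, rfl⟩, _, ⟨b, rfl⟩, rfl⟩ := Set.mem_mul.1 hz'
  change g2 i a * g2 j b = 1 at e
  have ha : g2 i a = 1 := by
    refine FS_ext (g2_mem_FS i a) (one_mem _) ?_ ?_
    · have := congrArg (fun w => act w (be i)) e
      simpa [act_g2_be_ne hij] using this
    · have := congrArg (fun w => act w (bf i)) e
      simpa [act_g2_bf_ne hij] using this
  rw [ha, one_mul] at e
  rw [gS_func i β _ ⟨a, rfl⟩ ha, gS_func j β' _ ⟨b, rfl⟩ e, one_mul]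

end Local

end CfsgLib.Presentations.SpPres
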