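/-
Finitely many relations force the local symplectic data: a torus carries one instance of each rule to
all parameters.
-/
import Cfsg.Agent.Lib.Presentations.SpPair
import Cfsg.Agent.Lib.SL2Pres.Relations

set_option autoImplicit false

namespace CfsgLib.Presentations.SpPres

open CfsgLib.SL2Pres (xHom hDiag wEl cj polyWord sl2_conj sl2_whw)
open Multiplicative (ofAdd toAdd)
open Polynomial
open scoped MatrixGroups

universe u v

variable {F : Type u} [Field F] {Γ : Type v} [Group Γ]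

theorem xHom_conj_hDiag (l : Fˣ) (c : F) :
    hDiag l * xHom F (ofAdd c) * (hDiag l)⁻¹ = xHom F (ofAdd ((l : F) * l * c)) := by
  rw [sl2_conj]; congr 2; ring

theorem hDiag_wEl (l : Fˣ) : hDiag l * wEl F = wEl F * hDiag l⁻¹ := by
  have h := sl2_whw (F := F) l⁻¹
  rw [mul_inv_eq_iff_eq_mul, map_inv, inv_inv] at h
  rw [map_inv]; exact h.symm

/-- Carrying a local datum along an endomorphism fixing the short root group. -/
def Local.push (D : Local F Γ) {Γ' : Type v} [Group Γ'] (φ : Γ →* Γ') : Local F Γ' where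
  β0 := φ.comp D.β0
  β1 := φ.comp D.β1
  X := φ.comp D.X
  comm a b := (D.comm a b).map φ
  h0 l r := by simpa using congrArg φ (D.h0 l r)
  h1 l r := by simpa using congrArg φ (D.h1 l r)
  u0 a r := (D.u0 a r).map φ
  u1 a r := (D.u1 a r).map φ
  heis r s := by simpa using congrArg φ (D.heis r s)
  upass a r := by simpa using congrArg φ (D.upass a r)

/-- An additively closed set containing all squares is everything. -/
theorem all_of_squares {t : Fˣ} (hspan : ∀ c : F, ∃ P : ℤ[X], aeval ((t : F) ^ 2) P = c)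
    (S : AddSubgroup F) (h : ∀ l : Fˣ, (l : F) * l ∈ S) (c : F) : c ∈ S := by
  obtain ⟨P, rfl⟩ := hspan c
  induction P using Polynomial.induction_on' with
  | add P Q hP hQ => rw [map_add]; exact add_mem hP hQ
  | monomial i k =>
    rw [aeval_monomial, algebraMap_int_eq, eq_intCast, ← zsmul_eq_mul]
    refine zsmul_mem ?_ k
    have := h (t ^ i)
    rwa [Units.val_pow_eq_pow_val, ← pow_add, ← two_mul, pow_mul] at this

/-- The relations on a short root element, with every parameter equal to one. -/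
structure Seed (t : Fˣ) (β0 β1 : SL(2, F) →* Γ) (x : Γ) (p : ℕ) (b : ℕ) (f : ℤ[X]) : Prop where
  comm : ∀ a c, Commute (β0 a) (β1 c)
  tri : cj (β0 (hDiag t)) x 1 = cj (β0 (hDiag t)) x (b : ℤ) * x
  self : Commute x (cj (β0 (hDiag t)) x 1)
  pow : x ^ p = 1
  poly : polyWord (β0 (hDiag t)) x 1 f = 1
  h1 : β1 (hDiag t) * x * (β1 (hDiag t))⁻¹ = β0 (hDiag t) * x * (β0 (hDiag t))⁻¹
  u0 : Commute (β0 (xHom F (ofAdd 1))) x
  u1 : Commute (β1 (xHom F (ofAdd 1))) x
  heis : x * (β0 (wEl F) * x * (β0 (wEl F))⁻¹) =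
    (β0 (wEl F) * x * (β0 (wEl F))⁻¹) * x * β1 (xHom F (ofAdd (-2)))
  upass : β0 (xHom F (ofAdd 1)) * (β0 (wEl F) * x * (β0 (wEl F))⁻¹) *
      (β0 (xHom F (ofAdd 1)))⁻¹ =
    (β0 (wEl F) * x * (β0 (wEl F))⁻¹) * x⁻¹ * β1 (xHom F (ofAdd 1))

theorem Seed.exists_local {t : Fˣ} {β0 β1 : SL(2, F) →* Γ} {x : Γ} {p b : ℕ} {f : ℤ[X]}
    [CharP F p] (S : Seed t β0 β1 x p b f) (ht : ∀ y : Fˣ, ∃ k : ℕ, t ^ k = y)
    (hspan : ∀ c : F, ∃ P : ℤ[X], aeval ((t : F) ^ 2) P = c)
    (hf : ∀ P : ℤ[X], aeval (t : F) P = 0 → ∃ Q R : ℤ[X], P = f * Q + C (p : ℤ) * R) :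
    ∃ D : Local F Γ, D.β0 = β0 ∧ D.β1 = β1 ∧ D.X (ofAdd 1) = x := by
  classical
  set h := β0 (hDiag t) with hh
  have hall : ∀ i : ℤ, Commute x (cj h x (i * 1)) := fun i => by
    have := CfsgLib.SL2Pres.commute_lattice (a := 1) (b := (b : ℤ)) S.tri S.self i 0
    simpa using this
  have hX : h * x * h⁻¹ = polyWord h x 1 Polynomial.X := by
    rw [polyWord, natDegree_X]
    simp [List.range_succ, cj]
  obtain ⟨X, hX1, hXh⟩ := CfsgLib.SL2Pres.exists_hom (F := F) (p := p) h x 1 hall (t : F) (t : F)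
    (fun c => by
      by_cases hc : c = 0
      · exact ⟨0, by simp [hc]⟩
      · obtain ⟨k, hk⟩ := ht (Units.mk0 c hc)
        exact ⟨Polynomial.X ^ k, by
          rw [map_pow, aeval_X, ← Units.val_pow_eq_pow_val, hk, Units.val_mk0]⟩)
    f Polynomial.X S.pow S.poly hf hX (aeval_X _)
  have hXadd : ∀ r s : F, X (ofAdd r) * X (ofAdd s) = X (ofAdd (r + s)) := fun r s => by
    rw [← map_mul, ← ofAdd_add]
  have hX0 : X (ofAdd 0) = 1 := by simp
  -- the torus
  have h0 : ∀ (l : Fˣ) (r : F),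
      β0 (hDiag l) * X (ofAdd r) * (β0 (hDiag l))⁻¹ = X (ofAdd (l * r)) := by
    intro l
    obtain ⟨k, rfl⟩ := ht l
    induction k with
    | zero => intro r; simp
    | succ k ih =>
      intro r
      rw [pow_succ, map_mul, map_mul, Units.val_mul, mul_assoc (↑(t ^ k) : F), ← ih, ← hXh, hh]
      group
  have h1t : ∀ r : F,
      β1 (hDiag t) * X (ofAdd r) * (β1 (hDiag t))⁻¹ = X (ofAdd (t * r)) := by
    intro r
    by_cases hr : r = 0
    · subst hr; simp [hX0]
    obtain ⟨k, hk⟩ := ht (Units.mk0 r hr)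
    have er : r = ((t ^ k : Fˣ) : F) := by rw [hk, Units.val_mk0]
    have hc := S.comm (hDiag (t ^ k)) (hDiag t)
    calc β1 (hDiag t) * X (ofAdd r) * (β1 (hDiag t))⁻¹
        = β1 (hDiag t) * (β0 (hDiag (t ^ k)) * x * (β0 (hDiag (t ^ k)))⁻¹) * (β1 (hDiag t))⁻¹ := by
          rw [← hX1, h0, mul_one, er]
      _ = (β1 (hDiag t) * β0 (hDiag (t ^ k))) * x * (β1 (hDiag t) * β0 (hDiag (t ^ k)))⁻¹ := by group
      _ = β0 (hDiag (t ^ k)) * (β1 (hDiag t) * x * (β1 (hDiag t))⁻¹) *
            (β0 (hDiag (t ^ k)))⁻¹ := by rw [← hc.eq]; group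
      _ = _ := by rw [S.h1, ← hX1, ← hh, hXh, h0, mul_one, er, mul_comm]
  have h1 : ∀ (l : Fˣ) (r : F),
      β1 (hDiag l) * X (ofAdd r) * (β1 (hDiag l))⁻¹ = X (ofAdd (l * r)) := by
    intro l
    obtain ⟨k, rfl⟩ := ht l
    induction k with
    | zero => intro r; simp
    | succ k ih =>
      intro r
      rw [pow_succ, map_mul, map_mul, Units.val_mul, mul_assoc (↑(t ^ k) : F), ← ih, ← h1t]
      group
  -- conjugation by a point of the torus
  let τ : Fˣ → Fˣ → Γ := fun l0 l1 => β0 (hDiag l0) * β1 (hDiag l1)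
  let T : Fˣ → Fˣ → Γ →* Γ := fun l0 l1 => (MulAut.conj (τ l0 l1)).toMonoidHom
  have eT : ∀ l0 l1 g, T l0 l1 g = β0 (hDiag l0) * (β1 (hDiag l1) * g * (β1 (hDiag l1))⁻¹) *
      (β0 (hDiag l0))⁻¹ := fun l0 l1 g => by
    show τ l0 l1 * g * (τ l0 l1)⁻¹ = _
    simp only [τ]; group
  have τX : ∀ l0 l1 r, T l0 l1 (X (ofAdd r)) = X (ofAdd (l0 * l1 * r)) := fun l0 l1 r => by
    rw [eT, h1, h0, mul_assoc]
  have τU0 : ∀ l0 l1 a, T l0 l1 (β0 (xHom F (ofAdd a))) = β0 (xHom F (ofAdd (l0 * l0 * a))) := by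
    intro l0 l1 a
    rw [eT, (S.comm (xHom F (ofAdd a)) (hDiag l1)).symm.eq, mul_inv_cancel_right, ← map_inv,
      ← map_mul, ← map_mul, xHom_conj_hDiag]
  have τU1 : ∀ l0 l1 a, T l0 l1 (β1 (xHom F (ofAdd a))) = β1 (xHom F (ofAdd (l1 * l1 * a))) := by
    intro l0 l1 a
    rw [eT, ← map_inv β1, ← map_mul, ← map_mul, xHom_conj_hDiag, (S.comm (hDiag l0) _).eq,
      mul_inv_cancel_right]
  obtain ⟨Y, hY⟩ : ∃ Y : F → Γ, Y = fun r => β0 (wEl F) * X (ofAdd r) * (β0 (wEl F))⁻¹ := ⟨_, rfl⟩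
  have τY : ∀ l0 l1 r, T l0 l1 (Y r) = Y (((l0⁻¹ : Fˣ) : F) * l1 * r) := by
    intro l0 l1 r
    have hw : T l0 l1 (β0 (wEl F)) = β0 (wEl F) * (β0 (hDiag (l0⁻¹ * l0⁻¹))) := by
      rw [eT, (S.comm (wEl F) (hDiag l1)).symm.eq, mul_inv_cancel_right, ← map_inv, ← map_mul,
        ← map_mul, ← map_mul, hDiag_wEl, mul_assoc, ← map_inv hDiag, ← map_mul hDiag]
    simp only [hY]
    rw [map_mul, map_mul, map_inv, hw, τX]
    calc β0 (wEl F) * β0 (hDiag (l0⁻¹ * l0⁻¹)) * X (ofAdd (l0 * l1 * r)) *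
          (β0 (wEl F) * β0 (hDiag (l0⁻¹ * l0⁻¹)))⁻¹
        = β0 (wEl F) * (β0 (hDiag (l0⁻¹ * l0⁻¹)) * X (ofAdd (l0 * l1 * r)) *
            (β0 (hDiag (l0⁻¹ * l0⁻¹)))⁻¹) * (β0 (wEl F))⁻¹ := by group
      _ = _ := by
          rw [h0]
          congr 3
          have := l0.ne_zero
          simp only [Units.val_mul, Units.val_inv_eq_inv_val]
          field_simp
  have x1 : X (ofAdd (1 : F)) = x := hX1
  have hY1 : Y 1 = β0 (wEl F) * x * (β0 (wEl F))⁻¹ := by rw [hY, ← x1]
  have ne_unit : ∀ r : F, r ≠ 0 → ∀ l : Fˣ, ∃ l' : Fˣ, (l : F) * l' = r := fun r hr l =>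
    ⟨l⁻¹ * Units.mk0 r hr, by rw [← Units.val_mul, mul_inv_cancel_left, Units.val_mk0]⟩
  have hu : ∀ (β : SL(2, F) →* Γ), Commute (β (xHom F (ofAdd 1))) x →
      (∀ (l : Fˣ) (r : F), r ≠ 0 → ∃ l0 l1,
        T l0 l1 (β (xHom F (ofAdd 1))) = β (xHom F (ofAdd (l * l))) ∧
        T l0 l1 (X (ofAdd 1)) = X (ofAdd r)) →
      ∀ a r : F, Commute (β (xHom F (ofAdd a))) (X (ofAdd r)) := by
    intro β hβ hmove a r
    by_cases hr : r = 0
    · subst hr; rw [hX0]; exact Commute.one_right _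
    let A : AddSubgroup F :=
      { carrier := {a | Commute (β (xHom F (ofAdd a))) (X (ofAdd r))}
        zero_mem' := by simp
        add_mem' := fun {a c} ha hc => by
          show Commute _ _
          rw [ofAdd_add, map_mul, map_mul]; exact ha.mul_left hc
        neg_mem' := fun {a} ha => by
          show Commute _ _
          rw [ofAdd_neg, map_inv, map_inv]; exact ha.inv_left }
    refine all_of_squares hspan A (fun l => ?_) a
    obtain ⟨l0, l1, e1, e2⟩ := hmove l r hr
    have := hβ.map (T l0 l1)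
    rwa [← x1, e1, e2] at this
  have u0 : ∀ a r : F, Commute (β0 (xHom F (ofAdd a))) (X (ofAdd r)) :=
    hu β0 S.u0 fun l r hr => by
      obtain ⟨l1, hl1⟩ := ne_unit r hr l
      exact ⟨l, l1, by rw [τU0, mul_one], by rw [τX, mul_one, hl1]⟩
  have u1 : ∀ a r : F, Commute (β1 (xHom F (ofAdd a))) (X (ofAdd r)) :=
    hu β1 S.u1 fun l r hr => by
      obtain ⟨l0, hl0⟩ := ne_unit r hr l
      exact ⟨l0, l, by rw [τU1, mul_one], by rw [τX, mul_one, mul_comm, hl0]⟩
  have hUY : ∀ c s : F, Commute (β1 (xHom F (ofAdd c))) (Y s) := fun c s => by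
    have h := (S.comm (wEl F) (xHom F (ofAdd c))).symm
    rw [hY]; exact (h.mul_right (u1 c s)).mul_right h.inv_right
  have heis : ∀ r s : F, X (ofAdd r) * Y s = Y s * X (ofAdd r) * β1 (xHom F (ofAdd (-2 * (r * s)))) := by
    intro r s
    by_cases hs : s = 0
    · subst hs; simp [hY]
    let A : AddSubgroup F :=
      { carrier := {c | X (ofAdd (s * c)) * Y s =
          Y s * X (ofAdd (s * c)) * β1 (xHom F (ofAdd (-2 * (s * c * s))))}
        zero_mem' := by simp
        add_mem' := fun {c d} hc hd => by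
          simp only [Set.mem_setOf_eq] at hc hd ⊢
          rw [mul_add, ← hXadd, mul_assoc, hd, ← mul_assoc, ← mul_assoc, hc,
            mul_assoc (Y s * X (ofAdd (s * c))), (u1 _ (s * d)).eq, ← mul_assoc,
            mul_assoc (Y s) (X (ofAdd (s * c))), hXadd, mul_assoc (Y s * X (ofAdd (s * c + s * d))),
            ← map_mul, ← map_mul, ← ofAdd_add]
          congr 3; ring
        neg_mem' := fun {c} hc => by
          simp only [Set.mem_setOf_eq] at hc ⊢
          set U := β1 (xHom F (ofAdd (-2 * (s * c * s))))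
          have hU : β1 (xHom F (ofAdd (-2 * (s * -c * s)))) = U⁻¹ := by
            rw [← map_inv, ← map_inv, ← ofAdd_neg]; congr 3; ring
          rw [hU, mul_neg, ofAdd_neg, map_inv]
          have hUX : Commute U (X (ofAdd (s * c))) := u1 _ _
          have hUY' : Commute U (Y s) := hUY _ _
          have e : (X (ofAdd (s * c)))⁻¹ * (Y s * X (ofAdd (s * c)) * U) = Y s := by
            rw [← hc, inv_mul_cancel_left]
          calc (X (ofAdd (s * c)))⁻¹ * Y s
              = (X (ofAdd (s * c)))⁻¹ * (Y s * X (ofAdd (s * c)) * U) * U⁻¹ *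
                  (X (ofAdd (s * c)))⁻¹ := by group
            _ = Y s * U⁻¹ * (X (ofAdd (s * c)))⁻¹ := by rw [e]
            _ = _ := by
                show _ = Y s * (X (ofAdd (s * c)))⁻¹ * U⁻¹
                rw [mul_assoc, hUX.inv_left.inv_right.eq, mul_assoc] }
    have key : r / s ∈ A := by
      refine all_of_squares hspan A (fun l => ?_) _
      obtain ⟨l1, hl1⟩ := ne_unit s hs l⁻¹
      show X (ofAdd (s * ((l : F) * l))) * Y s = _
      have := congrArg (T l l1) S.heis
      rw [← hY1, ← x1] at this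
      rw [map_mul (T l l1), map_mul (T l l1), map_mul (T l l1), τX, τY, τU1,
        mul_one, mul_one, hl1] at this
      have e1 : (l : F) * l1 = s * ((l : F) * l) := by
        rw [← hl1]; simp only [Units.val_inv_eq_inv_val]; field_simp
      have e2 : (l1 : F) * l1 * -2 = -2 * (s * ((l : F) * l) * s) := by
        rw [← hl1]; simp only [Units.val_inv_eq_inv_val]; field_simp
      rwa [e1, e2] at this
    have h' : X (ofAdd (s * (r / s))) * Y s = _ := key
    rwa [mul_div_cancel₀ r hs] at h'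
  have upass : ∀ a r : F, β0 (xHom F (ofAdd a)) * Y r * (β0 (xHom F (ofAdd a)))⁻¹ =
      Y r * X (ofAdd (-(r * a))) * β1 (xHom F (ofAdd (r * r * a))) := by
    intro a r
    by_cases hr : r = 0
    · subst hr; simp [hY]
    let P : F → Prop := fun a => β0 (xHom F (ofAdd a)) * Y r * (β0 (xHom F (ofAdd a)))⁻¹ =
      Y r * X (ofAdd (-(r * a))) * β1 (xHom F (ofAdd (r * r * a)))
    have hc : ∀ a d : F, β0 (xHom F (ofAdd a)) * (X (ofAdd d) * β1 (xHom F (ofAdd (-(r * d))))) *
        (β0 (xHom F (ofAdd a)))⁻¹ = X (ofAdd d) * β1 (xHom F (ofAdd (-(r * d)))) := fun a d => by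
      rw [((u0 a d).mul_right (S.comm _ _)).eq, mul_inv_cancel_right]
    let A : AddSubgroup F :=
      { carrier := {a | P a}
        zero_mem' := by simp [P]
        add_mem' := fun {a d} ha hd => by
          simp only [Set.mem_setOf_eq, P] at ha hd ⊢
          rw [show r * r * d = -(r * -(r * d)) by ring,
            mul_assoc (Y r) (X (ofAdd (-(r * d))))] at hd
          calc β0 (xHom F (ofAdd (a + d))) * Y r * (β0 (xHom F (ofAdd (a + d))))⁻¹
              = β0 (xHom F (ofAdd a)) * (β0 (xHom F (ofAdd d)) * Y r * (β0 (xHom F (ofAdd d)))⁻¹) *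
                  (β0 (xHom F (ofAdd a)))⁻¹ := by rw [ofAdd_add, map_mul, map_mul]; group
            _ = (β0 (xHom F (ofAdd a)) * Y r * (β0 (xHom F (ofAdd a)))⁻¹) *
                  (β0 (xHom F (ofAdd a)) * (X (ofAdd (-(r * d))) *
                    β1 (xHom F (ofAdd (-(r * -(r * d)))))) * (β0 (xHom F (ofAdd a)))⁻¹) := by
                rw [hd, conj_mul]
            _ = Y r * (X (ofAdd (-(r * a))) * X (ofAdd (-(r * d)))) *
                  (β1 (xHom F (ofAdd (r * r * a))) * β1 (xHom F (ofAdd (-(r * -(r * d)))))) := by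
                rw [ha, hc, mul_assoc (Y r * X (ofAdd (-(r * a)))), ← mul_assoc (β1 _) (X _),
                  (u1 _ (-(r * d))).eq]
                group
            _ = _ := by
                rw [hXadd, ← map_mul β1, ← map_mul, ← ofAdd_add]
                congr 4 <;> ring
        neg_mem' := fun {a} ha => by
          simp only [Set.mem_setOf_eq, P] at ha ⊢
          rw [show r * r * a = -(r * -(r * a)) by ring,
            mul_assoc (Y r) (X (ofAdd (-(r * a))))] at ha
          set M := X (ofAdd (-(r * a))) * β1 (xHom F (ofAdd (-(r * -(r * a)))))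
          set B := β0 (xHom F (ofAdd a))
          have hM : B * M * B⁻¹ = M := hc a _
          have hBM : B⁻¹ * M * B = M := by
            conv_lhs => rw [← hM]
            group
          have eM : X (ofAdd (-(r * -a))) * β1 (xHom F (ofAdd (r * r * -a))) = M⁻¹ := by
            rw [_root_.mul_inv_rev, ← map_inv β1, ← map_inv (xHom F), ← map_inv X, ← ofAdd_neg,
              ← ofAdd_neg, (u1 _ _).eq]
            congr 4 <;> ring
          rw [ofAdd_neg, map_inv, map_inv, inv_inv, mul_assoc (Y r), eM]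
          calc B⁻¹ * Y r * B = B⁻¹ * (Y r * M) * B * (B⁻¹ * M * B)⁻¹ := by group
            _ = _ := by rw [← ha, hBM]; group }
    refine all_of_squares hspan A (fun l => ?_) a
    obtain ⟨l1, hl1⟩ := ne_unit r hr l⁻¹
    show P ((l : F) * l)
    have := congrArg (T l l1) S.upass
    rw [← hY1, ← x1] at this
    simp only [map_mul (T l l1), map_inv (T l l1)] at this
    rw [τX, τY, τU0, τU1, ← map_inv X, ← ofAdd_neg] at this
    simp only [mul_one] at this
    rw [hl1] at this
    show _ = _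
    rw [show r * ((l : F) * l) = (l : F) * l1 from by
        rw [← hl1]; simp only [Units.val_inv_eq_inv_val]; field_simp,
      show r * r * ((l : F) * l) = (l1 : F) * l1 from by
        rw [← hl1]; simp only [Units.val_inv_eq_inv_val]; field_simp]
    exact this
  subst hY
  exact ⟨{ β0 := β0, β1 := β1, X := X, comm := S.comm, h0 := h0, h1 := h1, u0 := u0, u1 := u1,
           heis := heis, upass := upass }, rfl, rfl, hX1⟩

end CfsgLib.Presentations.SpPres
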