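/-
The four dimensional symplectic groups over fields with more than two elements need few relations.
-/
import Cfsg.Agent.Lib.Presentations.SpLocal
import Cfsg.Agent.Lib.Presentations.Generators
import Cfsg.Agent.Lib.Presentations.SLGlue
import Cfsg.Agent.Lib.Presentations.PSLMain

set_option autoImplicit false

namespace CfsgLib.Presentations.SpPres

open CfsgLib.Chev.CT.SpAm
open CfsgLib.SL2Pres (xHom hDiag wEl cj polyWord map_cj map_polyWord)
open Multiplicative (ofAdd toAdd)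
open Polynomial
open scoped MatrixGroups

universe u

variable {F : Type u} [Field F] {n : ℕ}

/-- The planes and the short root groups generate. -/
theorem sp_gen (hn : 2 ≤ n) (hF : ∃ c : F, c ≠ 0 ∧ c ≠ 1) :
    Subgroup.closure ((⋃ i, ((FS i : Subgroup (Sp F n)) : Set (Sp F n))) ∪
      ⋃ (i : Fin n) (_ : (i : ℕ) + 1 < n), ((FM i : Subgroup (Sp F n)) : Set (Sp F n))) = ⊤ := by
  have hfun : ∀ K : Subgroup (Sp F n × PUnit.{1}), Func K := fun K p _ e =>
    Prod.ext e (Subsingleton.elim _ _)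
  have hproj : ∀ K : Subgroup (Sp F n),
      (K.prod (⊤ : Subgroup PUnit.{1})).map (MonoidHom.fst (Sp F n) PUnit.{1}) = K := by
    intro K
    ext g
    exact ⟨fun ⟨p, hp, e⟩ => e ▸ hp.1, fun hg => ⟨(g, 1), ⟨hg, trivial⟩, rfl⟩⟩
  let A : Amal F n PUnit.{1} :=
    { LS := fun i => (FS i).prod ⊤
      LM := fun i => (FM i).prod ⊤
      LS_proj := fun i => hproj _
      LM_proj := fun i _ => hproj _
      fSS := fun _ _ _ => hfun _
      fMM := fun _ _ _ _ _ => hfun _
      fMS := fun _ _ _ => hfun _ }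
  obtain ⟨-, h⟩ := (A.good hn hF n 0 (by omega)).1
  set C := Subgroup.closure ((⋃ i, ((FS i : Subgroup (Sp F n)) : Set (Sp F n))) ∪
      ⋃ (i : Fin n) (_ : (i : ℕ) + 1 < n), ((FM i : Subgroup (Sp F n)) : Set (Sp F n)))
  have hle : A.Gam 0 ≤ C.comap (MonoidHom.fst (Sp F n) PUnit.{1}) :=
    A.Gam_le (fun l _ p hp => Subgroup.subset_closure (Or.inl (Set.mem_iUnion.2 ⟨l, hp.1⟩)))
      (fun i _ hi p hp => Subgroup.subset_closure
        (Or.inr (Set.mem_iUnion.2 ⟨i, Set.mem_iUnion.2 ⟨hi, hp.1⟩⟩)))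
  refine eq_top_iff.2 fun g _ => ?_
  have hg : g ∈ Gn F n 0 := fun z ⟨i, hi, _⟩ => absurd hi (Nat.not_lt_zero _)
  rw [← h] at hg
  obtain ⟨p, hp, rfl⟩ := hg
  exact hle hp

/-- SL₂ over a field with more than two elements is generated by two elements. -/
theorem sl2_pair [Fintype F] (h3 : 3 ≤ Fintype.card F) :
    ∃ a b : SL(2, F), Subgroup.closure ({a, b} : Set (SL(2, F))) = ⊤ := by
  classical
  by_cases h4 : 4 ≤ Fintype.card F
  · exact sl2_two_generated h4
  obtain ⟨t, ht, hord⟩ := CfsgLib.SL2Pres.exists_gen F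
  have hc : Fintype.card F = 3 := by omega
  refine ⟨xHom F (ofAdd 1), wEl F, ?_⟩
  rw [eq_top_iff, ← CfsgLib.SL2Pres.sl2_gen ht (span_sq ht), Subgroup.closure_le]
  have hw : wEl F ∈ Subgroup.closure ({xHom F (ofAdd 1), wEl F} : Set (SL(2, F))) :=
    Subgroup.subset_closure (Or.inr rfl)
  rintro g (rfl | rfl | rfl)
  · exact Subgroup.subset_closure (Or.inl rfl)
  · have e : hDiag t = wEl F * wEl F := by
      have h2 : t ^ 2 = 1 := by rw [← show orderOf t = 2 by omega]; exact pow_orderOf_eq_one t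
      have ht1 : t ≠ 1 := fun e => by rw [e, orderOf_one] at hord; omega
      have hneg : (t : F) = -1 := by
        have h2' : (t : F) ^ 2 = 1 := by rw [← Units.val_pow_eq_pow_val, h2, Units.val_one]
        rcases sq_eq_one_iff.1 h2' with h | h
        · exact absurd (Units.ext h) ht1
        · exact h
      refine Matrix.SpecialLinearGroup.ext _ _ fun i j => ?_
      rw [CfsgLib.SL2Pres.sl2_w_sq_apply, CfsgLib.SL2Pres.hDiag_val]
      fin_cases i <;> fin_cases j <;> simp [hneg]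
    rw [e]; exact mul_mem hw hw
  · exact hw

/-- The exchange of the two planes. -/
def swapSp : Sp F 2 :=
  ofLin
    { toFun := fun y p => y (Sum.map Fin.rev Fin.rev p)
      map_add' := fun _ _ => rfl
      map_smul' := fun _ _ => rfl }
    (fun x y => by simp [om, Fin.sum_univ_two]; ring)

theorem act_swap (y : V F 2) (p : Fin 2 ⊕ Fin 2) :
    act swapSp y p = y (Sum.map Fin.rev Fin.rev p) := by
  rw [swapSp, act_ofLin]; rfl

theorem act_swap_be (i : Fin 2) : act (swapSp (F := F)) (be i) = be i.rev := by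
  funext p
  rw [act_swap]
  rcases p with p | p <;> fin_cases i <;> fin_cases p <;> simp [be]

theorem act_swap_bf (i : Fin 2) : act (swapSp (F := F)) (bf i) = bf i.rev := by
  funext p
  rw [act_swap]
  rcases p with p | p <;> fin_cases i <;> fin_cases p <;> simp [bf]

theorem swap_sq : swapSp * swapSp = (1 : Sp F 2) :=
  Sp_ext fun y => funext fun p => by
    rw [act_mul, act_swap, act_swap, act_one]
    rcases p with p | p <;> simp [Fin.rev_rev]

theorem swap_g2 (g : SL(2, F)) : swapSp * g2 0 g * swapSp⁻¹ = g2 1 g := by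
  have hs : (swapSp (F := F))⁻¹ = swapSp := inv_eq_of_mul_eq_one_right swap_sq
  rw [hs]
  refine Sp_ext_basis (fun i => ?_) (fun i => ?_) <;> fin_cases i <;>
    simp [act_swap_be, act_swap_bf, act_g2_be, act_g2_bf, act_g2_be_ne, act_g2_bf_ne,
      show Fin.rev (0 : Fin 2) = 1 from rfl, show Fin.rev (1 : Fin 2) = 0 from rfl]

theorem swap_rX : swapSp * rX 0 1 (1 : F) * (swapSp (F := F))⁻¹ = rX 0 1 1 := by
  rw [rX, Ei_conj, act_smul, act_swap_be, act_swap_be, one_smul, one_smul]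
  exact Ei_symm (by simp [om_be_be])

theorem g2_comm (a b : SL(2, F)) : Commute (g2 0 a : Sp F 2) (g2 1 b) :=
  (commute_of_fix (g2_mem_FS 0 a) (act_g2_be_ne (by decide) b) (act_g2_bf_ne (by decide) b)).symm

/-- The root group as a homomorphism. -/
def rXh : Multiplicative F →* Sp F 2 where
  toFun r := rX 0 1 (toAdd r)
  map_one' := by simp [rX]
  map_mul' r s := (rX_add (by decide : (0 : Fin 2) ≠ 1) _ _).symm

theorem rXh_apply (r : F) : rXh (ofAdd r) = rX 0 1 r := rfl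

theorem hDiag_rX (l : Fˣ) (r : F) :
    g2 0 (hDiag l) * rX 0 1 r * (g2 0 (hDiag l))⁻¹ = (rX 0 1 ((l : F) * r) : Sp F 2) := by
  rw [rX, Ei_conj, (g2_hDiag 0 l).1, act_smul, act_g2_be_ne (by decide : (1 : Fin 2) ≠ 0),
    Ei_smul (by simp [om_be_be]), smul_smul, rX]

/-- The model satisfies the seed relations. -/
theorem model_seed {t : Fˣ} {p : ℕ} [CharP F p] {b : ℕ} (hb : (t : F) = (t : F) ^ b + 1)
    {f : ℤ[X]} (hf : aeval (t : F) f = 0) :
    Seed t (g2 0) (g2 1) (rX 0 1 1 : Sp F 2) p b f := by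
  have hij : (0 : Fin 2) ≠ 1 := by decide
  have hX : CfsgLib.SL2Pres.IsConjHom (t : F) rXh (g2 0 (hDiag t) : Sp F 2) := fun c => hDiag_rX t c
  have hcj : ∀ d : ℕ, cj (g2 0 (hDiag t)) (rX 0 1 1 : Sp F 2) (d : ℤ) = rX 0 1 ((t : F) ^ d) :=
    fun d => hX.cj_eq d
  have hw : g2 0 (wEl F) * rX 0 1 1 * (g2 0 (wEl F))⁻¹ = (rY 0 1 1 : Sp F 2) := by
    rw [rX, Ei_conj, (g2_wEl 0).1, act_smul, act_g2_be_ne hij.symm, rY]
  refine ⟨g2_comm, ?_, ?_, ?_, ?_, ?_, ?_, ?_, ?_, ?_⟩
  · rw [show (1 : ℤ) = ((1 : ℕ) : ℤ) from rfl, hcj, hcj, rX_add hij, pow_one, ← hb]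
  · rw [show (1 : ℤ) = ((1 : ℕ) : ℤ) from rfl, hcj]
    show _ = _
    rw [rX_add hij, rX_add hij, add_comm]
  · rw [← rXh_apply, ← map_pow, ← ofAdd_nsmul]; simp
  · have := hX.polyWord_eq 1 f
    rw [pow_one, hf, rXh_apply] at this
    simpa [rX] using this
  · rw [hDiag_rX, rX, Ei_conj, act_g2_be_ne hij, act_smul, (g2_hDiag 1 t).1, smul_smul, one_mul,
      mul_one]
    rfl
  · rw [g2_xHom]
    exact fix_commute (fun l => by simp [om_be_be]) (fun l => by simp [act_rX hij, om_be_be])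
  · rw [g2_xHom]
    exact fix_commute (fun l => by simp [om_be_be]) (fun l => by simp [act_rX hij, om_be_be])
  · rw [hw, g2_xHom, rX_mul_rY hij, mul_one, mul_one]
  · rw [hw, g2_xHom, g2_xHom, T_conj_rY hij, mul_one, mul_one]
    congr 2
    exact eq_inv_of_mul_eq_one_right (by rw [rX_add hij]; simp [rX])

/-- The local data give the universal map. -/
theorem exists_hom_four {Γ : Type} [Group Γ] (hF : ∃ c : F, c ≠ 0 ∧ c ≠ 1) (D : Local F Γ) (s : Γ)
    (hs2 : s * s = 1) (hs0 : ∀ g, s * D.β0 g * s⁻¹ = D.β1 g)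
    (hsX : ∀ r, s * D.X (ofAdd r) * s⁻¹ = D.X (ofAdd r)) :
    ∃ Ψ : Sp F 2 →* Γ, (∀ g, Ψ (g2 0 g) = D.β0 g) ∧ (∀ g, Ψ (g2 1 g) = D.β1 g) ∧
      Ψ (rX 0 1 1) = D.X (ofAdd 1) := by
  classical
  have hij : (0 : Fin 2) ≠ 1 := by decide
  let φ := (MulAut.conj s).toMonoidHom
  let D' := D.push φ
  have e0 : D'.β0 = D.β1 := MonoidHom.ext hs0
  have hsi : s⁻¹ = s := inv_eq_of_mul_eq_one_right hs2
  have e1 : D'.β1 = D.β0 := MonoidHom.ext fun g => by
    show s * D.β1 g * s⁻¹ = D.β0 g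
    rw [← hs0, hsi]
    calc s * (s * D.β0 g * s) * s = (s * s) * D.β0 g * (s * s) := by group
      _ = _ := by rw [hs2, one_mul, mul_one]
  have eX : ∀ r, D'.X (ofAdd r) = D.X (ofAdd r) := hsX
  have hM : D.gM (0 : Fin 2) 1 ≤ D'.gV (1 : Fin 2) 0 ⊔ Local.gS 1 D'.β0 := by
    rw [Local.gM, Subgroup.closure_le]
    rintro z ⟨r, rfl | rfl | rfl⟩
    · refine Subgroup.mem_sup_left ?_
      have := D'.mem_U (1 : Fin 2) 0 r
      rwa [Local.U, e1] at this
    · refine Subgroup.mem_sup_right ⟨xHom F (ofAdd r), Prod.ext (g2_xHom 1 r) ?_⟩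
      show D'.β0 _ = D.U r
      rw [e0]; rfl
    · refine Subgroup.mem_sup_left ?_
      have := D'.mem_X (1 : Fin 2) 0 r
      rwa [eX, ← rX_symm hij] at this
  let A : Amal F 2 Γ :=
    { LS := ![Local.gS 0 D.β0, Local.gS 1 D.β1]
      LM := fun _ => D.gM 0 1
      LS_proj := fun j => by fin_cases j <;> exact Local.gS_proj _ _
      LM_proj := fun i hi => by
        obtain rfl : i = 0 := Fin.ext (by simp; omega)
        exact D.gM_proj (by rfl)
      fSS := fun j l hjl => by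
        fin_cases j <;> fin_cases l
        · exact absurd rfl hjl
        · exact Local.gS_sup_func hij _ _ D.comm
        · exact Local.gS_sup_func hij.symm _ _ fun a b => (D.comm b a).symm
        · exact absurd rfl hjl
      fMM := fun i i' h hi hi' => absurd (Fin.ext (by omega)) h
      fMS := fun i j hi => by
        fin_cases j
        · exact (D.func hij).mono (sup_le (D.gM_le hij) le_sup_right)
        · refine (D'.func hij.symm).mono (sup_le hM ?_)
          rw [e0]; exact le_sup_right }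
  obtain ⟨Ψ, ⟨hS, hMΨ⟩, -⟩ := A.exists_unique_hom le_rfl hF
  exact ⟨Ψ, fun g => hS 0 _ ⟨g, rfl⟩, fun g => hS 1 _ ⟨g, rfl⟩,
    hMΨ 0 (by norm_num) _ (Subgroup.subset_closure ⟨1, Or.inr (Or.inr rfl)⟩)⟩

set_option maxHeartbeats 400000 in
/-- Four dimensional symplectic groups have few relations and few generators. -/
theorem sp_four_bounded [Fintype F] (h3 : 3 ≤ Fintype.card F) :
    Bounded (Sp F 2) 26 ∧
      ∃ gn : Fin 6 → Sp F 2, Subgroup.closure (Set.range gn) = ⊤ := by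
  classical
  obtain ⟨p, hp⟩ := CharP.exists F
  have : Fact p.Prime := ⟨CharP.char_is_prime F p⟩
  let _ : Algebra (ZMod p) F := ZMod.algebra F p
  obtain ⟨t, ht, hord⟩ := CfsgLib.SL2Pres.exists_gen F
  have hspan := span_sq ht
  obtain ⟨f, hf0, hfker⟩ := CfsgLib.SL2Pres.poly_ker (p := p) (t : F)
  have ht1 : (t : F) - 1 ≠ 0 := sub_ne_zero.2 fun e => by
    rw [Units.val_eq_one.1 e, orderOf_one] at hord; omega
  obtain ⟨b, hb'⟩ := ht (Units.mk0 _ ht1)
  have hb : (t : F) = (t : F) ^ b + 1 := by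
    rw [← Units.val_pow_eq_pow_val, hb', Units.val_mk0, sub_add_cancel]
  obtain ⟨a₁, a₂, hab⟩ := sl2_pair h3
  obtain ⟨rels, hcard, ⟨e⟩⟩ := (CfsgLib.SL2Pres.presentations F).1
  have hB : Bounded (SL(2, F)) 9 := Bounded.of_presented hcard e
  have hF : ∃ c : F, c ≠ 0 ∧ c ≠ 1 := ⟨t, t.ne_zero, sub_ne_zero.1 ht1⟩
  let g : FreeGroup (Fin 2) →* Sp F 2 := FreeGroup.lift ![swapSp, rX 0 1 1]
  let s0 : SL(2, F) → FreeGroup (SL(2, F) ⊕ FreeGroup (Fin 2)) := fun a => FreeGroup.of (Sum.inl a)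
  let sw : FreeGroup (SL(2, F) ⊕ FreeGroup (Fin 2)) := FreeGroup.of (Sum.inr (FreeGroup.of 0))
  let xw : FreeGroup (SL(2, F) ⊕ FreeGroup (Fin 2)) := FreeGroup.of (Sum.inr (FreeGroup.of 1))
  let s1 : SL(2, F) → FreeGroup (SL(2, F) ⊕ FreeGroup (Fin 2)) := fun a => sw * s0 a * sw⁻¹
  let yw := s0 (wEl F) * xw * (s0 (wEl F))⁻¹
  let cw : FreeGroup (SL(2, F) ⊕ FreeGroup (Fin 2)) → FreeGroup (SL(2, F) ⊕ FreeGroup (Fin 2)) →
    FreeGroup (SL(2, F) ⊕ FreeGroup (Fin 2)) := fun a b => a * b * (b * a)⁻¹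
  let gens : Option (SL(2, F) ⊕ SL(2, F)) → Sp F 2 := fun o =>
    o.elim (rX 0 1 1) (Sum.elim (g2 0) (g2 1))
  have hgens : Subgroup.closure (Set.range gens) = ⊤ := by
    rw [eq_top_iff, ← sp_gen (F := F) le_rfl hF, Subgroup.closure_le]
    set K := Subgroup.closure (Set.range gens)
    have h0 : ∀ c, g2 0 c ∈ K := fun c => Subgroup.subset_closure ⟨some (Sum.inl c), rfl⟩
    have h1 : ∀ c, g2 1 c ∈ K := fun c => Subgroup.subset_closure ⟨some (Sum.inr c), rfl⟩
    rintro z (hz | hz)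
    · obtain ⟨i, hz⟩ := Set.mem_iUnion.1 hz
      rw [SetLike.mem_coe, ← g2_range] at hz
      obtain ⟨c, rfl⟩ := hz
      fin_cases i
      · exact h0 c
      · exact h1 c
    · obtain ⟨i, hz⟩ := Set.mem_iUnion.1 hz
      obtain ⟨hi, hz⟩ := Set.mem_iUnion.1 hz
      obtain rfl : i = 0 := Fin.ext (by simp; omega)
      obtain ⟨a, c, r, rfl⟩ := M_decomp (i := (0 : Fin 2)) (j := 1) rfl hz
      have hX : ∀ r : F, rX 0 1 r ∈ K := by
        intro r
        by_cases hr : r = 0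
        · subst hr; simp [rX, one_mem]
        · rw [← mul_one r, ← Units.val_mk0 hr, ← hDiag_rX]
          exact mul_mem (mul_mem (h0 _) (Subgroup.subset_closure ⟨none, rfl⟩)) (inv_mem (h0 _))
      refine mul_mem (mul_mem ?_ ?_) (hX r)
      · rw [← g2_xHom]; exact h0 _
      · rw [← g2_xHom]; exact h1 _
  obtain ⟨ws, hws⟩ : ∃ ws, FreeGroup.lift gens ws = swapSp := by
    have h : swapSp ∈ (FreeGroup.lift gens).range := by
      rw [FreeGroup.range_lift_eq_closure, hgens]; trivial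
    exact h
  let trW : FreeGroup (Option (SL(2, F) ⊕ SL(2, F))) →* FreeGroup (SL(2, F) ⊕ FreeGroup (Fin 2)) :=
    FreeGroup.lift fun o => o.elim xw (Sum.elim s0 s1)
  let E : List (FreeGroup (SL(2, F) ⊕ FreeGroup (Fin 2))) :=
    [sw * sw,
      cw (s0 a₁) (s1 a₁), cw (s0 a₁) (s1 a₂), cw (s0 a₂) (s1 a₁), cw (s0 a₂) (s1 a₂),
      sw * xw * sw⁻¹ * xw⁻¹,
      s1 (hDiag t) * xw * (s1 (hDiag t))⁻¹ * (s0 (hDiag t) * xw * (s0 (hDiag t))⁻¹)⁻¹,
      cj (s0 (hDiag t)) xw 1 * (cj (s0 (hDiag t)) xw (b : ℤ) * xw)⁻¹,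
      cw xw (cj (s0 (hDiag t)) xw 1),
      xw ^ p,
      polyWord (s0 (hDiag t)) xw 1 f,
      cw (s0 (xHom F (ofAdd 1))) xw,
      xw * yw * (yw * xw * s1 (xHom F (ofAdd (-2))))⁻¹,
      s0 (xHom F (ofAdd 1)) * yw * (s0 (xHom F (ofAdd 1)))⁻¹ *
        (yw * xw⁻¹ * s1 (xHom F (ofAdd 1)))⁻¹,
      sw⁻¹ * trW ws]
  let L := FreeGroup.lift (Sum.elim (g2 0 : SL(2, F) →* Sp F 2) g)
  have Ls0 : ∀ c, L (s0 c) = g2 0 c := fun c => by simp [L, s0]
  have Lsw : L sw = swapSp := by simp [L, sw, g]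
  have Lxw : L xw = rX 0 1 1 := by simp [L, xw, g]
  have Ls1 : ∀ c, L (s1 c) = g2 1 c := fun c => by
    simp only [s1, map_mul, map_inv, Ls0, Lsw, swap_g2]
  have M := model_seed (p := p) hb hf0
  have hcw : ∀ a c, Commute (L a) (L c) → L (cw a c) = 1 := fun a c h => by
    simp only [cw, map_mul, map_inv, h.eq, mul_inv_cancel]
  have hgen : (g2 0 : SL(2, F) →* Sp F 2).range ⊔ g.range = ⊤ := by
    rw [eq_top_iff, ← hgens, Subgroup.closure_le]
    have hsw : swapSp ∈ g.range := ⟨FreeGroup.of 0, by simp [g]⟩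
    rintro _ ⟨o, rfl⟩
    rcases o with _ | c | c
    · exact Subgroup.mem_sup_right ⟨FreeGroup.of 1, by simp [g, gens]⟩
    · exact Subgroup.mem_sup_left ⟨c, rfl⟩
    · show g2 1 c ∈ _
      rw [← swap_g2]
      exact mul_mem (mul_mem (Subgroup.mem_sup_right hsw) (Subgroup.mem_sup_left ⟨c, rfl⟩))
        (inv_mem (Subgroup.mem_sup_right hsw))
  refine ⟨(Bounded.glue (g2 0) g hB (bounded_free (Fin 2)) hgen E ?_ ?_).mono
    (by simp only [E, List.length_cons, List.length_nil]; omega), ?_⟩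
  · intro r hr
    simp only [E, List.mem_cons, List.not_mem_nil, or_false] at hr
    change L r = 1
    rcases hr with rfl | rfl | rfl | rfl | rfl | rfl | rfl | rfl | rfl | rfl | rfl | rfl | rfl |
      rfl | rfl
    · rw [map_mul, Lsw, swap_sq]
    · exact hcw _ _ (by rw [Ls0, Ls1]; exact g2_comm _ _)
    · exact hcw _ _ (by rw [Ls0, Ls1]; exact g2_comm _ _)
    · exact hcw _ _ (by rw [Ls0, Ls1]; exact g2_comm _ _)
    · exact hcw _ _ (by rw [Ls0, Ls1]; exact g2_comm _ _)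
    · rw [map_mul, map_inv, map_mul, map_mul, map_inv, Lsw, Lxw, swap_rX, mul_inv_cancel]
    · simp only [map_mul, map_inv, Ls0, Ls1, Lxw, M.h1, mul_inv_cancel]
    · rw [map_mul, map_inv, map_mul, map_cj, map_cj, Ls0, Lxw, M.tri, mul_inv_cancel]
    · exact hcw _ _ (by rw [map_cj, Ls0, Lxw]; exact M.self)
    · rw [map_pow, Lxw, M.pow]
    · rw [map_polyWord, Ls0, Lxw, M.poly]
    · exact hcw _ _ (by rw [Ls0, Lxw]; exact M.u0)
    · simp only [yw, map_mul, map_inv, Ls0, Ls1, Lxw, M.heis, mul_inv_cancel]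
    · simp only [yw, map_mul, map_inv, Ls0, Ls1, Lxw, M.upass, mul_inv_cancel]
    · have h : L.comp trW = FreeGroup.lift gens := FreeGroup.ext_hom _ _ fun o => by
        rcases o with _ | c | c <;> simp [trW, gens, Ls0, Ls1, Lxw]
      have h' := DFunLike.congr_fun h ws
      rw [MonoidHom.comp_apply, hws] at h'
      rw [map_mul, map_inv, h', Lsw, inv_mul_cancel]
  · intro Γ _ α β hE
    let K := FreeGroup.lift (Sum.elim (α : SL(2, F) → Γ) β)
    set s := β (FreeGroup.of 0) with hs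
    set x := β (FreeGroup.of 1) with hx
    have Ks0 : ∀ c, K (s0 c) = α c := fun c => by simp [K, s0]
    have Ksw : K sw = s := by simp [K, sw, hs]
    have Kxw : K xw = x := by simp [K, xw, hx]
    let α1 : SL(2, F) →* Γ := (MulAut.conj s).toMonoidHom.comp α
    have Ks1 : ∀ c, K (s1 c) = α1 c := fun c => by
      simp only [s1, map_mul, map_inv, Ks0, Ksw]; rfl
    have hk : ∀ r ∈ E, K r = 1 := hE
    have kc : ∀ a c, cw a c ∈ E → Commute (K a) (K c) := fun a c h => by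
      have := hk _ h
      simp only [cw, map_mul, map_inv, mul_inv_eq_one] at this
      exact this
    have hs2 : s * s = 1 := by
      have := hk (sw * sw) (by simp [E])
      rwa [map_mul, Ksw] at this
    have hsi : s⁻¹ = s := inv_eq_of_mul_eq_one_right hs2
    have hcomm : ∀ a c, Commute (α a) (α1 c) := by
      intro a c
      have key : ∀ a ∈ ({a₁, a₂} : Set (SL(2, F))), ∀ c ∈ ({a₁, a₂} : Set (SL(2, F))),
          Commute (α a) (α1 c) := by
        rintro a (rfl | rfl) c (rfl | rfl) <;> rw [← Ks0, ← Ks1] <;> exact kc _ _ (by simp [E])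
      have h1 : ∀ a ∈ ({a₁, a₂} : Set (SL(2, F))), ∀ c, Commute (α a) (α1 c) := fun a ha c => by
        have : Subgroup.closure ({a₁, a₂} : Set (SL(2, F))) ≤
            (Subgroup.centralizer ({α a} : Set Γ)).comap α1 :=
          (Subgroup.closure_le _).2 fun c hc =>
            Subgroup.mem_centralizer_singleton_iff.2 (key a ha c hc).eq.symm
        rw [hab] at this
        exact (Subgroup.mem_centralizer_singleton_iff.1 (this (Subgroup.mem_top c))).symm
      have : Subgroup.closure ({a₁, a₂} : Set (SL(2, F))) ≤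
          (Subgroup.centralizer ({α1 c} : Set Γ)).comap α :=
        (Subgroup.closure_le _).2 fun a ha =>
          Subgroup.mem_centralizer_singleton_iff.2 (h1 a ha c).eq
      rw [hab] at this
      exact Subgroup.mem_centralizer_singleton_iff.1 (this (Subgroup.mem_top a))
    have hsx : s * x * s⁻¹ = x := by
      have := hk (sw * xw * sw⁻¹ * xw⁻¹) (by simp [E])
      rwa [map_mul, map_inv, map_mul, map_mul, map_inv, Ksw, Kxw, mul_inv_eq_one] at this
    have hu0 : Commute (α (xHom F (ofAdd 1))) x := by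
      rw [← Ks0, ← Kxw]; exact kc _ _ (by simp [E])
    have S : Seed t α α1 x p b f := by
      refine ⟨hcomm, ?_, ?_, ?_, ?_, ?_, hu0, ?_, ?_, ?_⟩
      · have := hk (cj (s0 (hDiag t)) xw 1 * (cj (s0 (hDiag t)) xw (b : ℤ) * xw)⁻¹) (by simp [E])
        rwa [map_mul, map_inv, map_mul, map_cj, map_cj, Ks0, Kxw, mul_inv_eq_one] at this
      · have := kc xw (cj (s0 (hDiag t)) xw 1) (by simp [E])
        rwa [map_cj, Ks0, Kxw] at this
      · have := hk (xw ^ p) (by simp [E])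
        rwa [map_pow, Kxw] at this
      · have := hk (polyWord (s0 (hDiag t)) xw 1 f) (by simp [E])
        rwa [map_polyWord, Ks0, Kxw] at this
      · have := hk (s1 (hDiag t) * xw * (s1 (hDiag t))⁻¹ *
          (s0 (hDiag t) * xw * (s0 (hDiag t))⁻¹)⁻¹) (by simp [E])
        simpa only [map_mul, map_inv, Ks0, Ks1, Kxw, mul_inv_eq_one] using this
      · have := hu0.map (MulAut.conj s).toMonoidHom
        rwa [show (MulAut.conj s).toMonoidHom x = x from hsx] at this
      · have := hk (xw * yw * (yw * xw * s1 (xHom F (ofAdd (-2))))⁻¹) (by simp [E])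
        simpa only [yw, map_mul, map_inv, Ks0, Ks1, Kxw, mul_inv_eq_one] using this
      · have := hk (s0 (xHom F (ofAdd 1)) * yw * (s0 (xHom F (ofAdd 1)))⁻¹ *
          (yw * xw⁻¹ * s1 (xHom F (ofAdd 1)))⁻¹) (by simp [E])
        simpa only [yw, map_mul, map_inv, Ks0, Ks1, Kxw, mul_inv_eq_one] using this
    obtain ⟨D, e0, e1, eX⟩ := S.exists_local ht hspan hfker
    have hsX : ∀ r, s * D.X (ofAdd r) * s⁻¹ = D.X (ofAdd r) := by
      intro r
      by_cases hr : r = 0
      · subst hr; simp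
      have h1 : D.X (ofAdd r) = α (hDiag (Units.mk0 r hr)) * x * (α (hDiag (Units.mk0 r hr)))⁻¹ := by
        rw [← eX, ← e0, D.h0, mul_one, Units.val_mk0]
      conv_lhs => rw [h1]
      set l := hDiag (Units.mk0 r hr)
      have h2 : α1 l * x * (α1 l)⁻¹ = D.X (ofAdd r) := by
        rw [← eX, ← e1, D.h1, mul_one, Units.val_mk0]
      calc s * (α l * x * (α l)⁻¹) * s⁻¹
          = (s * α l * s⁻¹) * (s * x * s⁻¹) * (s * α l * s⁻¹)⁻¹ := by group
        _ = _ := by rw [hsx]; exact h2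
    obtain ⟨Ψ, h0, h1, hX⟩ := exists_hom_four hF D s hs2 (fun c => by rw [e0, e1]; rfl) hsX
    refine ⟨Ψ, MonoidHom.ext fun c => by rw [MonoidHom.comp_apply, h0, e0], ?_⟩
    refine FreeGroup.ext_hom _ _ fun i => ?_
    fin_cases i
    · have h : K.comp trW = Ψ.comp (FreeGroup.lift gens) := FreeGroup.ext_hom _ _ fun o => by
        rcases o with _ | c | c <;> simp [trW, gens, Ks0, Ks1, Kxw, h0, h1, hX, e0, e1, eX]
      have h' := DFunLike.congr_fun h ws
      rw [MonoidHom.comp_apply, MonoidHom.comp_apply, hws] at h'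
      have := hk (sw⁻¹ * trW ws) (by simp [E])
      rw [map_mul, map_inv, h', Ksw, inv_mul_eq_one] at this
      show Ψ (g (FreeGroup.of 0)) = s
      rw [show g (FreeGroup.of 0) = swapSp by simp [g], this]
    · show Ψ (g (FreeGroup.of 1)) = x
      rw [show g (FreeGroup.of 1) = rX 0 1 1 by simp [g], hX, eX]
  · refine ⟨![g2 0 (xHom F (ofAdd 1)), g2 0 (hDiag t), g2 0 (wEl F), swapSp, rX 0 1 1, 1], ?_⟩
    set K := Subgroup.closure (Set.range
      ![g2 0 (xHom F (ofAdd 1)), g2 0 (hDiag t), g2 0 (wEl F), swapSp, rX 0 1 1, (1 : Sp F 2)])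
    rw [eq_top_iff, ← hgen, sup_le_iff]
    constructor
    · rw [MonoidHom.range_eq_map, ← CfsgLib.SL2Pres.sl2_gen ht hspan, MonoidHom.map_closure,
        Subgroup.closure_le]
      rintro _ ⟨c, rfl | rfl | rfl, rfl⟩
      · exact Subgroup.subset_closure ⟨0, rfl⟩
      · exact Subgroup.subset_closure ⟨1, rfl⟩
      · exact Subgroup.subset_closure ⟨2, rfl⟩
    · rw [MonoidHom.range_eq_map, ← FreeGroup.closure_range_of, MonoidHom.map_closure,
        Subgroup.closure_le]
      rintro _ ⟨_, ⟨i, rfl⟩, rfl⟩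
      fin_cases i
      · exact Subgroup.subset_closure ⟨3, by simp [g]⟩
      · exact Subgroup.subset_closure ⟨4, by simp [g]⟩

end CfsgLib.Presentations.SpPres
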