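/-
Permutations of the hyperbolic planes, and even permutations with prescribed values.
-/
import Cfsg.Agent.Lib.Presentations.SpPair
import Cfsg.Agent.Lib.Presentations.AltGlue

set_option autoImplicit false

namespace CfsgLib.Presentations.SpPres

open CfsgLib.Chev.CT.SpAm
open Equiv Equiv.Perm
open scoped MatrixGroups

universe u

variable {F : Type u} [Field F] {n : ℕ}

/-- A permutation of the planes. -/
def permSp (F : Type u) [Field F] {n : ℕ} : Perm (Fin n) →* Sp F n where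
  toFun π := ofLin
    { toFun := fun y p => y (Sum.map π.symm π.symm p)
      map_add' := fun _ _ => rfl
      map_smul' := fun _ _ => rfl }
    (fun x y => by
      simp only [om, LinearMap.coe_mk, AddHom.coe_mk, Sum.map_inl, Sum.map_inr]
      exact Equiv.sum_comp π.symm fun i => x (Sum.inl i) * y (Sum.inr i) - x (Sum.inr i) * y (Sum.inl i))
  map_one' := Sp_ext fun y => by
    rw [act_ofLin, act_one]; funext p; rcases p with p | p <;> rfl
  map_mul' π ρ := Sp_ext fun y => by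
    rw [act_mul, act_ofLin, act_ofLin, act_ofLin]
    funext p; rcases p with p | p <;> rfl

theorem act_permSp (π : Perm (Fin n)) (y : V F n) (p : Fin n ⊕ Fin n) :
    act (permSp F π) y p = y (Sum.map π.symm π.symm p) := by
  simp [permSp, act_ofLin]

theorem perm_be (π : Perm (Fin n)) (i : Fin n) : act (permSp F π) (be i) = be (π i) := by
  funext p
  rw [act_permSp]
  rcases p with p | p <;> simp [be_inl, be_inr, Equiv.symm_apply_eq]

theorem perm_bf (π : Perm (Fin n)) (i : Fin n) : act (permSp F π) (bf i) = bf (π i) := by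
  funext p
  rw [act_permSp]
  rcases p with p | p <;> simp [bf_inl, bf_inr, Equiv.symm_apply_eq]

theorem perm_rX (π : Perm (Fin n)) (i j : Fin n) (r : F) :
    permSp F π * rX i j r * (permSp F π)⁻¹ = rX (π i) (π j) r := by
  rw [rX, Ei_conj, act_smul, perm_be, perm_be, rX]

theorem perm_g2 (π : Perm (Fin n)) (k : Fin n) (g : SL(2, F)) :
    permSp F π * g2 k g * (permSp F π)⁻¹ = g2 (π k) g := by
  rw [mul_inv_eq_iff_eq_mul]
  refine Sp_ext_basis (fun i => ?_) (fun i => ?_) <;> simp only [act_mul, perm_be, perm_bf] <;>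
    (by_cases h : i = k
     · subst h
       simp only [act_g2_be, act_g2_bf, act_add, act_smul, perm_be, perm_bf]
     · simp only [act_g2_be_ne h, act_g2_bf_ne h, perm_be, perm_bf,
         act_g2_be_ne (π.injective.ne h), act_g2_bf_ne (π.injective.ne h)])

/-- The copy of the alternating group. -/
def altSp (F : Type u) [Field F] (n : ℕ) : alternatingGroup (Fin n) →* Sp F n :=
  (permSp F).comp (alternatingGroup (Fin n)).subtype

/-- An even permutation with prescribed values, two values being free. -/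
theorem ext_even {k : ℕ} (hk : k + 2 ≤ n) (a b : Fin k → Fin n) (ha : Function.Injective a)
    (hb : Function.Injective b) :
    ∃ σ : alternatingGroup (Fin n), ∀ x, (σ : Perm (Fin n)) (a x) = b x := by
  classical
  obtain ⟨π, hπ⟩ := Equiv.Perm.exists_extending_pair a b ha hb
  rcases Int.units_eq_one_or (sign π) with hs | hs
  · exact ⟨⟨π, Equiv.Perm.mem_alternatingGroup.2 hs⟩, hπ⟩
  obtain ⟨c, d, hc, hd, hcd⟩ : ∃ c d, c ∉ Set.range a ∧ d ∉ Set.range a ∧ c ≠ d := by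
    have h1 : 1 < (Finset.univ \ Finset.univ.image a).card := by
      rw [Finset.card_univ_sdiff, Finset.card_image_of_injective _ ha, Fintype.card_fin,
        Finset.card_univ, Fintype.card_fin]
      omega
    obtain ⟨c, hc, d, hd, hcd⟩ := Finset.one_lt_card.1 h1
    refine ⟨c, d, ?_, ?_, hcd⟩ <;> simp_all
  refine ⟨⟨π * swap c d, Equiv.Perm.mem_alternatingGroup.2 (by
    rw [map_mul, hs, sign_swap hcd]; rfl)⟩, fun x => ?_⟩
  show π (swap c d (a x)) = b x
  rw [swap_apply_of_ne_of_ne (fun e => hc ⟨x, e⟩) (fun e => hd ⟨x, e⟩), hπ]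

/-- The first index. -/
def i0 (hn : 3 ≤ n) : Fin n := ⟨0, by omega⟩
/-- The second index. -/
def i1 (hn : 3 ≤ n) : Fin n := ⟨1, by omega⟩
/-- The third index. -/
def i2 (hn : 3 ≤ n) : Fin n := ⟨2, by omega⟩
/-- The last index. -/
def iL (hn : 3 ≤ n) : Fin n := ⟨n - 1, by omega⟩
/-- The fourth index, or the last if there are three. -/
def i3 (hn : 3 ≤ n) : Fin n := ⟨min 3 (n - 1), by omega⟩
/-- The following index, or the same for the last. -/
def nx (i : Fin n) : Fin n := ⟨min ((i : ℕ) + 1) (n - 1), by omega⟩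

theorem nx_val {i : Fin n} (h : (i : ℕ) + 1 < n) : ((nx i : Fin n) : ℕ) = (i : ℕ) + 1 := by
  simp [nx]; omega

theorem i01 (hn : 3 ≤ n) : i0 hn ≠ i1 hn := by simp [i0, i1, Fin.ext_iff]

open scoped _root_.Classical in
/-- A chosen even permutation taking the first two indices to the given ones. -/
noncomputable def pp (hn : 3 ≤ n) (a b : Fin n) : alternatingGroup (Fin n) :=
  if h : ∃ σ : alternatingGroup (Fin n),
    (σ : Perm (Fin n)) (i0 hn) = a ∧ (σ : Perm (Fin n)) (i1 hn) = b then h.choose else 1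

theorem pp_spec (hn : 3 ≤ n) {a b : Fin n} (h : ∃ σ : alternatingGroup (Fin n),
    (σ : Perm (Fin n)) (i0 hn) = a ∧ (σ : Perm (Fin n)) (i1 hn) = b) :
    (pp hn a b : Perm (Fin n)) (i0 hn) = a ∧ (pp hn a b : Perm (Fin n)) (i1 hn) = b := by
  rw [pp, dif_pos h]; exact h.choose_spec

theorem cyc3_even : finRotate 3 ∈ alternatingGroup (Fin 3) := by
  rw [Equiv.Perm.mem_alternatingGroup]; decide

/-- Any two indices, in one of the two orders. -/
theorem ex_unordered (hn : 3 ≤ n) {a b : Fin n} (h : a ≠ b) : ∃ σ : alternatingGroup (Fin n),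
    ((σ : Perm (Fin n)) (i0 hn) = a ∧ (σ : Perm (Fin n)) (i1 hn) = b) ∨
      ((σ : Perm (Fin n)) (i0 hn) = b ∧ (σ : Perm (Fin n)) (i1 hn) = a) := by
  by_cases h4 : 4 ≤ n
  · obtain ⟨σ, hσ⟩ := ext_even (k := 2) (by omega) ![i0 hn, i1 hn] ![a, b]
      (by intro x y; fin_cases x <;> fin_cases y <;> simp [i01 hn, (i01 hn).symm])
      (by intro x y; fin_cases x <;> fin_cases y <;> simp [h, h.symm])
    exact ⟨σ, Or.inl ⟨hσ 0, hσ 1⟩⟩
  obtain rfl : n = 3 := by omega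
  have : ∃ k : Fin 3, ((finRotate 3 ^ (k : ℕ)) (i0 hn) = a ∧ (finRotate 3 ^ (k : ℕ)) (i1 hn) = b) ∨
      ((finRotate 3 ^ (k : ℕ)) (i0 hn) = b ∧ (finRotate 3 ^ (k : ℕ)) (i1 hn) = a) := by
    revert a b; unfold i0 i1; decide +revert
  obtain ⟨k, hk⟩ := this
  exact ⟨⟨_, pow_mem cyc3_even k⟩, hk⟩

/-- Consecutive indices in their order. -/
theorem ex_next (hn : 3 ≤ n) {a b : Fin n} (h : (b : ℕ) = (a : ℕ) + 1) :
    ∃ σ : alternatingGroup (Fin n),
      (σ : Perm (Fin n)) (i0 hn) = a ∧ (σ : Perm (Fin n)) (i1 hn) = b := by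
  by_cases h4 : 4 ≤ n
  · have hne : a ≠ b := fun e => by rw [e] at h; omega
    obtain ⟨σ, hσ⟩ := ext_even (k := 2) (by omega) ![i0 hn, i1 hn] ![a, b]
      (by intro x y; fin_cases x <;> fin_cases y <;> simp [i01 hn, (i01 hn).symm])
      (by intro x y; fin_cases x <;> fin_cases y <;> simp [hne, hne.symm])
    exact ⟨σ, hσ 0, hσ 1⟩
  obtain rfl : n = 3 := by omega
  have : ∃ k : Fin 3,
      (finRotate 3 ^ (k : ℕ)) (i0 hn) = a ∧ (finRotate 3 ^ (k : ℕ)) (i1 hn) = b := by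
    revert a b; unfold i0 i1; decide +revert
  obtain ⟨k, hk⟩ := this
  exact ⟨⟨_, pow_mem cyc3_even k⟩, hk⟩

/-- An even permutation moving the first index anywhere. -/
theorem ex_first (hn : 3 ≤ n) (a : Fin n) : ∃ σ : alternatingGroup (Fin n),
    (σ : Perm (Fin n)) (i0 hn) = a := by
  obtain ⟨σ, hσ⟩ := ext_even (k := 1) (by omega) ![i0 hn] ![a]
    (Function.injective_of_subsingleton _) (Function.injective_of_subsingleton _)
  exact ⟨σ, hσ 0⟩

/-- An index outside the first pair, moved by the stabiliser of the pair. -/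
theorem orbit_one (hn : 3 ≤ n) {k : Fin n} (h0 : k ≠ i0 hn) (h1 : k ≠ i1 hn) :
    ∃ σ : alternatingGroup (Fin n), (σ : Perm (Fin n)) (i0 hn) = i0 hn ∧
      (σ : Perm (Fin n)) (i1 hn) = i1 hn ∧
        ((σ : Perm (Fin n)) (i2 hn) = k ∨ (σ : Perm (Fin n)) (iL hn) = k) := by
  by_cases h5 : 5 ≤ n
  · obtain ⟨σ, hσ⟩ := ext_even (k := 3) (by omega) ![i0 hn, i1 hn, i2 hn] ![i0 hn, i1 hn, k]
      (by intro x y; fin_cases x <;> fin_cases y <;> simp [i0, i1, i2, Fin.ext_iff])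
      (by intro x y; fin_cases x <;> fin_cases y <;>
        simp [i01 hn, (i01 hn).symm, h0, h1, Ne.symm h0, Ne.symm h1])
    exact ⟨σ, hσ 0, hσ 1, Or.inl (hσ 2)⟩
  refine ⟨1, rfl, rfl, ?_⟩
  simp only [OneMemClass.coe_one, Perm.one_apply, i2, iL, Fin.ext_iff]
  simp only [i0, i1, ne_eq, Fin.ext_iff] at h0 h1
  omega

/-- The pairs whose short root groups commute with the first one. -/
def Far (hn : 3 ≤ n) (a b : Fin n) : Prop :=
  a ≠ b ∧ ((a = i1 hn ∧ b ≠ i0 hn) ∨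
    (a ≠ i0 hn ∧ a ≠ i1 hn ∧ b ≠ i0 hn ∧ b ≠ i1 hn))

/-- Those pairs fall into at most four orbits under the stabiliser of the first pair. -/
theorem orbit_two (hn : 3 ≤ n) {a b : Fin n} (h : Far hn a b) :
    ∃ σ : alternatingGroup (Fin n), (σ : Perm (Fin n)) (i0 hn) = i0 hn ∧
      (σ : Perm (Fin n)) (i1 hn) = i1 hn ∧
        ∃ p ∈ [(i1 hn, i2 hn), (i1 hn, iL hn), (i2 hn, i3 hn), (i3 hn, i2 hn)],
          (σ : Perm (Fin n)) p.1 = a ∧ (σ : Perm (Fin n)) p.2 = b := by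
  obtain ⟨hab, ⟨rfl, hb⟩ | ⟨ha0, ha1, hb0, hb1⟩⟩ := h
  · obtain ⟨σ, e0, e1, e | e⟩ := orbit_one hn hb (Ne.symm hab)
    · exact ⟨σ, e0, e1, _, List.mem_cons_self, e1, e⟩
    · exact ⟨σ, e0, e1, _, List.mem_cons_of_mem _ List.mem_cons_self, e1, e⟩
  by_cases h6 : 6 ≤ n
  · obtain ⟨σ, hσ⟩ := ext_even (k := 4) (by omega) ![i0 hn, i1 hn, i2 hn, i3 hn] ![i0 hn, i1 hn, a, b]
      (by
        have : (i3 hn : ℕ) = 3 := by simp [i3]; omega
        intro x y; fin_cases x <;> fin_cases y <;> simp [i0, i1, i2, Fin.ext_iff, this])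
      (by intro x y; fin_cases x <;> fin_cases y <;>
        simp [i01 hn, (i01 hn).symm, ha0, ha1, hb0, hb1, Ne.symm ha0, Ne.symm ha1, Ne.symm hb0,
          Ne.symm hb1, hab, Ne.symm hab])
    exact ⟨σ, hσ 0, hσ 1, (i2 hn, i3 hn), by simp, hσ 2, hσ 3⟩
  by_cases h5 : n = 5
  · subst h5
    have : ∃ k : Fin 3, (((swap 2 3 * swap 3 4 : Perm (Fin 5))) ^ (k : ℕ)) (i0 hn) = i0 hn ∧ ((swap 2 3 * swap 3 4 : Perm (Fin 5)) ^ (k : ℕ)) (i1 hn) = i1 hn ∧
        ((((swap 2 3 * swap 3 4 : Perm (Fin 5)) ^ (k : ℕ)) (i2 hn) = a ∧ ((swap 2 3 * swap 3 4 : Perm (Fin 5)) ^ (k : ℕ)) (i3 hn) = b) ∨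
          (((swap 2 3 * swap 3 4 : Perm (Fin 5)) ^ (k : ℕ)) (i3 hn) = a ∧ ((swap 2 3 * swap 3 4 : Perm (Fin 5)) ^ (k : ℕ)) (i2 hn) = b)) := by
      revert a b; unfold i0 i1 i2 i3; decide +revert
    have hc : (swap 2 3 * swap 3 4 : Perm (Fin 5)) ∈ alternatingGroup (Fin 5) := by
      rw [Equiv.Perm.mem_alternatingGroup]; decide
    obtain ⟨k, e0, e1, e | e⟩ := this
    · exact ⟨⟨_, pow_mem hc k⟩, e0, e1, (i2 hn, i3 hn), by simp, e⟩
    · exact ⟨⟨_, pow_mem hc k⟩, e0, e1, (i3 hn, i2 hn), by simp, e⟩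
  refine ⟨1, rfl, rfl, ?_⟩
  simp only [i0, i1, ne_eq, Fin.ext_iff] at ha0 ha1 hb0 hb1 hab
  by_cases e : (a : ℕ) = 2
  · refine ⟨(i2 hn, i3 hn), by simp, ?_⟩
    simp [i2, i3, Fin.ext_iff]; omega
  · refine ⟨(i3 hn, i2 hn), by simp, ?_⟩
    simp [i2, i3, Fin.ext_iff]; omega

/-- Three consecutive indices. -/
theorem ex_triple (hn : 3 ≤ n) (h5 : 5 ≤ n) {a b c : Fin n} (hb : (b : ℕ) = (a : ℕ) + 1)
    (hc : (c : ℕ) = (b : ℕ) + 1) : ∃ σ : alternatingGroup (Fin n),
      (σ : Perm (Fin n)) (i0 hn) = a ∧ (σ : Perm (Fin n)) (i1 hn) = b ∧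
        (σ : Perm (Fin n)) (i2 hn) = c := by
  obtain ⟨σ, hσ⟩ := ext_even (k := 3) (by omega) ![i0 hn, i1 hn, i2 hn] ![a, b, c]
    (by intro x y; fin_cases x <;> fin_cases y <;> simp [i0, i1, i2, Fin.ext_iff])
    (by intro x y; fin_cases x <;> fin_cases y <;> simp [Fin.ext_iff] <;> omega)
  exact ⟨σ, hσ 0, hσ 1, hσ 2⟩

end CfsgLib.Presentations.SpPres
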