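/-
An alternating group, one copy of SL₂ and one short root element: the symplectic amalgam they carry.
-/
import Cfsg.Agent.Lib.Presentations.SpPerm
import Cfsg.Agent.Lib.Presentations.SpLocal

set_option autoImplicit false

namespace CfsgLib.Presentations.SpPres

open CfsgLib.Chev.CT.SpAm
open CfsgLib.SL2Pres (xHom hDiag wEl)
open Multiplicative (ofAdd toAdd)
open Equiv Equiv.Perm
open scoped MatrixGroups

universe u v w

variable {F : Type u} [Field F] {n : ℕ}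

/-- The first extra identity for two element fields. -/
def degA {G : Type w} [Group G] (m mj wj wl : G) : G :=
  m * ((wl * mj * wl⁻¹ * (wj * mj * wj⁻¹)) * m * (wl * mj * wl⁻¹ * (wj * mj * wj⁻¹))⁻¹) *
    ((wj * mj * wj⁻¹) * m * (wj * mj * wj⁻¹)⁻¹)⁻¹

/-- The second extra identity for two element fields. -/
def degB {G : Type w} [Group G] (m mj wi wj wl : G) : G :=
  (wj⁻¹ * m * wj⁻¹⁻¹ * (wi⁻¹⁻¹ * m * wi⁻¹) * (wj⁻¹ * m * wj⁻¹⁻¹))⁻¹ *
    ((wl * mj * wl⁻¹ * (wj * mj * wj⁻¹)) * m * (wl * mj * wl⁻¹ * (wj * mj * wj⁻¹))⁻¹) *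
    (wj⁻¹ * m * wj⁻¹⁻¹ * (wi⁻¹⁻¹ * m * wi⁻¹) * (wj⁻¹ * m * wj⁻¹⁻¹)) * mj⁻¹

theorem map_degA {G G' : Type*} [Group G] [Group G'] (φ : G →* G') (m mj wj wl : G) :
    φ (degA m mj wj wl) = degA (φ m) (φ mj) (φ wj) (φ wl) := by
  simp [degA]

theorem map_degB {G G' : Type*} [Group G] [Group G'] (φ : G →* G') (m mj wi wj wl : G) :
    φ (degB m mj wi wj wl) = degB (φ m) (φ mj) (φ wi) (φ wj) (φ wl) := by
  simp [degB]

theorem g2_wEl_inv (k : Fin n) :
    act (g2 k (wEl F))⁻¹ (be k) = (bf k : V F n) ∧ act (g2 k (wEl F))⁻¹ (bf k) = -(be k : V F n) :=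
  ⟨act_inv_eq (g2_wEl k).2, act_inv_eq (by rw [act_neg, (g2_wEl k).1, neg_neg])⟩

theorem wd_eq (k : Fin n) : wd (be k : V F n) (bf k) (-1) = (g2 k (wEl F))⁻¹ := by
  refine FS_ext (wd_mem_FS k _) (inv_mem (g2_mem_FS k _)) ?_ ?_
  · rw [act_wd_fst (by simp [om_be_bf]) (neg_ne_zero.2 one_ne_zero), (g2_wEl_inv k).1]; simp
  · rw [act_wd_snd (by simp [om_be_bf]) (neg_ne_zero.2 one_ne_zero), (g2_wEl_inv k).2]
    simp [inv_neg]

/-- The elements used in the extra identities. -/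
theorem deg_acts (h2 : (2 : F) = 0) {i j l : Fin n} (hij : i ≠ j) (hil : i ≠ l) (hjl : j ≠ l) :
    act (g2 l (wEl F) * rX j l 1 * (g2 l (wEl F))⁻¹ *
        (g2 j (wEl F) * rX j l 1 * (g2 j (wEl F))⁻¹) : Sp F n) (be j) = be l ∧
      act (g2 j (wEl F) * rX j l 1 * (g2 j (wEl F))⁻¹ : Sp F n) (be j) = be j + be l ∧
      degA (rX i j 1 : Sp F n) (rX j l 1) (g2 j (wEl F)) (g2 l (wEl F)) = 1 ∧
      degB (rX i j 1 : Sp F n) (rX j l 1) (g2 i (wEl F)) (g2 j (wEl F)) (g2 l (wEl F)) = 1 := by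
  have hneg : ∀ v : V F n, -v = v := fun v => neg_eq_of_add_eq_zero_right (by
    rw [← two_smul F v, h2, zero_smul])
  set y : Sp F n := g2 j (wEl F) * rX j l 1 * (g2 j (wEl F))⁻¹ with hy
  set y' : Sp F n := g2 l (wEl F) * rX j l 1 * (g2 l (wEl F))⁻¹ with hy'
  have ey : y = Ei (bf j) (be l) := by
    rw [hy, rX, one_smul, Ei_conj, (g2_wEl j).1, act_g2_be_ne hjl.symm, hneg]
  have ey' : y' = Ei (be j) (bf l) := by
    rw [hy', rX, one_smul, Ei_conj, (g2_wEl l).1, act_g2_be_ne hjl, hneg]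
  have hyo : om (bf j : V F n) (be l) = 0 := by simp [om_bf_be, hjl.symm]
  have hyo' : om (be j : V F n) (bf l) = 0 := by simp [om_be_bf, hjl.symm]
  have yj : act y (be j) = be j + be l := by
    rw [ey, act_Ei hyo]
    simp only [om_bf_be, om_be_be, if_pos, zero_smul, add_zero, neg_smul, one_smul, hneg]
  have qj : act (y' * y) (be j) = be l := by
    rw [act_mul, yj, ey', act_add, act_Ei hyo', act_Ei hyo']
    simp only [om_bf_be, om_be_be, om_be_bf, if_pos, if_neg hjl, zero_smul, add_zero, zero_add,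
      neg_smul, one_smul, hneg]
    rw [add_comm (be l), ← add_assoc, show (be j + be j : V F n) = 0 by
      rw [← two_smul F (be j), h2, zero_smul], zero_add]
  have yi : act y (be i) = be i := by
    rw [ey, act_Ei hyo]; simp [om_bf_be, om_be_be, hij]
  have y'i : act y' (be i) = be i := by
    rw [ey', act_Ei hyo']; simp [om_bf_be, om_be_be, hil]
  refine ⟨qj, yj, ?_, ?_⟩
  · rw [degA, ← hy, ← hy', mul_inv_eq_one, rX, one_smul, Ei_conj, Ei_conj, qj, yj, act_mul, yi, y'i,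
      Ei_mul (om_be_be _ _) (om_be_be _ _), om_be_be, T_zero, mul_one]
  · rw [degB, ← hy, ← hy', mul_inv_eq_one, inv_inv, inv_inv]
    set W := g2 i (wEl F) with hW
    set uf := (g2 j (wEl F))⁻¹ * rX i j 1 * g2 j (wEl F) with huf
    set R := W * rX i j 1 * W⁻¹ with hR
    have euf : uf = Ei (be i) (bf j) := by
      rw [huf, rX, one_smul]
      have := Ei_conj ((g2 j (wEl F))⁻¹ : Sp F n) (be i) (be j)
      rw [inv_inv, (g2_wEl_inv j).1, act_inv_eq (act_g2_be_ne hij _)] at this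
      exact this
    have eR : R = Ei (bf i) (be j) := by
      rw [hR, rX, one_smul, Ei_conj, hW, (g2_wEl i).1, act_g2_be_ne hij.symm, hneg]
    have ho1 : om (be i : V F n) (bf j) = 0 := by simp [om_be_bf, hij.symm]
    have ho2 : om (bf i : V F n) (be j) = 0 := by simp [om_bf_be, hij.symm]
    have sb : act (uf * R * uf) (be j) = be i := by
      simp only [act_mul, euf, eR, act_Ei ho1, act_Ei ho2, om_add_right, om_smul_right, om_neg_right,
        om_be_be, om_be_bf, om_bf_be, om_bf_bf, if_pos, if_neg hij, if_neg hij.symm, act_add,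
        act_smul]
      match_scalars <;> simp <;> first
        | linear_combination h2
        | linear_combination (-2 : F) * h2
    have sl : act (uf * R * uf) (be l) = be l := by
      simp [act_mul, euf, eR, act_Ei ho1, act_Ei ho2, om_be_be, om_bf_be, hil.symm, hjl.symm]
    have qi : act (y' * y) (be i) = be i := by rw [act_mul, yi, y'i]
    have e : (uf * R * uf) * rX j l 1 * (uf * R * uf)⁻¹ = y' * y * rX i j 1 * (y' * y)⁻¹ := by
      rw [rX, rX, one_smul, one_smul, Ei_conj, Ei_conj, sb, sl, qj, qi]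
    rw [← e]
    group

/-- Two subgroups commuting elementwise whose common images have common lifts. -/
theorem func_sup {H : Type v} [Group H] {K L : Subgroup (Sp F n × H)}
    (hc : ∀ a ∈ K, ∀ b ∈ L, Commute a b) (he : ∀ a ∈ K, ∀ b ∈ L, a.1 = b.1 → a = b) :
    Func (K ⊔ L) := by
  intro z hz e
  have hn : L ≤ Subgroup.normalizer (K : Set (Sp F n × H)) := by
    refine le_trans ?_ (Subgroup.centralizer_le_normalizer _)
    exact fun b hb => Subgroup.mem_centralizer_iff.2 fun a ha => (hc a ha b hb).eq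
  have hz' : z ∈ ((K ⊔ L : Subgroup (Sp F n × H)) : Set (Sp F n × H)) := hz
  rw [Subgroup.coe_mul_of_right_le_normalizer_left _ _ hn] at hz'
  obtain ⟨a, ha, b, hb, rfl⟩ := Set.mem_mul.1 hz'
  rw [he a ha b⁻¹ (inv_mem hb) (eq_inv_of_mul_eq_one_left e), inv_mul_cancel]

theorem commute_closures {G : Type*} [Group G] {s t : Set G}
    (h : ∀ a ∈ s, ∀ b ∈ t, Commute a b) :
    ∀ a ∈ Subgroup.closure s, ∀ b ∈ Subgroup.closure t, Commute a b := by
  intro a ha b hb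
  have h1 : Subgroup.closure t ≤ Subgroup.centralizer s :=
    (Subgroup.closure_le _).2 fun b hb => Subgroup.mem_centralizer_iff.2 fun a ha => (h a ha b hb).eq
  have h2 : Subgroup.closure s ≤ Subgroup.centralizer (Subgroup.closure t : Set G) :=
    (Subgroup.closure_le _).2 fun a ha => Subgroup.mem_centralizer_iff.2 fun b hb =>
      ((Subgroup.mem_centralizer_iff.1 (h1 hb)) a ha).symm
  exact ((Subgroup.mem_centralizer_iff.1 (h2 ha)) b hb).symm

variable {Γ : Type v} [Group Γ]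

/-- Conjugation by the image of an even permutation. -/
def cα (α : alternatingGroup (Fin n) →* Γ) (σ : alternatingGroup (Fin n)) : Γ →* Γ :=
  (MulAut.conj (α σ)).toMonoidHom

theorem cα_apply (α : alternatingGroup (Fin n) →* Γ) (σ : alternatingGroup (Fin n)) (g : Γ) :
    cα α σ g = α σ * g * (α σ)⁻¹ := rfl

theorem cα_mul (α : alternatingGroup (Fin n) →* Γ) (σ τ : alternatingGroup (Fin n)) (g : Γ) :
    cα α (σ * τ) g = cα α σ (cα α τ g) := by
  simp only [cα_apply, map_mul]; group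

/-- An alternating group with a copy of SL₂ for each plane and the local data of the first pair. -/
structure Frame (F : Type u) [Field F] {n : ℕ} (hn : 3 ≤ n) (Γ : Type v) [Group Γ] where
  α : alternatingGroup (Fin n) →* Γ
  β : Fin n → SL(2, F) →* Γ
  D : Local F Γ
  D' : Local F Γ
  hD0 : D.β0 = β (i0 hn)
  hD1 : D.β1 = β (i1 hn)
  hD'0 : D'.β0 = D.β1
  hD'1 : D'.β1 = D.β0
  hX1 : D'.X (ofAdd 1) = D.X (ofAdd 1)
  hβ : ∀ σ j c, cα α σ (β j c) = β ((σ : Perm (Fin n)) j) c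
  hst : ∀ σ : alternatingGroup (Fin n), (σ : Perm (Fin n)) (i0 hn) = i0 hn →
    (σ : Perm (Fin n)) (i1 hn) = i1 hn → Commute (α σ) (D.X (ofAdd 1))
  hfar : ∀ k, (k = i2 hn ∨ k = iL hn) → ∀ c, Commute (β k c) (D.X (ofAdd 1))
  hmm : ∀ p ∈ [(i1 hn, i2 hn), (i1 hn, iL hn), (i2 hn, i3 hn), (i3 hn, i2 hn)],
    Commute (D.X (ofAdd 1)) (cα α (pp hn p.1 p.2) (D.X (ofAdd 1)))
  hdeg : (∃ c : F, c ≠ 0 ∧ c ≠ 1) ∨ ((2 : F) = 0 ∧
    ∀ a, (a = i0 hn ∨ n = 4 ∧ a = i1 hn) →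
      degA (cα α (pp hn a (nx a)) (D.X (ofAdd 1))) (cα α (pp hn (nx a) (nx (nx a))) (D.X (ofAdd 1)))
        (β (nx a) (wEl F)) (β (nx (nx a)) (wEl F)) = 1 ∧
      degB (cα α (pp hn a (nx a)) (D.X (ofAdd 1))) (cα α (pp hn (nx a) (nx (nx a))) (D.X (ofAdd 1)))
        (β a (wEl F)) (β (nx a) (wEl F)) (β (nx (nx a)) (wEl F)) = 1)

namespace Frame

variable {hn : 3 ≤ n} (P : Frame F hn Γ)

theorem ss (j l : Fin n) (h : j ≠ l) (a c : SL(2, F)) : Commute (P.β j a) (P.β l c) := by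
  have h01 : ∀ a c, Commute (P.β (i0 hn) a) (P.β (i1 hn) c) := fun a c => by
    rw [← P.hD0, ← P.hD1]; exact P.D.comm a c
  obtain ⟨σ, ⟨e0, e1⟩ | ⟨e0, e1⟩⟩ := ex_unordered hn h
  · have := (h01 a c).map (cα P.α σ)
    rwa [P.hβ, P.hβ, e0, e1] at this
  · have := (h01 c a).map (cα P.α σ)
    rw [P.hβ, P.hβ, e0, e1] at this
    exact this.symm

theorem scale (r : F) (hr : r ≠ 0) :
    P.D.X (ofAdd r) = P.β (i0 hn) (hDiag (Units.mk0 r hr)) * P.D.X (ofAdd 1) *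
      (P.β (i0 hn) (hDiag (Units.mk0 r hr)))⁻¹ := by
  rw [← P.hD0, P.D.h0, mul_one, Units.val_mk0]

theorem D'X (r : F) : P.D'.X (ofAdd r) = P.D.X (ofAdd r) := by
  by_cases hr : r = 0
  · subst hr; simp
  have h := P.D'.h0 (Units.mk0 r hr) 1
  rw [mul_one, Units.val_mk0, P.hX1, P.hD'0, P.D.h1, mul_one, Units.val_mk0] at h
  exact h.symm

theorem st (σ : alternatingGroup (Fin n)) (h0 : (σ : Perm (Fin n)) (i0 hn) = i0 hn)
    (h1 : (σ : Perm (Fin n)) (i1 hn) = i1 hn) (r : F) :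
    cα P.α σ (P.D.X (ofAdd r)) = P.D.X (ofAdd r) := by
  by_cases hr : r = 0
  · subst hr; simp
  rw [P.scale r hr, map_mul, map_mul, map_inv, P.hβ, h0, cα_apply, (P.hst σ h0 h1).eq,
    mul_inv_cancel_right]

theorem X_eq {σ τ : alternatingGroup (Fin n)}
    (h0 : (σ : Perm (Fin n)) (i0 hn) = (τ : Perm (Fin n)) (i0 hn))
    (h1 : (σ : Perm (Fin n)) (i1 hn) = (τ : Perm (Fin n)) (i1 hn)) (r : F) :
    cα P.α σ (P.D.X (ofAdd r)) = cα P.α τ (P.D.X (ofAdd r)) := by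
  have e := P.st (τ⁻¹ * σ) (by simp [h0]) (by simp [h1]) r
  conv_rhs => rw [← e, ← cα_mul, mul_inv_cancel_left]

theorem far (k : Fin n) (h0 : k ≠ i0 hn) (h1 : k ≠ i1 hn) (c : SL(2, F)) (r : F) :
    Commute (P.β k c) (P.D.X (ofAdd r)) := by
  have hx : Commute (P.β k c) (P.D.X (ofAdd 1)) := by
    obtain ⟨π, e0, e1, e⟩ := orbit_one hn h0 h1
    have : ∀ k', (k' = i2 hn ∨ k' = iL hn) → (π : Perm (Fin n)) k' = k →
        Commute (P.β k c) (P.D.X (ofAdd 1)) := fun k' hk' ek => by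
      have := (P.hfar k' hk' c).map (cα P.α π)
      rwa [P.hβ, ek, P.st π e0 e1] at this
    rcases e with e | e
    exacts [this _ (Or.inl rfl) e, this _ (Or.inr rfl) e]
  by_cases hr : r = 0
  · subst hr; simp
  rw [P.scale r hr]
  have h := P.ss k (i0 hn) h0 c (hDiag (Units.mk0 r hr))
  exact (h.mul_right hx).mul_right h.inv_right

theorem tx (σ : alternatingGroup (Fin n)) (a : Fin n) (r s : F) :
    Commute (P.β a (xHom F (ofAdd r))) (cα P.α σ (P.D.X (ofAdd s))) := by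
  obtain ⟨k, rfl⟩ := (σ : Perm (Fin n)).surjective a
  rw [← P.hβ]
  refine Commute.map ?_ _
  by_cases h0 : k = i0 hn
  · rw [h0, ← P.hD0]; exact P.D.u0 r s
  by_cases h1 : k = i1 hn
  · rw [h1, ← P.hD1]; exact P.D.u1 r s
  exact P.far k h0 h1 _ s

theorem xx (τ : alternatingGroup (Fin n))
    (hτ : Far hn ((τ : Perm (Fin n)) (i0 hn)) ((τ : Perm (Fin n)) (i1 hn))) (r s : F) :
    Commute (P.D.X (ofAdd r)) (cα P.α τ (P.D.X (ofAdd s))) := by
  obtain ⟨π, e0, e1, p, hp, f0, f1⟩ := orbit_two hn hτ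
  have hp' := pp_spec hn (a := p.1) (b := p.2) ⟨π⁻¹ * τ, by simp [← f0], by simp [← f1]⟩
  have h11 : Commute (P.D.X (ofAdd 1)) (cα P.α τ (P.D.X (ofAdd 1))) := by
    have := (P.hmm p hp).map (cα P.α π)
    rwa [P.st π e0 e1, ← cα_mul, P.X_eq (τ := τ) (by simp [hp'.1, f0]) (by simp [hp'.2, f1])] at this
  obtain ⟨hab, hcase⟩ := hτ
  have ha : (τ : Perm (Fin n)) (i0 hn) ≠ i0 hn := by
    rcases hcase with ⟨h, -⟩ | ⟨h, -⟩
    · rw [h]; exact (i01 hn).symm
    · exact h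
  have hb : (τ : Perm (Fin n)) (i1 hn) ≠ i0 hn ∧ (τ : Perm (Fin n)) (i1 hn) ≠ i1 hn := by
    rcases hcase with ⟨h, h'⟩ | ⟨-, -, h, h'⟩
    · exact ⟨h', fun e => hab (h.trans e.symm)⟩
    · exact ⟨h, h'⟩
  by_cases hr : r = 0
  · subst hr; simp
  by_cases hs : s = 0
  · subst hs; simp
  have h1s : Commute (P.D.X (ofAdd 1)) (cα P.α τ (P.D.X (ofAdd s))) := by
    have e : P.D.X (ofAdd s) = P.β (i1 hn) (hDiag (Units.mk0 s hs)) * P.D.X (ofAdd 1) *
        (P.β (i1 hn) (hDiag (Units.mk0 s hs)))⁻¹ := by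
      rw [← P.hD1, P.D.h1, mul_one, Units.val_mk0]
    rw [e, map_mul, map_mul, map_inv, P.hβ]
    have h := (P.far _ hb.1 hb.2 (hDiag (Units.mk0 s hs)) 1).symm
    exact (h.mul_right h11).mul_right h.inv_right
  rw [P.scale r hr]
  have h : Commute (P.β (i0 hn) (hDiag (Units.mk0 r hr))) (cα P.α τ (P.D.X (ofAdd s))) := by
    obtain ⟨k, hk⟩ := (τ : Perm (Fin n)).surjective (i0 hn)
    have hk0 : k ≠ i0 hn := fun e => ha (e ▸ hk)
    have hk1 : k ≠ i1 hn := fun e => hb.1 (e ▸ hk)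
    rw [← hk, ← P.hβ]
    exact (P.far k hk0 hk1 _ s).map _
  exact (h.mul_left h1s).mul_left h.inv_left

/-- The permutation carrying the first pair to the pair at the given index. -/
noncomputable def σ (_P : Frame F hn Γ) (i : Fin n) : alternatingGroup (Fin n) := pp hn i (nx i)

theorem σ_spec {i : Fin n} (hi : (i : ℕ) + 1 < n) :
    ((P.σ i : alternatingGroup (Fin n)) : Perm (Fin n)) (i0 hn) = i ∧
      ((P.σ i : alternatingGroup (Fin n)) : Perm (Fin n)) (i1 hn) = nx i :=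
  pp_spec hn (ex_next hn (nx_val hi))

/-- The local data at the given index. -/
noncomputable def Di (i : Fin n) : Local F Γ := P.D.push (cα P.α (P.σ i))

theorem Di_β0 {i : Fin n} (hi : (i : ℕ) + 1 < n) (c : SL(2, F)) : (P.Di i).β0 c = P.β i c := by
  show cα P.α _ (P.D.β0 c) = _
  rw [P.hD0, P.hβ, (P.σ_spec hi).1]

theorem Di_β1 {i : Fin n} (hi : (i : ℕ) + 1 < n) (c : SL(2, F)) :
    (P.Di i).β1 c = P.β (nx i) c := by
  show cα P.α _ (P.D.β1 c) = _
  rw [P.hD1, P.hβ, (P.σ_spec hi).2]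

theorem Di_X (i : Fin n) (r : F) :
    (P.Di i).X (ofAdd r) = cα P.α (P.σ i) (P.D.X (ofAdd r)) := rfl

theorem gM_gen {i : Fin n} (hi : (i : ℕ) + 1 < n) {z : Sp F n × Γ}
    (hz : z ∈ {z | ∃ r, z = (T (be i) r, (P.Di i).β0 (xHom F (ofAdd r))) ∨
      z = (T (be (nx i)) r, (P.Di i).U r) ∨ z = (rX i (nx i) r, (P.Di i).X (ofAdd r))}) :
    (∃ a r, (a = i ∨ a = nx i) ∧ z = (T (be a) r, P.β a (xHom F (ofAdd r)))) ∨
      ∃ r, z = (rX i (nx i) r, cα P.α (P.σ i) (P.D.X (ofAdd r))) := by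
  obtain ⟨r, rfl | rfl | rfl⟩ := hz
  · exact Or.inl ⟨i, r, Or.inl rfl, by rw [P.Di_β0 hi]⟩
  · exact Or.inl ⟨nx i, r, Or.inr rfl, by rw [Local.U, P.Di_β1 hi]⟩
  · exact Or.inr ⟨r, rfl⟩

/-- The lifts of the short root groups. -/
noncomputable def LM (i : Fin n) : Subgroup (Sp F n × Γ) := (P.Di i).gM i (nx i)

/-- The lifts of the planes. -/
def LS (j : Fin n) : Subgroup (Sp F n × Γ) := Local.gS j (P.β j)

theorem LM_proj {i : Fin n} (hi : (i : ℕ) + 1 < n) :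
    (P.LM i).map (MonoidHom.fst (Sp F n) Γ) = FM i :=
  (P.Di i).gM_proj (nx_val hi)

theorem LM_fst {i : Fin n} (hi : (i : ℕ) + 1 < n) {z : Sp F n × Γ} (hz : z ∈ P.LM i) :
    z.1 ∈ FM i :=
  P.LM_proj hi ▸ Subgroup.mem_map_of_mem (MonoidHom.fst (Sp F n) Γ) hz

theorem ne_nx {i : Fin n} (hi : (i : ℕ) + 1 < n) : i ≠ nx i := fun e => by
  have := congrArg Fin.val e; rw [nx_val hi] at this; omega

theorem LM_le {i : Fin n} (hi : (i : ℕ) + 1 < n) :
    P.LM i ≤ (P.Di i).gV i (nx i) ⊔ P.LS i := by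
  have e : (P.Di i).β0 = P.β i := MonoidHom.ext (P.Di_β0 hi)
  rw [LS, ← e]
  exact (P.Di i).gM_le (ne_nx hi)

theorem LM_func {i : Fin n} (hi : (i : ℕ) + 1 < n) : Func (P.LM i) :=
  ((P.Di i).func (ne_nx hi)).mono ((P.Di i).gM_le (ne_nx hi))

theorem fMS (i j : Fin n) (hi : (i : ℕ) + 1 < n) : Func (P.LM i ⊔ P.LS j) := by
  have e0 : (P.Di i).β0 = P.β i := MonoidHom.ext (P.Di_β0 hi)
  have e1 : (P.Di i).β1 = P.β (nx i) := MonoidHom.ext (P.Di_β1 hi)
  by_cases hji : j = i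
  · subst hji
    refine ((P.Di j).func (ne_nx hi)).mono (sup_le ((P.Di j).gM_le (ne_nx hi)) ?_)
    rw [LS, ← e0]; exact le_sup_right
  by_cases hjn : j = nx i
  · subst hjn
    let D' := P.D'.push (cα P.α (P.σ i))
    have f0 : D'.β0 = P.β (nx i) := by
      rw [← e1]; exact MonoidHom.ext fun c => by
        show cα P.α _ (P.D'.β0 c) = cα P.α _ (P.D.β1 c); rw [P.hD'0]
    have f1 : D'.β1 = P.β i := by
      rw [← e0]; exact MonoidHom.ext fun c => by
        show cα P.α _ (P.D'.β1 c) = cα P.α _ (P.D.β0 c); rw [P.hD'1]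
    have fX : ∀ r, D'.X (ofAdd r) = (P.Di i).X (ofAdd r) := fun r => by
      show cα P.α _ (P.D'.X (ofAdd r)) = _
      rw [P.D'X]; rfl
    refine (D'.func (ne_nx hi).symm).mono (sup_le ?_ ?_)
    · rw [LM, Local.gM, Subgroup.closure_le]
      rintro z ⟨r, rfl | rfl | rfl⟩
      · refine Subgroup.mem_sup_left ?_
        have := D'.mem_U (nx i) i r
        rwa [Local.U, f1, ← e0] at this
      · refine Subgroup.mem_sup_right ⟨xHom F (ofAdd r), Prod.ext (g2_xHom _ r) ?_⟩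
        show D'.β0 _ = (P.Di i).U r
        rw [f0, ← e1]; rfl
      · refine Subgroup.mem_sup_left ?_
        have := D'.mem_X (nx i) i r
        rwa [fX, ← rX_symm (ne_nx hi)] at this
    · rw [LS, ← f0]; exact le_sup_right
  have hfix : ∀ z ∈ P.LM i, act z.1 (be j) = be j ∧ act z.1 (bf j) = bf j := fun z hz =>
    ⟨P.LM_fst hi hz _ ⟨j, Or.inl rfl⟩, P.LM_fst hi hz _ ⟨j, Or.inr ⟨fun e => hji (Fin.ext e),
      fun e => hjn (Fin.ext (e.trans (nx_val hi).symm)), rfl⟩⟩⟩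
  refine func_sup ?_ ?_
  · intro a ha b hb
    have : ∀ a ∈ P.LM i, ∀ b ∈ Subgroup.closure (P.LS j : Set (Sp F n × Γ)), Commute a b := by
      refine commute_closures fun a ha b hb => ?_
      obtain ⟨c, rfl⟩ := hb
      refine Prod.ext (commute_of_fix (g2_mem_FS j c) (hfix a (Subgroup.subset_closure ha)).1
        (hfix a (Subgroup.subset_closure ha)).2).eq ?_
      rcases P.gM_gen hi ha with ⟨b, r, hb', rfl⟩ | ⟨r, rfl⟩
      · refine (P.ss b j ?_ _ c).eq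
        rintro rfl; rcases hb' with h | h
        exacts [hji h, hjn h]
      · obtain ⟨k, hk⟩ := ((P.σ i : alternatingGroup (Fin n)) : Perm (Fin n)).surjective j
        show (cα P.α (P.σ i) (P.D.X (ofAdd r)) * P.β j c : Γ) =
          P.β j c * cα P.α (P.σ i) (P.D.X (ofAdd r))
        rw [← hk, ← P.hβ]
        refine ((P.far k (fun e => hji ?_) (fun e => hjn ?_) c r).symm.map (cα P.α (P.σ i))).eq
        · rw [← hk, e, (P.σ_spec hi).1]
        · rw [← hk, e, (P.σ_spec hi).2]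
    exact this a ha b (Subgroup.subset_closure hb)
  · intro a ha b hb e
    obtain ⟨c, rfl⟩ := hb
    have h1 : (g2 j c : Sp F n) = 1 := by
      refine FS_ext (g2_mem_FS j c) (one_mem _) ?_ ?_
      · rw [show g2 j c = a.1 from e.symm, act_one, (hfix a ha).1]
      · rw [show g2 j c = a.1 from e.symm, act_one, (hfix a ha).2]
    rw [Local.gS_func j (P.β j) _ ⟨c, rfl⟩ h1]
    exact P.LM_func hi a ha (e.trans h1)

theorem fMM_lt (i i' : Fin n) (hlt : (i : ℕ) < i') (hi : (i : ℕ) + 1 < n)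
    (hi' : (i' : ℕ) + 1 < n) : Func (P.LM i ⊔ P.LM i') := by
  refine func_sup (commute_closures fun a ha b hb => ?_) ?_
  · refine Prod.ext (fix_commute (fun l => P.LM_fst hi (Subgroup.subset_closure ha) _ ⟨l, Or.inl rfl⟩)
      (fun l => P.LM_fst hi' (Subgroup.subset_closure hb) _ ⟨l, Or.inl rfl⟩)).eq ?_
    rcases P.gM_gen hi ha with ⟨x, r, -, rfl⟩ | ⟨r, rfl⟩ <;>
      rcases P.gM_gen hi' hb with ⟨y, s, -, rfl⟩ | ⟨s, rfl⟩
    · refine Commute.eq ?_
      by_cases hxy : x = y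
      · subst hxy; exact ((Commute.all (ofAdd r) (ofAdd s)).map (xHom F)).map (P.β x)
      · exact P.ss x y hxy _ _
    · exact (P.tx _ x r s).eq
    · exact (P.tx _ y s r).symm.eq
    · refine Commute.eq ?_
      show Commute (cα P.α (P.σ i) (P.D.X (ofAdd r))) (cα P.α (P.σ i') (P.D.X (ofAdd s)))
      rw [← mul_inv_cancel_left (P.σ i) (P.σ i'), cα_mul]
      refine (P.xx _ ?_ r s).map _
      obtain ⟨a0, a1⟩ := P.σ_spec hi
      obtain ⟨b0, b1⟩ := P.σ_spec hi'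
      have hlt0 : ((nx i : Fin n) : ℕ) = i + 1 := nx_val hi
      have hlt1 : ((nx i' : Fin n) : ℕ) = i' + 1 := nx_val hi'
      simp only [Subgroup.coe_mul, Subgroup.coe_inv, Perm.mul_apply, b0, b1, Far, Perm.inv_eq_iff_eq,
        ne_eq, a0, a1, EmbeddingLike.apply_eq_iff_eq, Fin.ext_iff, hlt0, hlt1]
      omega
  · intro a ha b hb e
    obtain ⟨p, q, r, hg⟩ := M_decomp (nx_val hi) (P.LM_fst hi ha)
    have hb' := P.LM_fst hi' hb
    have hij : i ≠ nx i := ne_nx hi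
    have key : act a.1 (bf i) = bf i + p • be i + r • be (nx i) := by
      rw [hg]
      simp [act_mul, act_T, act_Ei, om_be_be, om_be_bf, om_bf_be, hij, hij.symm]
    have hfixi : act a.1 (bf i) = bf i := by
      rw [e]; exact hb' _ ⟨i, Or.inr ⟨by omega, by omega, rfl⟩⟩
    rw [hfixi] at key
    have hp : p = 0 := by
      have := congrFun key (Sum.inl i)
      simpa [be_inl, bf_inl, hij] using this.symm
    have hr : r = 0 := by
      have := congrFun key (Sum.inl (nx i))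
      simpa [be_inl, bf_inl, hij.symm] using this.symm
    subst hp hr
    simp [Ei_zero, T_zero] at hg
    by_cases hj : (i' : ℕ) = (i : ℕ) + 1
    · obtain rfl : i' = nx i := Fin.ext (by rw [nx_val hi, hj])
      have hc1 : (T (be (nx i)) q, P.β (nx i) (xHom F (ofAdd q))) ∈ P.LM i := by
        refine Subgroup.subset_closure ⟨q, Or.inr (Or.inl ?_)⟩
        rw [Local.U, P.Di_β1 hi]
      have hc2 : (T (be (nx i)) q, P.β (nx i) (xHom F (ofAdd q))) ∈ P.LM (nx i) := by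
        refine Subgroup.subset_closure ⟨q, Or.inl ?_⟩
        rw [P.Di_β0 hi']
      rw [(P.LM_func hi).eq ha hc1 hg, (P.LM_func hi').eq hb hc2 (e ▸ hg)]
    · have hfixj : act a.1 (bf (nx i)) = bf (nx i) := by
        rw [e]
        exact hb' _ ⟨nx i, Or.inr ⟨by rw [nx_val hi]; omega, by rw [nx_val hi]; omega, rfl⟩⟩
      have hq : q = 0 := by
        rw [hg, act_T] at hfixj
        have := congrFun hfixj (Sum.inl (nx i))
        simpa [om_be_bf, be_inl, bf_inl] using this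
      subst hq
      rw [T_zero] at hg
      rw [P.LM_func hi a ha hg, P.LM_func hi' b hb (e ▸ hg)]

theorem deg_all (h2 : (2 : F) = 0)
    (hd : ∀ a, (a = i0 hn ∨ n = 4 ∧ a = i1 hn) →
      degA (cα P.α (P.σ a) (P.D.X (ofAdd 1))) (cα P.α (P.σ (nx a)) (P.D.X (ofAdd 1)))
        (P.β (nx a) (wEl F)) (P.β (nx (nx a)) (wEl F)) = 1 ∧
      degB (cα P.α (P.σ a) (P.D.X (ofAdd 1))) (cα P.α (P.σ (nx a)) (P.D.X (ofAdd 1)))
        (P.β a (wEl F)) (P.β (nx a) (wEl F)) (P.β (nx (nx a)) (wEl F)) = 1)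
    (a b c : Fin n) (hab : (b : ℕ) = (a : ℕ) + 1) (hbc : (c : ℕ) = (b : ℕ) + 1) :
    degA (cα P.α (P.σ a) (P.D.X (ofAdd 1))) (cα P.α (P.σ b) (P.D.X (ofAdd 1)))
        (P.β b (wEl F)) (P.β c (wEl F)) = 1 ∧
      degB (cα P.α (P.σ a) (P.D.X (ofAdd 1))) (cα P.α (P.σ b) (P.D.X (ofAdd 1)))
        (P.β a (wEl F)) (P.β b (wEl F)) (P.β c (wEl F)) = 1 := by
  have := a.isLt; have := b.isLt; have := c.isLt
  obtain rfl : b = nx a := Fin.ext (by rw [nx_val (by omega), hab])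
  obtain rfl : c = nx (nx a) := Fin.ext (by rw [nx_val (by omega), hbc])
  by_cases h5 : 5 ≤ n
  · obtain ⟨π, e0, e1, e2⟩ := ex_triple hn h5 hab hbc
    obtain ⟨hA, hB⟩ := hd _ (Or.inl rfl)
    have n0 : nx (i0 hn) = i1 hn := Fin.ext (by simp [nx, i0, i1]; omega)
    have n1 : nx (i1 hn) = i2 hn := Fin.ext (by simp [nx, i1, i2]; omega)
    rw [n0, n1] at hA hB
    obtain ⟨s0, s0'⟩ := P.σ_spec (i := i0 hn) (by simp [i0]; omega)
    obtain ⟨s1, s1'⟩ := P.σ_spec (i := i1 hn) (by simp [i1]; omega)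
    obtain ⟨ta, ta'⟩ := P.σ_spec (i := a) (by omega)
    obtain ⟨tb, tb'⟩ := P.σ_spec (i := nx a) (by omega)
    rw [n0] at s0'; rw [n1] at s1'
    have EA : cα P.α π (cα P.α (P.σ (i0 hn)) (P.D.X (ofAdd 1))) = cα P.α (P.σ a) (P.D.X (ofAdd 1)) := by
      rw [← cα_mul]; exact P.X_eq (by simp [s0, e0, ta]) (by simp [s0', e1, ta']) 1
    have EB : cα P.α π (cα P.α (P.σ (i1 hn)) (P.D.X (ofAdd 1))) =
        cα P.α (P.σ (nx a)) (P.D.X (ofAdd 1)) := by
      rw [← cα_mul]; exact P.X_eq (by simp [s1, e1, tb]) (by simp [s1', e2, tb']) 1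
    have hA' := congrArg (cα P.α π) hA
    have hB' := congrArg (cα P.α π) hB
    rw [map_degA, EA, EB, P.hβ, P.hβ, e1, e2, map_one (cα P.α π)] at hA'
    rw [map_degB, EA, EB, P.hβ, P.hβ, P.hβ, e0, e1, e2, map_one (cα P.α π)] at hB'
    exact ⟨hA', hB'⟩
  refine hd a ?_
  simp only [i0, i1, Fin.ext_iff]
  omega

/-- The amalgam. -/
noncomputable def amal : Amal F n Γ where
  LS := P.LS
  LM := P.LM
  LS_proj j := Local.gS_proj _ _
  LM_proj i hi := P.LM_proj hi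
  fSS j l hjl := Local.gS_sup_func hjl _ _ (P.ss j l hjl)
  fMM i i' h hi hi' := by
    rcases Nat.lt_or_gt_of_ne (fun e => h (Fin.ext e) : (i : ℕ) ≠ i') with hlt | hlt
    · exact P.fMM_lt i i' hlt hi hi'
    · rw [sup_comm]; exact P.fMM_lt i' i hlt hi' hi
  fMS i j hi := P.fMS i j hi

theorem amal_deg : (∃ c : F, c ≠ 0 ∧ c ≠ 1) ∨
    ∀ i j : Fin n, (j : ℕ) = (i : ℕ) + 1 → P.amal.Deg i j := by
  refine P.hdeg.imp_right fun ⟨h2, hd⟩ i j hij l hl => ?_
  have := l.isLt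
  have hi : (i : ℕ) + 1 < n := by omega
  have hj : (j : ℕ) + 1 < n := by omega
  obtain rfl : j = nx i := Fin.ext (by rw [nx_val hi, hij])
  obtain rfl : l = nx (nx i) := Fin.ext (by rw [nx_val hj, hl])
  obtain ⟨hA, hB⟩ := P.deg_all h2 hd i (nx i) (nx (nx i)) hij hl
  obtain ⟨eq, eq', mA, mB⟩ := deg_acts (F := F) h2 (i := i) (j := nx i) (l := nx (nx i))
    (fun e => by have := congrArg Fin.val e; omega) (fun e => by have := congrArg Fin.val e; omega)
    (fun e => by have := congrArg Fin.val e; omega)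
  let w : Fin n → Sp F n × Γ := fun k => (g2 k (wEl F), P.β k (wEl F))
  let m : Fin n → Sp F n × Γ := fun k => (rX k (nx k) 1, cα P.α (P.σ k) (P.D.X (ofAdd 1)))
  have hw : ∀ k : Fin n, (nx i : ℕ) ≤ (k : ℕ) → w k ∈ P.amal.Gam (nx i : ℕ) := fun k hk =>
    P.amal.LS_le hk ⟨wEl F, rfl⟩
  have hm : ∀ k, m k ∈ P.LM k := fun k =>
    Subgroup.subset_closure ⟨1, Or.inr (Or.inr rfl)⟩
  have hmj : m (nx i) ∈ P.amal.Gam (nx i : ℕ) := P.amal.LM_le le_rfl hj (hm _)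
  have hy : w (nx i) * m (nx i) * (w (nx i))⁻¹ ∈ P.amal.Gam (nx i : ℕ) :=
    mul_mem (mul_mem (hw _ le_rfl) hmj) (inv_mem (hw _ le_rfl))
  have hy' : w (nx (nx i)) * m (nx i) * (w (nx (nx i)))⁻¹ ∈ P.amal.Gam (nx i : ℕ) :=
    mul_mem (mul_mem (hw _ (by omega)) hmj) (inv_mem (hw _ (by omega)))
  have gA : degA (m i) (m (nx i)) (w (nx i)) (w (nx (nx i))) = 1 := by
    refine Prod.ext ?_ ?_
    · exact (map_degA (MonoidHom.fst (Sp F n) Γ) _ _ _ _).trans mA
    · exact (map_degA (MonoidHom.snd (Sp F n) Γ) _ _ _ _).trans hA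
  have gB : degB (m i) (m (nx i)) (w i) (w (nx i)) (w (nx (nx i))) = 1 := by
    refine Prod.ext ?_ ?_
    · exact (map_degB (MonoidHom.fst (Sp F n) Γ) _ _ _ _ _).trans mB
    · exact (map_degB (MonoidHom.snd (Sp F n) Γ) _ _ _ _ _).trans hB
  rw [degA, mul_inv_eq_one] at gA
  rw [degB, mul_inv_eq_one] at gB
  refine ⟨m i, _, _, (w (nx i))⁻¹, (w i)⁻¹, m (nx i), ⟨hm i, by simp [m, rX]⟩,
    ⟨inv_mem ⟨wEl F, rfl⟩, (wd_eq i).symm⟩, ⟨mul_mem hy' hy, eq⟩, ⟨hy, eq'⟩,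
    ⟨inv_mem (hw _ le_rfl), (g2_wEl_inv _).1⟩, hmj, gA, gB⟩

/-- The universal map. -/
theorem exists_hom : ∃ Ψ : Sp F n →* Γ, (∀ j c, Ψ (g2 j c) = P.β j c) ∧
    ∀ i : Fin n, (i : ℕ) + 1 < n → ∀ r,
      Ψ (rX i (nx i) r) = cα P.α (P.σ i) (P.D.X (ofAdd r)) := by
  obtain ⟨Ψ, ⟨hS, hM⟩, -⟩ := P.amal.exists_unique_hom' (by omega) P.amal_deg
  exact ⟨Ψ, fun j c => hS j _ ⟨c, rfl⟩,
    fun i hi r => hM i hi _ (Subgroup.subset_closure ⟨r, Or.inr (Or.inr rfl)⟩)⟩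

end Frame

end CfsgLib.Presentations.SpPres
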