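/-
The local relations: true in the model, and over two elements enough for the local data.
-/
import Cfsg.Agent.Lib.Presentations.SpLocal
import Cfsg.Agent.Lib.Presentations.Generators

set_option autoImplicit false

namespace CfsgLib.Presentations

universe u v

/-- Presentations of two groups together present their free product. -/
theorem Bounded.coprod {A : Type u} {B : Type v} [Group A] [Group B] {a b : ℕ} (hA : Bounded A a)
    (hB : Bounded B b) : Bounded (Monoid.Coprod A B) (a + b) := by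
  have h := Bounded.glue (Monoid.Coprod.inl : A →* Monoid.Coprod A B) Monoid.Coprod.inr hA hB
    Monoid.Coprod.range_inl_sup_range_inr [] (by simp) fun Γ _ α β _ =>
      ⟨Monoid.Coprod.lift α β, by simp, by simp⟩
  simpa using h

namespace SpPres

open CfsgLib.Chev.CT.SpAm
open CfsgLib.SL2Pres (xHom hDiag wEl cj polyWord)
open Multiplicative (ofAdd toAdd)
open Polynomial
open scoped MatrixGroups

variable {F : Type u} [Field F] {n : ℕ}

theorem g2_commute {i j : Fin n} (h : i ≠ j) (a b : SL(2, F)) : Commute (g2 i a) (g2 j b) :=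
  (commute_of_fix (g2_mem_FS i a) (act_g2_be_ne h b) (act_g2_bf_ne h b)).symm

theorem g2_rX_commute {i j k : Fin n} (hij : i ≠ j) (hki : k ≠ i) (hkj : k ≠ j) (c : SL(2, F))
    (r : F) : Commute (g2 k c) (rX i j r) :=
  (commute_of_fix (g2_mem_FS k c) (by simp [act_rX hij, om_be_be])
    (by simp [act_rX hij, om_be_bf, hki, hkj])).symm

theorem rX_commute {i j k l : Fin n} (hij : i ≠ j) (hkl : k ≠ l) (r s : F) :
    Commute (rX i j r : Sp F n) (rX k l s) :=
  fix_commute (fun m => by simp [act_rX hij, om_be_be]) (fun m => by simp [act_rX hkl, om_be_be])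

theorem rX_pow {i j : Fin n} (hij : i ≠ j) (p : ℕ) : (rX i j 1 : Sp F n) ^ p = rX i j (p : F) := by
  induction p with
  | zero => simp [rX]
  | succ p ih => rw [pow_succ, ih, rX_add hij, Nat.cast_succ]

theorem g2_hDiag_rX {i j : Fin n} (hij : i ≠ j) (l : Fˣ) (r : F) :
    g2 i (hDiag l) * rX i j r * (g2 i (hDiag l))⁻¹ = (rX i j ((l : F) * r) : Sp F n) := by
  rw [rX, Ei_conj, (g2_hDiag i l).1, act_smul, act_g2_be_ne hij.symm,
    Ei_smul (by simp [om_be_be]), smul_smul, rX]

/-- The relations without the torus hold in the model. -/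
theorem model_core {i j : Fin n} (hij : i ≠ j) :
    Commute (g2 i (xHom F (ofAdd 1))) (rX i j 1 : Sp F n) ∧
    Commute (g2 j (xHom F (ofAdd 1))) (rX i j 1 : Sp F n) ∧
    (rX i j 1 : Sp F n) * (g2 i (wEl F) * rX i j 1 * (g2 i (wEl F))⁻¹) =
      (g2 i (wEl F) * rX i j 1 * (g2 i (wEl F))⁻¹) * rX i j 1 * g2 j (xHom F (ofAdd (-2))) ∧
    g2 i (xHom F (ofAdd 1)) * (g2 i (wEl F) * rX i j 1 * (g2 i (wEl F))⁻¹) *
        (g2 i (xHom F (ofAdd 1)))⁻¹ =
      (g2 i (wEl F) * rX i j 1 * (g2 i (wEl F))⁻¹) * (rX i j 1 : Sp F n)⁻¹ *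
        g2 j (xHom F (ofAdd 1)) := by
  have hw : g2 i (wEl F) * rX i j 1 * (g2 i (wEl F))⁻¹ = (rY i j 1 : Sp F n) := by
    rw [rX, Ei_conj, (g2_wEl i).1, act_smul, act_g2_be_ne hij.symm, rY]
  refine ⟨?_, ?_, ?_, ?_⟩
  · rw [g2_xHom]
    exact fix_commute (fun l => by simp [om_be_be]) (fun l => by simp [act_rX hij, om_be_be])
  · rw [g2_xHom]
    exact fix_commute (fun l => by simp [om_be_be]) (fun l => by simp [act_rX hij, om_be_be])
  · rw [hw, g2_xHom, rX_mul_rY hij, mul_one, mul_one]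
  · rw [hw, g2_xHom, g2_xHom, T_conj_rY hij, mul_one, mul_one]
    congr 2
    exact eq_inv_of_mul_eq_one_right (by rw [rX_add hij]; simp [rX])

/-- The seed relations hold in the model. -/
theorem model_seed' {i j : Fin n} (hij : i ≠ j) {t : Fˣ} {p : ℕ} [CharP F p] {b : ℕ}
    (hb : (t : F) = (t : F) ^ b + 1) {f : ℤ[X]} (hf : aeval (t : F) f = 0) :
    Seed t (g2 i) (g2 j) (rX i j 1 : Sp F n) p b f := by
  let X : Multiplicative F →* Sp F n :=
    { toFun := fun r => rX i j (toAdd r)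
      map_one' := by simp [rX]
      map_mul' := fun r s => (rX_add hij _ _).symm }
  have hX : CfsgLib.SL2Pres.IsConjHom (t : F) X (g2 i (hDiag t) : Sp F n) :=
    fun c => g2_hDiag_rX hij t c
  have hcj : ∀ d : ℕ, cj (g2 i (hDiag t)) (rX i j 1 : Sp F n) (d : ℤ) = rX i j ((t : F) ^ d) :=
    fun d => hX.cj_eq d
  obtain ⟨h0, h1, h2, h3⟩ := model_core (F := F) hij
  refine ⟨g2_commute hij, ?_, ?_, ?_, ?_, ?_, h0, h1, h2, h3⟩
  · rw [show (1 : ℤ) = ((1 : ℕ) : ℤ) from rfl, hcj, hcj, rX_add hij, pow_one, ← hb]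
  · rw [show (1 : ℤ) = ((1 : ℕ) : ℤ) from rfl, hcj]
    exact rX_commute hij hij _ _
  · rw [rX_pow hij, CharP.cast_eq_zero]; simp [rX]
  · have h := hX.polyWord_eq 1 f
    rw [pow_one, hf] at h
    simpa [X, rX] using h
  · rw [g2_hDiag_rX hij]
    conv_lhs => rw [rX_symm hij, g2_hDiag_rX hij.symm, ← rX_symm hij]

variable {Γ : Type v} [Group Γ]

/-- Over two elements the local data need only the unipotent relations. -/
theorem exists_local_two (h01 : ∀ c : F, c = 0 ∨ c = 1) (h2 : (2 : F) = 0)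
    (β0 β1 : SL(2, F) →* Γ) (x : Γ) (comm : ∀ a c, Commute (β0 a) (β1 c)) (hx : x * x = 1)
    (u0 : Commute (β0 (xHom F (ofAdd 1))) x) (u1 : Commute (β1 (xHom F (ofAdd 1))) x)
    (heis : x * (β0 (wEl F) * x * (β0 (wEl F))⁻¹) =
      (β0 (wEl F) * x * (β0 (wEl F))⁻¹) * x * β1 (xHom F (ofAdd (-2))))
    (upass : β0 (xHom F (ofAdd 1)) * (β0 (wEl F) * x * (β0 (wEl F))⁻¹) *
        (β0 (xHom F (ofAdd 1)))⁻¹ =
      (β0 (wEl F) * x * (β0 (wEl F))⁻¹) * x⁻¹ * β1 (xHom F (ofAdd 1))) :
    ∃ D : Local F Γ, D.β0 = β0 ∧ D.β1 = β1 ∧ D.X (ofAdd 1) = x := by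
  classical
  have h11 : (1 : F) + 1 = 0 := by rw [one_add_one_eq_two, h2]
  have hn : (-1 : F) = 1 := neg_eq_of_add_eq_zero_right h11
  let f : F → Γ := fun r => if r = 0 then 1 else x
  let X : Multiplicative F →* Γ :=
    { toFun := fun r => f (toAdd r)
      map_one' := by simp [f]
      map_mul' := fun r s => by
        rcases h01 (toAdd r) with hr | hr <;> rcases h01 (toAdd s) with hs | hs <;>
          simp [f, hr, hs, h11, hx] }
  have x1 : X (ofAdd 1) = x := by simp [X, f]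
  have x0 : X (ofAdd 0) = 1 := by simp [X, f]
  have hu : ∀ l : Fˣ, l = 1 := fun l => Units.ext ((h01 l).resolve_left l.ne_zero)
  refine ⟨{ β0 := β0, β1 := β1, X := X, comm := comm, h0 := ?_, h1 := ?_, u0 := ?_, u1 := ?_,
            heis := ?_, upass := ?_ }, rfl, rfl, x1⟩
  · intro l r; simp [hu l]
  · intro l r; simp [hu l]
  · intro a r; rcases h01 a with rfl | rfl <;> rcases h01 r with rfl | rfl <;>
      first | (rw [x1]; exact u0) | simp [x0]
  · intro a r; rcases h01 a with rfl | rfl <;> rcases h01 r with rfl | rfl <;>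
      first | (rw [x1]; exact u1) | simp [x0]
  · intro r s; rcases h01 r with rfl | rfl <;> rcases h01 s with rfl | rfl <;>
      first | (rw [x1, mul_one, mul_one]; exact heis) | simp [x0]
  · intro a r; rcases h01 a with rfl | rfl <;> rcases h01 r with rfl | rfl <;>
      first
      | (rw [mul_one, mul_one, hn, x1, upass, inv_eq_of_mul_eq_one_right hx])
      | simp [x0]

end SpPres

end CfsgLib.Presentations
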