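/-
The symplectic groups in dimension at least six need boundedly many relations.
-/
import Cfsg.Agent.Lib.Presentations.SpFrame
import Cfsg.Agent.Lib.Presentations.SpSeeds
import Cfsg.Agent.Lib.Presentations.SpFour
import Cfsg.Agent.Lib.Presentations.PresOn

set_option autoImplicit false

namespace CfsgLib.Presentations.SpPres

open CfsgLib.Chev.CT.SpAm
open CfsgLib.SL2Pres (xHom hDiag wEl cj polyWord map_cj map_polyWord)
open Multiplicative (ofAdd toAdd)
open Polynomial
open Equiv Equiv.Perm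
open scoped MatrixGroups

universe u v w

variable {F : Type u} [Field F] {n : ℕ}

/-- The Heisenberg relation as a word. -/
def relH {G : Type w} [Group G] (b0 b1 : SL(2, F) → G) (x : G) : G :=
  x * (b0 (wEl F) * x * (b0 (wEl F))⁻¹) *
    ((b0 (wEl F) * x * (b0 (wEl F))⁻¹) * x * b1 (xHom F (ofAdd (-2))))⁻¹

/-- The passing relation as a word. -/
def relU {G : Type w} [Group G] (b0 b1 : SL(2, F) → G) (x : G) : G :=
  b0 (xHom F (ofAdd 1)) * (b0 (wEl F) * x * (b0 (wEl F))⁻¹) * (b0 (xHom F (ofAdd 1)))⁻¹ *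
    ((b0 (wEl F) * x * (b0 (wEl F))⁻¹) * x⁻¹ * b1 (xHom F (ofAdd 1)))⁻¹

theorem map_relH {G G' : Type*} [Group G] [Group G'] (φ : G →* G') (b0 b1 : SL(2, F) → G) (x : G) :
    φ (relH b0 b1 x) = relH (φ ∘ b0) (φ ∘ b1) (φ x) := by
  simp [relH]

theorem map_relU {G G' : Type*} [Group G] [Group G'] (φ : G →* G') (b0 b1 : SL(2, F) → G) (x : G) :
    φ (relU b0 b1 x) = relU (φ ∘ b0) (φ ∘ b1) (φ x) := by
  simp [relU]

/-- The stabiliser of some points in an alternating group needs two generators. -/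
theorem stab_gens (S : Finset (Fin n)) : ∃ a b : alternatingGroup (Fin n),
    (∀ x ∉ S, (a : Perm (Fin n)) x = x ∧ (b : Perm (Fin n)) x = x) ∧
      ∀ h : alternatingGroup (Fin n), (∀ x ∉ S, (h : Perm (Fin n)) x = x) →
        h ∈ Subgroup.closure ({a, b} : Set (alternatingGroup (Fin n))) := by
  classical
  obtain ⟨sa, sb, hsab⟩ := alt_two_generated {x // x ∈ S}
  refine ⟨altIncl S sa, altIncl S sb, fun x hx =>
    ⟨Equiv.Perm.ofSubtype_apply_of_not_mem _ hx, Equiv.Perm.ofSubtype_apply_of_not_mem _ hx⟩,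
    fun h hh => ?_⟩
  obtain ⟨s, rfl⟩ := exists_pre S h fun x hx => by_contra fun hxS => hx (hh x hxS)
  rw [show ({altIncl S sa, altIncl S sb} : Set (alternatingGroup (Fin n))) = altIncl S '' {sa, sb} by
    rw [Set.image_pair], ← MonoidHom.map_closure, hsab]
  exact ⟨s, trivial, rfl⟩

theorem commute_of_pair {G Γ : Type*} [Group G] [Group Γ] (φ : G →* Γ) {a b : G}
    {z : Γ} (ha : Commute (φ a) z) (hb : Commute (φ b) z) {g : G}
    (hg : g ∈ Subgroup.closure ({a, b} : Set G)) : Commute (φ g) z := by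
  have h : Subgroup.closure ({a, b} : Set G) ≤ (Subgroup.centralizer ({z} : Set Γ)).comap φ :=
    (Subgroup.closure_le _).2 (by
      rintro c (rfl | rfl) <;> exact Subgroup.mem_centralizer_singleton_iff.2 ‹Commute _ z›.eq)
  exact Subgroup.mem_centralizer_singleton_iff.1 (h hg)

theorem small_field [Fintype F] (h : ¬ 3 ≤ Fintype.card F) :
    (∀ c : F, c = 0 ∨ c = 1) ∧ (2 : F) = 0 := by
  classical
  have h01 : ∀ c : F, c = 0 ∨ c = 1 := fun c => by
    by_contra hc
    push_neg at hc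
    refine h ((Finset.card_eq_three.2 ⟨0, 1, c, zero_ne_one, hc.1.symm, hc.2.symm, rfl⟩).symm.le.trans
      (Finset.card_le_univ ({0, 1, c} : Finset F)))
  refine ⟨h01, ?_⟩
  rcases h01 (-1) with e | e
  · exact absurd e (neg_ne_zero.2 one_ne_zero)
  · linear_combination -e

/-- The planes and consecutive short root elements generate. -/
theorem gens_closure (hn : 3 ≤ n) (hq : (∃ c : F, c ≠ 0 ∧ c ≠ 1) ∨ (2 : F) = 0) :
    Subgroup.closure (Set.range (Sum.elim (fun p : Fin n × SL(2, F) => g2 p.1 p.2)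
      (fun i : {i : Fin n // (i : ℕ) + 1 < n} => rX i.1 (nx i.1) 1))) = (⊤ : Subgroup (Sp F n)) := by
  have hs : ∀ a b : PUnit.{1}, a = b := fun _ _ => rfl
  let L : Local F PUnit.{1} :=
    { β0 := 1, β1 := 1, X := 1
      comm := fun _ _ => hs _ _, h0 := fun _ _ => hs _ _, h1 := fun _ _ => hs _ _
      u0 := fun _ _ => hs _ _, u1 := fun _ _ => hs _ _
      heis := fun _ _ => hs _ _, upass := fun _ _ => hs _ _ }
  let P : Frame F hn PUnit.{1} :=
    { α := 1, β := fun _ => 1, D := L, D' := L, hD0 := rfl, hD1 := rfl, hD'0 := rfl, hD'1 := rfl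
      hX1 := rfl, hβ := fun _ _ _ => hs _ _, hst := fun _ _ _ => hs _ _
      hfar := fun _ _ _ => hs _ _, hmm := fun _ _ => hs _ _
      hdeg := hq.imp_right fun h2 => ⟨h2, fun _ _ => ⟨hs _ _, hs _ _⟩⟩ }
  obtain ⟨-, h⟩ := (P.amal.good' (by omega) P.amal_deg n 0 (by omega)).1
  set C := Subgroup.closure (Set.range (Sum.elim (fun p : Fin n × SL(2, F) => g2 p.1 p.2)
      (fun i : {i : Fin n // (i : ℕ) + 1 < n} => rX i.1 (nx i.1) 1)))
  have h0 : ∀ j c, g2 j c ∈ C := fun j c => Subgroup.subset_closure ⟨Sum.inl (j, c), rfl⟩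
  have hle : P.amal.Gam 0 ≤ C.comap (MonoidHom.fst (Sp F n) PUnit.{1}) := by
    refine P.amal.Gam_le (fun l _ p hp => ?_) (fun i _ hi p hp => ?_)
    · have := P.amal.LS_fst hp
      rw [← g2_range] at this
      obtain ⟨c, hc⟩ := this
      show p.1 ∈ C
      exact hc ▸ h0 l c
    · obtain ⟨a, c, r, hg⟩ := M_decomp (nx_val hi) (P.amal.LM_fst hi hp)
      have hij := Frame.ne_nx hi
      show p.1 ∈ C
      rw [hg]
      refine mul_mem (mul_mem ?_ ?_) ?_
      · rw [← g2_xHom]; exact h0 _ _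
      · rw [← g2_xHom]; exact h0 _ _
      · show rX i (nx i) r ∈ C
        by_cases hr : r = 0
        · subst hr; simp [rX, one_mem]
        rw [← mul_one r, ← Units.val_mk0 hr, ← g2_hDiag_rX hij]
        exact mul_mem (mul_mem (h0 _ _) (Subgroup.subset_closure ⟨Sum.inr ⟨i, hi⟩, rfl⟩))
          (inv_mem (h0 _ _))
  refine eq_top_iff.2 fun g _ => ?_
  have hg : g ∈ Gn F n 0 := fun z ⟨i, hi, _⟩ => absurd hi (Nat.not_lt_zero _)
  rw [← h] at hg
  obtain ⟨p, hp, rfl⟩ := hg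
  exact hle hp

section Words

variable (hn : 3 ≤ n)

/-- Words in an alternating group, one copy of SL₂ and one further element. -/
abbrev Wrd (F : Type u) [Field F] (n : ℕ) : Type u :=
  FreeGroup (alternatingGroup (Fin n) ⊕ Monoid.Coprod SL(2, F) (FreeGroup Unit))

/-- An even permutation as a word. -/
def la (s : alternatingGroup (Fin n)) : Wrd F n := FreeGroup.of (Sum.inl s)

/-- An element of SL₂ as a word. -/
def lb (c : SL(2, F)) : Wrd F n := FreeGroup.of (Sum.inr (Monoid.Coprod.inl c))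

/-- The further element as a word. -/
def xw : Wrd F n := FreeGroup.of (Sum.inr (Monoid.Coprod.inr (FreeGroup.of ())))

/-- A chosen permutation moving the first index to the given one. -/
noncomputable def tf (j : Fin n) : alternatingGroup (Fin n) := (ex_first hn j).choose

theorem tf_spec (j : Fin n) : (tf hn j : Perm (Fin n)) (i0 hn) = j := (ex_first hn j).choose_spec

/-- The copy of SL₂ at an index as words. -/
noncomputable def bw (j : Fin n) (c : SL(2, F)) : Wrd F n := la (tf hn j) * lb c * (la (tf hn j))⁻¹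

/-- A conjugate of the further element as a word. -/
def Xw (s : alternatingGroup (Fin n)) : Wrd F n := la s * xw * (la s)⁻¹

/-- A commutation relation. -/
def cw {G : Type w} [Group G] (a b : G) : G := a * b * (b * a)⁻¹

theorem cw_eq_one {G Γ : Type*} [Group G] [Group Γ] (K : G →* Γ) (a b : G) :
    K (cw a b) = 1 ↔ Commute (K a) (K b) := by
  simp only [cw, map_mul, map_inv, mul_inv_eq_one]; rfl

/-- The model of the copy of SL₂ and of the further element. -/
def gB : Monoid.Coprod SL(2, F) (FreeGroup Unit) →* Sp F n :=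
  Monoid.Coprod.lift (g2 (i0 hn)) (FreeGroup.lift fun _ => rX (i0 hn) (i1 hn) 1)

/-- The interpretation in the model. -/
def Lm : Wrd F n →* Sp F n :=
  FreeGroup.lift (Sum.elim (altSp F n : alternatingGroup (Fin n) → Sp F n) (gB hn))

theorem Lm_la (s : alternatingGroup (Fin n)) : Lm hn (la (F := F) s) = altSp F n s := by
  simp [Lm, la]

theorem Lm_lb (c : SL(2, F)) : Lm hn (lb (n := n) c) = g2 (i0 hn) c := by simp [Lm, lb, gB]

theorem Lm_xw : Lm hn (xw (F := F)) = rX (i0 hn) (i1 hn) 1 := by simp [Lm, xw, gB]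

theorem Lm_bw (j : Fin n) (c : SL(2, F)) : Lm hn (bw hn j c) = g2 j c := by
  simp only [bw, map_mul, map_inv, Lm_la, Lm_lb]
  show permSp F _ * _ * (permSp F _)⁻¹ = _
  rw [perm_g2]; exact congrArg (fun k => g2 k c) (tf_spec hn j)

theorem Lm_Xw (s : alternatingGroup (Fin n)) : Lm hn (Xw (F := F) s) =
    rX ((s : Perm (Fin n)) (i0 hn)) ((s : Perm (Fin n)) (i1 hn)) 1 := by
  simp only [Xw, map_mul, map_inv, Lm_la, Lm_xw]
  exact perm_rX _ _ _ _

set_option maxHeartbeats 400000 in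
/-- The relations depending on the field. -/
theorem exists_loc [Fintype F] :
    ∃ Loc : List (Wrd F n), Loc.length ≤ 14 ∧
      (∀ r ∈ Loc, Lm hn r = 1) ∧ ∀ (Γ : Type) [Group Γ] (K : Wrd F n →* Γ)
        (β0 β1 : SL(2, F) →* Γ), (∀ c, K (lb c) = β0 c) → (∀ c, K (bw hn (i1 hn) c) = β1 c) →
        (∀ a c, Commute (β0 a) (β1 c)) → (∀ r ∈ Loc, K r = 1) →
        (∃ D D' : Local F Γ, D.β0 = β0 ∧ D.β1 = β1 ∧ D.X (ofAdd 1) = K xw ∧
          D'.β0 = β1 ∧ D'.β1 = β0 ∧ D'.X (ofAdd 1) = K xw) ∧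
        ((∃ c : F, c ≠ 0 ∧ c ≠ 1) ∨ ((2 : F) = 0 ∧ ∀ a, (a = i0 hn ∨ n = 4 ∧ a = i1 hn) →
          K (degA (Xw (F := F) (pp hn a (nx a))) (Xw (pp hn (nx a) (nx (nx a))))
            (bw hn (nx a) (wEl F)) (bw hn (nx (nx a)) (wEl F))) = 1 ∧
          K (degB (Xw (F := F) (pp hn a (nx a))) (Xw (pp hn (nx a) (nx (nx a))))
            (bw hn a (wEl F)) (bw hn (nx a) (wEl F)) (bw hn (nx (nx a)) (wEl F))) = 1)) := by
  classical
  obtain ⟨p, hp⟩ := CharP.exists F
  have : Fact p.Prime := ⟨CharP.char_is_prime F p⟩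
  let _ : Algebra (ZMod p) F := ZMod.algebra F p
  have h01 : i0 hn ≠ i1 hn := i01 hn
  have pnx : ∀ i : Fin n, (i : ℕ) + 1 < n → (pp hn i (nx i) : Perm (Fin n)) (i0 hn) = i ∧
      (pp hn i (nx i) : Perm (Fin n)) (i1 hn) = nx i := fun i hi =>
    pp_spec hn (ex_next hn (nx_val hi))
  have hx0 : (Lm hn) ∘ (lb : SL(2, F) → Wrd F n) = g2 (i0 hn) := funext (Lm_lb hn)
  have hx1 : (Lm hn) ∘ bw (F := F) hn (i1 hn) = g2 (i1 hn) := funext (Lm_bw hn _)
  obtain ⟨hu0, hu1, hh, hp'⟩ := model_core (F := F) h01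
  obtain ⟨-, -, hh', hp''⟩ := model_core (F := F) h01.symm
  rw [← rX_symm h01] at hh' hp''
  have mH : (Lm hn) (relH (F := F) (lb (n := n)) (bw hn (i1 hn)) xw) = 1 := by
    rw [map_relH, hx0, hx1, Lm_xw, relH, mul_inv_eq_one]; exact hh
  have mU : (Lm hn) (relU (F := F) (lb (n := n)) (bw hn (i1 hn)) xw) = 1 := by
    rw [map_relU, hx0, hx1, Lm_xw, relU, mul_inv_eq_one]; exact hp'
  have mH' : (Lm hn) (relH (F := F) (bw hn (i1 hn)) (lb (n := n)) xw) = 1 := by
    rw [map_relH, hx0, hx1, Lm_xw, relH, mul_inv_eq_one]; exact hh'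
  have mU' : (Lm hn) (relU (F := F) (bw hn (i1 hn)) (lb (n := n)) xw) = 1 := by
    rw [map_relU, hx0, hx1, Lm_xw, relU, mul_inv_eq_one]; exact hp''
  have mu0 : (Lm hn) (cw (lb (xHom F (ofAdd 1))) xw) = 1 := (cw_eq_one _ _ _).2 (by rw [Lm_lb, Lm_xw]; exact hu0)
  have mu1 : (Lm hn) (cw (bw hn (i1 hn) (xHom F (ofAdd 1))) xw) = 1 := (cw_eq_one _ _ _).2 (by
    rw [Lm_bw, Lm_xw]; exact hu1)
  by_cases h3 : 3 ≤ Fintype.card F
  · obtain ⟨t, ht, hord⟩ := CfsgLib.SL2Pres.exists_gen F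
    have hspan := span_sq ht
    obtain ⟨q, hq0, hqker⟩ := CfsgLib.SL2Pres.poly_ker (p := p) (t : F)
    have ht1 : (t : F) - 1 ≠ 0 := sub_ne_zero.2 fun e => by
      rw [Units.val_eq_one.1 e, orderOf_one] at hord; omega
    obtain ⟨b, hb'⟩ := ht (Units.mk0 _ ht1)
    have hb : (t : F) = (t : F) ^ b + 1 := by
      rw [← Units.val_pow_eq_pow_val, hb', Units.val_mk0, sub_add_cancel]
    have hex : ∃ c : F, c ≠ 0 ∧ c ≠ 1 := ⟨t, t.ne_zero, sub_ne_zero.1 ht1⟩
    have M := model_seed' (p := p) (F := F) h01 hb hq0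
    have M' := model_seed' (p := p) (F := F) h01.symm hb hq0
    rw [← rX_symm h01] at M'
    let tri : Wrd F n → Wrd F n := fun h =>
      cj h xw 1 * (cj h xw (b : ℤ) * xw)⁻¹
    let hh0 : Wrd F n := lb (hDiag t)
    let hh1 := bw hn (i1 hn) (hDiag t)
    refine ⟨[tri hh0, tri hh1, cw xw (cj hh0 xw 1), cw xw (cj hh1 xw 1), polyWord hh0 xw 1 q,
      polyWord hh1 xw 1 q, xw ^ p, hh1 * xw * hh1⁻¹ * (hh0 * xw * hh0⁻¹)⁻¹,
      cw (lb (xHom F (ofAdd 1))) xw, cw (bw hn (i1 hn) (xHom F (ofAdd 1))) xw,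
      relH (F := F) (lb (n := n)) (bw hn (i1 hn)) xw, relU (F := F) (lb (n := n)) (bw hn (i1 hn)) xw, relH (F := F) (bw hn (i1 hn)) (lb (n := n)) xw,
      relU (F := F) (bw hn (i1 hn)) (lb (n := n)) xw], le_rfl, ?_, ?_⟩
    · have L0 : (Lm hn) hh0 = g2 (i0 hn) (hDiag t) := Lm_lb hn _
      have L1 : (Lm hn) hh1 = g2 (i1 hn) (hDiag t) := Lm_bw hn _ _
      intro r hr
      simp only [List.mem_cons, List.not_mem_nil, or_false] at hr
      rcases hr with rfl | rfl | rfl | rfl | rfl | rfl | rfl | rfl | rfl | rfl | rfl | rfl | rfl | rfl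
      · simp only [tri, map_mul, map_inv, map_cj, L0, Lm_xw, M.tri, mul_inv_cancel]
      · simp only [tri, map_mul, map_inv, map_cj, L1, Lm_xw, M'.tri, mul_inv_cancel]
      · exact (cw_eq_one _ _ _).2 (by rw [map_cj, L0, Lm_xw]; exact M.self)
      · exact (cw_eq_one _ _ _).2 (by rw [map_cj, L1, Lm_xw]; exact M'.self)
      · rw [map_polyWord, L0, Lm_xw, M.poly]
      · rw [map_polyWord, L1, Lm_xw, M'.poly]
      · rw [map_pow, Lm_xw, M.pow]
      · simp only [map_mul, map_inv, L0, L1, Lm_xw, M.h1, mul_inv_cancel]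
      exacts [mu0, mu1, mH, mU, mH', mU']
    · intro Γ _ K β0 β1 k0 k1 hc hK
      have kc : ∀ a c, K (cw a c) = 1 → Commute (K a) (K c) := fun a c => (cw_eq_one K a c).1
      have K0 : K hh0 = β0 (hDiag t) := k0 _
      have K1 : K hh1 = β1 (hDiag t) := k1 _
      simp only [List.forall_mem_cons, List.forall_mem_nil, and_true, tri, map_mul, map_inv, map_cj,
        map_polyWord, map_pow, K0, K1, k0, k1, relH, relU, mul_inv_eq_one] at hK
      obtain ⟨q1, q2, q3, q4, q5, q6, q7, q8, q9, q10, q11, q12, q13, q14, -⟩ := hK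
      have s3 : Commute (K xw) (cj (β0 (hDiag t)) (K xw) 1) := by
        rw [← K0, ← map_cj]; exact kc _ _ (by simpa [map_cj] using q3)
      have s4 : Commute (K xw) (cj (β1 (hDiag t)) (K xw) 1) := by
        rw [← K1, ← map_cj]; exact kc _ _ (by simpa [map_cj] using q4)
      have s9 : Commute (β0 (xHom F (ofAdd 1))) (K xw) := by
        rw [← k0]; exact kc _ _ (by simpa using q9)
      have s10 : Commute (β1 (xHom F (ofAdd 1))) (K xw) := by
        rw [← k1]; exact kc _ _ (by simpa using q10)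
      obtain ⟨D, e0, e1, eX⟩ := Seed.exists_local (F := F)
        (⟨hc, q1, s3, q7, q5, q8, s9, s10, q11, q12⟩ : Seed t β0 β1 (K xw) p b q) ht hspan hqker
      obtain ⟨D', e0', e1', eX'⟩ := Seed.exists_local (F := F)
        (⟨fun a c => (hc c a).symm, q2, s4, q7, q6, q8.symm, s10, s9, q13, q14⟩ :
          Seed t β1 β0 (K xw) p b q) ht hspan hqker
      exact ⟨⟨D, D', e0, e1, eX, e0', e1', eX'⟩, Or.inl hex⟩
  · obtain ⟨hF01, h2⟩ := small_field h3
    let a' : Fin n := if 4 ≤ n then i1 hn else i0 hn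
    let dA : Fin n → Wrd F n := fun a => degA (Xw (pp hn a (nx a)))
      (Xw (pp hn (nx a) (nx (nx a)))) (bw hn (nx a) (wEl F)) (bw hn (nx (nx a)) (wEl F))
    let dB : Fin n → Wrd F n := fun a => degB (Xw (pp hn a (nx a)))
      (Xw (pp hn (nx a) (nx (nx a)))) (bw hn a (wEl F)) (bw hn (nx a) (wEl F)) (bw hn (nx (nx a)) (wEl F))
    refine ⟨[xw * xw, cw (lb (xHom F (ofAdd 1))) xw, cw (bw hn (i1 hn) (xHom F (ofAdd 1))) xw,
      relH (F := F) (lb (n := n)) (bw hn (i1 hn)) xw, relU (F := F) (lb (n := n)) (bw hn (i1 hn)) xw, relH (F := F) (bw hn (i1 hn)) (lb (n := n)) xw,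
      relU (F := F) (bw hn (i1 hn)) (lb (n := n)) xw, dA (i0 hn), dB (i0 hn), dA a', dB a'],
      by simp only [List.length_cons, List.length_nil]; omega, ?_, ?_⟩
    · have md : ∀ a : Fin n, (a : ℕ) + 2 < n → (Lm hn) (dA a) = 1 ∧ (Lm hn) (dB a) = 1 := by
        intro a ha
        have ha1 : (a : ℕ) + 1 < n := by omega
        have v1 := nx_val ha1
        have hb1 : ((nx a : Fin n) : ℕ) + 1 < n := by omega
        have v2 := nx_val hb1
        obtain ⟨-, -, mA, mB⟩ := deg_acts (F := F) h2 (i := a) (j := nx a) (l := nx (nx a))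
          (fun e => by have := congrArg Fin.val e; omega)
          (fun e => by have := congrArg Fin.val e; omega)
          (fun e => by have := congrArg Fin.val e; omega)
        obtain ⟨x1, x2⟩ := pnx a ha1
        obtain ⟨y1, y2⟩ := pnx (nx a) hb1
        simp only [dA, dB, map_degA, map_degB, Lm_Xw, Lm_bw, x1, x2, y1, y2]
        exact ⟨mA, mB⟩
      have m0 := md (i0 hn) (by simp [i0]; omega)
      have m1 := md a' (by
        simp only [a']; split <;> simp [i0, i1] <;> omega)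
      intro r hr
      simp only [List.mem_cons, List.not_mem_nil, or_false] at hr
      rcases hr with rfl | rfl | rfl | rfl | rfl | rfl | rfl | rfl | rfl | rfl | rfl
      · rw [map_mul, Lm_xw, rX_add h01, one_add_one_eq_two, h2]; simp [rX]
      exacts [mu0, mu1, mH, mU, mH', mU', m0.1, m0.2, m1.1, m1.2]
    · intro Γ _ K β0 β1 k0 k1 hc hK
      have kc : ∀ a c, K (cw a c) = 1 → Commute (K a) (K c) := fun a c => (cw_eq_one K a c).1
      simp only [List.forall_mem_cons, List.forall_mem_nil, and_true] at hK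
      obtain ⟨q1, q2, q3, q4, q5, q6, q7, q8, q9, q10, q11, -⟩ := hK
      rw [map_mul] at q1
      simp only [map_mul, map_inv, k0, k1, relH, relU, mul_inv_eq_one] at q4 q5 q6 q7
      have s2 : Commute (β0 (xHom F (ofAdd 1))) (K xw) := by rw [← k0]; exact kc _ _ q2
      have s3 : Commute (β1 (xHom F (ofAdd 1))) (K xw) := by rw [← k1]; exact kc _ _ q3
      obtain ⟨D, e0, e1, eX⟩ := exists_local_two hF01 h2 β0 β1 (K xw) hc q1 s2 s3 q4 q5
      obtain ⟨D', e0', e1', eX'⟩ := exists_local_two hF01 h2 β1 β0 (K xw)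
        (fun a c => (hc c a).symm) q1 s3 s2 q6 q7
      refine ⟨⟨D, D', e0, e1, eX, e0', e1', eX'⟩, Or.inr ⟨h2, ?_⟩⟩
      rintro a (rfl | ⟨h4, rfl⟩)
      · exact ⟨q8, q9⟩
      · have ea : a' = i1 hn := if_pos (by omega)
        rw [ea] at q10 q11
        exact ⟨q10, q11⟩

end Words

set_option maxHeartbeats 400000 in
/-- Relations giving a frame present the symplectic group, after two relations placing the
even permutations. -/
theorem sp_glue_core [Fintype F] (hn : 3 ≤ n) {κ : Type} {k : ℕ}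
    (hA : BoundedOn (alternatingGroup (Fin n)) κ k) (E0 : List (Wrd F n))
    (hT : ∀ r ∈ E0, Lm hn r = 1)
    (hF : ∀ (Γ : Type) [Group Γ] (α : alternatingGroup (Fin n) →* Γ)
      (βB : Monoid.Coprod SL(2, F) (FreeGroup Unit) →* Γ),
      (∀ r ∈ E0, FreeGroup.lift (Sum.elim α βB) r = 1) →
        ∃ P : Frame F hn Γ, P.α = α ∧ (∀ c, P.β (i0 hn) c = βB (Monoid.Coprod.inl c)) ∧
          P.D.X (ofAdd 1) = βB (Monoid.Coprod.inr (FreeGroup.of ()))) :
    BoundedOn (Sp F n) (κ ⊕ (Fin 3 ⊕ Unit)) (k + 9 + (E0.length + 2)) := by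
  classical
  obtain ⟨rels, hcard, ⟨e⟩⟩ := (CfsgLib.SL2Pres.presentations F).1
  have hBX : BoundedOn (Monoid.Coprod SL(2, F) (FreeGroup Unit)) (Fin 3 ⊕ Unit) (9 + 0) :=
    (BoundedOn.of_presented hcard e).coprod (boundedOn_free Unit)
  obtain ⟨p₁, p₂, hpab⟩ := alt_two_generated (Fin n)
  let A := ↥(alternatingGroup (Fin n))
  let B := Monoid.Coprod SL(2, F) (FreeGroup Unit)
  let f : A →* Sp F n := altSp F n
  let g : B →* Sp F n := gB hn
  let I := {i : Fin n // (i : ℕ) + 1 < n}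
  let gens : (Fin n × SL(2, F)) ⊕ I → Sp F n :=
    Sum.elim (fun q => g2 q.1 q.2) (fun i => rX i.1 (nx i.1) 1)
  have hq : (∃ c : F, c ≠ 0 ∧ c ≠ 1) ∨ (2 : F) = 0 := by
    by_cases h : ∃ c : F, c ≠ 0 ∧ c ≠ 1
    · exact Or.inl h
    · push_neg at h
      by_cases h2 : (2 : F) = 0
      · exact Or.inr h2
      · exact absurd (h 2 h2) (fun e => one_ne_zero (by linear_combination e))
  have hgens : Subgroup.closure (Set.range gens) = ⊤ := gens_closure hn hq
  obtain ⟨W, hW⟩ : ∃ W : Sp F n → FreeGroup ((Fin n × SL(2, F)) ⊕ I),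
      ∀ t, FreeGroup.lift gens (W t) = t := by
    have h : ∀ t, ∃ w, FreeGroup.lift gens w = t := fun t => by
      have ht : t ∈ (FreeGroup.lift gens).range := by
        rw [FreeGroup.range_lift_eq_closure, hgens]; trivial
      exact ht
    exact ⟨fun t => (h t).choose, fun t => (h t).choose_spec⟩
  let trW : FreeGroup ((Fin n × SL(2, F)) ⊕ I) →* Wrd F n :=
    FreeGroup.lift (Sum.elim (fun q => bw hn q.1 q.2) fun i => Xw (pp hn i.1 (nx i.1)))
  have h01 : i0 hn ≠ i1 hn := i01 hn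
  have hsne : ∀ s : A, (s : Perm (Fin n)) (i0 hn) ≠ (s : Perm (Fin n)) (i1 hn) := fun s =>
    (s : Perm (Fin n)).injective.ne h01
  have pnx : ∀ i : Fin n, (i : ℕ) + 1 < n → (pp hn i (nx i) : Perm (Fin n)) (i0 hn) = i ∧
      (pp hn i (nx i) : Perm (Fin n)) (i1 hn) = nx i := fun i hi =>
    pp_spec hn (ex_next hn (nx_val hi))
  have n0 : nx (i0 hn) = i1 hn := Fin.ext (by simp [nx, i0, i1]; omega)
  let E : List (Wrd F n) :=
    [(la p₁)⁻¹ * trW (W (f p₁)), (la p₂)⁻¹ * trW (W (f p₂))] ++ E0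
  have hLtr : (Lm hn).comp trW = FreeGroup.lift gens := FreeGroup.ext_hom _ _ fun o => by
    rcases o with ⟨j, c⟩ | i
    · simp [trW, gens, Lm_bw]
    · simp [trW, gens, Lm_Xw, (pnx i.1 i.2).1, (pnx i.1 i.2).2]
  have hgen : f.range ⊔ g.range = ⊤ := by
    rw [eq_top_iff, ← hgens, Subgroup.closure_le]
    rintro _ ⟨o, rfl⟩
    have hL : ∀ w, (Lm hn) w ∈ f.range ⊔ g.range := fun w => by
      refine FreeGroup.induction_on w (by simp [one_mem]) (fun x => ?_) (fun x hx => ?_)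
        fun x y hx hy => ?_
      · rcases x with s | b
        · exact Subgroup.mem_sup_left ⟨s, by simp [Lm, f, g]⟩
        · exact Subgroup.mem_sup_right ⟨b, by simp [Lm, f, g]⟩
      · rw [map_inv]; exact inv_mem hx
      · rw [map_mul]; exact mul_mem hx hy
    have := hL (trW (FreeGroup.of o))
    rwa [← MonoidHom.comp_apply, hLtr, FreeGroup.lift_apply_of] at this
  refine (BoundedOn.glue f g hA hBX hgen E ?_ ?_).mono
    (by simp only [E, List.length_append, List.length_cons, List.length_nil]; omega)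
  · intro r hr
    change (Lm hn) r = 1
    simp only [E, List.mem_append, List.mem_cons, List.not_mem_nil, or_false] at hr
    rcases hr with (rfl | rfl) | hr
    · rw [map_mul, map_inv, ← MonoidHom.comp_apply (Lm hn) trW, hLtr, hW, Lm_la, inv_mul_cancel]
    · rw [map_mul, map_inv, ← MonoidHom.comp_apply (Lm hn) trW, hLtr, hW, Lm_la, inv_mul_cancel]
    · exact hT r hr
  · intro Γ _ α βB hE
    let K := FreeGroup.lift (Sum.elim (α : A → Γ) (βB : B → Γ))
    have hk : ∀ r ∈ E, K r = 1 := hE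
    obtain ⟨P, hPα, hβ0, eX⟩ := hF Γ α βB fun r hr => hk r (List.mem_append_right _ hr)
    subst hPα
    have Kla : ∀ s, K (la s) = P.α s := fun s => by simp [K, la]
    have Kbw : ∀ j c, K (bw hn j c) = P.β j c := fun j c => by
      have Klb : K (lb c) = P.β (i0 hn) c := by simp [K, lb, hβ0]
      simp only [bw, map_mul, map_inv, Kla, Klb]
      have := P.hβ (tf hn j) (i0 hn) c
      rwa [tf_spec] at this
    have eX' : P.D.X (ofAdd 1) = K xw := by rw [eX]; simp [K, xw]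
    have KXw : ∀ s, K (Xw s) = cα P.α s (P.D.X (ofAdd 1)) := fun s => by
      simp only [Xw, map_mul, map_inv, Kla, eX']; rfl
    obtain ⟨Ψ, hS, hM⟩ := P.exists_hom
    have hKtr : K.comp trW = Ψ.comp (FreeGroup.lift gens) := FreeGroup.ext_hom _ _ fun o => by
      rcases o with ⟨j, c⟩ | i
      · simp [trW, gens, Kbw, hS]
      · simp only [MonoidHom.comp_apply, trW, gens, FreeGroup.lift_apply_of, Sum.elim_inr, KXw,
          hM i.1 i.2]
        rfl
    refine ⟨Ψ, MonoidHom.eq_of_eqOn_dense hpab ?_, Monoid.Coprod.hom_ext ?_ ?_⟩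
    · have key : ∀ s, (la s)⁻¹ * trW (W (f s)) ∈ E → Ψ (f s) = P.α s := fun s hs => by
        have h := hk _ hs
        rw [map_mul, map_inv, ← MonoidHom.comp_apply K trW, hKtr, MonoidHom.comp_apply, hW, Kla,
          inv_mul_eq_one] at h
        exact h.symm
      rintro s (rfl | rfl) <;> exact key _ (by simp [E])
    · refine MonoidHom.ext fun c => ?_
      show Ψ (g (Monoid.Coprod.inl c)) = βB (Monoid.Coprod.inl c)
      rw [show g (Monoid.Coprod.inl c) = g2 (i0 hn) c from Monoid.Coprod.lift_apply_inl _ _ _, hS]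
      exact hβ0 c
    · refine FreeGroup.ext_hom _ _ fun _ => ?_
      show Ψ (g (Monoid.Coprod.inr (FreeGroup.of ()))) = βB (Monoid.Coprod.inr (FreeGroup.of ()))
      rw [show g (Monoid.Coprod.inr (FreeGroup.of ())) = rX (i0 hn) (nx (i0 hn)) 1 by
        rw [n0]; exact (Monoid.Coprod.lift_apply_inr _ _ _).trans FreeGroup.lift_apply_of,
        hM _ (by simp [i0]; omega)]
      obtain ⟨u0', u1'⟩ := P.σ_spec (i := i0 hn) (by simp [i0]; omega)
      rw [P.st _ u0' (by rw [u1', n0]) 1]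
      exact eX

/-- Conjugates of a copy of SL₂ commuting with the stabiliser of the first index. -/
theorem frame_beta {Γ : Type w} [Group Γ] (hn : 3 ≤ n) (α : alternatingGroup (Fin n) →* Γ)
    (βh : SL(2, F) →* Γ)
    (hstab : ∀ s : alternatingGroup (Fin n), (s : Perm (Fin n)) (i0 hn) = i0 hn →
      ∀ c, Commute (α s) (βh c)) :
    (∀ c, cα α (tf hn (i0 hn)) (βh c) = βh c) ∧
      ∀ (σ : alternatingGroup (Fin n)) j c, cα α σ (cα α (tf hn j) (βh c)) =
        cα α (tf hn ((σ : Perm (Fin n)) j)) (βh c) := by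
  refine ⟨fun c => ?_, fun σ j c => ?_⟩
  · rw [cα_apply, (hstab _ (tf_spec hn _) c).eq, mul_inv_cancel_right]
  · have h := hstab ((tf hn ((σ : Perm (Fin n)) j))⁻¹ * σ * tf hn j) (by
      show ((tf hn ((σ : Perm (Fin n)) j) : Perm (Fin n)))⁻¹
        ((σ : Perm (Fin n)) ((tf hn j : Perm (Fin n)) (i0 hn))) = i0 hn
      rw [tf_spec, Perm.inv_eq_iff_eq, tf_spec]) c
    rw [← cα_mul]
    have e : cα α ((tf hn ((σ : Perm (Fin n)) j))⁻¹ * σ * tf hn j) (βh c) = βh c := by
      rw [cα_apply, h.eq, mul_inv_cancel_right]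
    conv_rhs => rw [← e, ← cα_mul]
    simp only [mul_assoc, mul_inv_cancel_left]

theorem exists_pair [Fintype F] :
    ∃ a b : SL(2, F), Subgroup.closure ({a, b} : Set SL(2, F)) = ⊤ := by
  classical
  obtain ⟨p, hp⟩ := CharP.exists F
  have : Fact p.Prime := ⟨CharP.char_is_prime F p⟩
  let _ : Algebra (ZMod p) F := ZMod.algebra F p
  by_cases h3 : 3 ≤ Fintype.card F
  · exact sl2_pair h3
  obtain ⟨t, ht, -⟩ := CfsgLib.SL2Pres.exists_gen F
  have t1 : hDiag t = 1 := by
    have : t = 1 := Units.ext (((small_field h3).1 t).resolve_left t.ne_zero)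
    simp [this]
  refine ⟨xHom F (ofAdd 1), wEl F, ?_⟩
  rw [eq_top_iff, ← CfsgLib.SL2Pres.sl2_gen ht (span_sq ht), Subgroup.closure_le]
  rintro g (rfl | rfl | rfl)
  · exact Subgroup.subset_closure (Or.inl rfl)
  · rw [t1]; exact one_mem _
  · exact Subgroup.subset_closure (Or.inr rfl)

set_option maxHeartbeats 600000 in
/-- The symplectic groups of dimension at least six, with the generators kept. -/
theorem sp_glue_on [Fintype F] (hn : 3 ≤ n) {κ : Type} {k : ℕ}
    (hA : BoundedOn (alternatingGroup (Fin n)) κ k) :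
    BoundedOn (Sp F n) (κ ⊕ (Fin 3 ⊕ Unit)) (k + 9 + 34) := by
  classical
  obtain ⟨a₁, a₂, hab⟩ := exists_pair (F := F)
  obtain ⟨s₁, s₂, hsfix, hsgen⟩ := stab_gens (Finset.univ.erase (i0 hn))
  obtain ⟨r₁, r₂, hrfix, hrgen⟩ := stab_gens ((Finset.univ.erase (i0 hn)).erase (i1 hn))
  let A := ↥(alternatingGroup (Fin n))
  let B := Monoid.Coprod SL(2, F) (FreeGroup Unit)
  have h01 : i0 hn ≠ i1 hn := i01 hn
  have hsne : ∀ s : A, (s : Perm (Fin n)) (i0 hn) ≠ (s : Perm (Fin n)) (i1 hn) := fun s =>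
    (s : Perm (Fin n)).injective.ne h01
  obtain ⟨Loc, hLoc, hLocT, hLocF⟩ := exists_loc (F := F) hn
  let E : List (Wrd F n) :=
    [cw (la s₁) (lb a₁), cw (la s₁) (lb a₂), cw (la s₂) (lb a₁), cw (la s₂) (lb a₂),
      cw (lb a₁) (bw hn (i1 hn) a₁), cw (lb a₁) (bw hn (i1 hn) a₂), cw (lb a₂) (bw hn (i1 hn) a₁),
      cw (lb a₂) (bw hn (i1 hn) a₂), cw (la r₁) xw, cw (la r₂) xw,
      cw (bw hn (i2 hn) a₁) xw, cw (bw hn (i2 hn) a₂) xw, cw (bw hn (iL hn) a₁) xw, cw (bw hn (iL hn) a₂) xw] ++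
    [(i1 hn, i2 hn), (i1 hn, iL hn), (i2 hn, i3 hn), (i3 hn, i2 hn)].map
      (fun q => cw xw (Xw (pp hn q.1 q.2))) ++ Loc
  have s_fix : ∀ s : A, (s = s₁ ∨ s = s₂) → (s : Perm (Fin n)) (i0 hn) = i0 hn := by
    rintro s (rfl | rfl)
    exacts [(hsfix _ (by simp)).1, (hsfix _ (by simp)).2]
  have r_fix : ∀ s : A, (s = r₁ ∨ s = r₂) →
      (s : Perm (Fin n)) (i0 hn) = i0 hn ∧ (s : Perm (Fin n)) (i1 hn) = i1 hn := by
    rintro s (rfl | rfl)
    exacts [⟨(hrfix _ (by simp)).1, (hrfix _ (by simp)).1⟩,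
      ⟨(hrfix _ (by simp)).2, (hrfix _ (by simp)).2⟩]
  refine (sp_glue_core hn hA E ?_ ?_).mono
    (by simp only [E, List.length_append, List.length_map, List.length_cons, List.length_nil]; omega)
  · intro r hr
    change (Lm hn) r = 1
    simp only [E, List.mem_append, List.mem_cons, List.not_mem_nil, or_false, List.mem_map] at hr
    have hst : ∀ s, (s = s₁ ∨ s = s₂) → ∀ c, Commute ((Lm hn) (la (F := F) s)) ((Lm hn) (lb c)) := fun s hs c => by
      rw [Lm_la, Lm_lb]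
      have h := perm_g2 (F := F) (s : Perm (Fin n)) (i0 hn) c
      rw [s_fix s hs, mul_inv_eq_iff_eq_mul] at h
      exact h
    have hrx : ∀ s, (s = r₁ ∨ s = r₂) → Commute ((Lm hn) (la (F := F) s)) ((Lm hn) xw) := fun s hs => by
      rw [Lm_la, Lm_xw]
      have h := perm_rX (F := F) (s : Perm (Fin n)) (i0 hn) (i1 hn) 1
      rw [(r_fix s hs).1, (r_fix s hs).2, mul_inv_eq_iff_eq_mul] at h
      exact h
    have hms : ∀ k, k ≠ i0 hn → k ≠ i1 hn → ∀ c, Commute ((Lm hn) (bw (F := F) hn k c)) ((Lm hn) xw) := fun k h0 h1 c => by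
      rw [Lm_bw, Lm_xw]; exact g2_rX_commute h01 h0 h1 c 1
    have w2 : i2 hn ≠ i0 hn ∧ i2 hn ≠ i1 hn := by simp [i0, i1, i2, Fin.ext_iff]
    have wL : iL hn ≠ i0 hn ∧ iL hn ≠ i1 hn := by simp [i0, i1, iL, Fin.ext_iff]; omega
    rcases hr with ((rfl | rfl | rfl | rfl | rfl | rfl | rfl | rfl | rfl | rfl | rfl | rfl | rfl |
      rfl) | ⟨q, -, rfl⟩) | hr
    · exact (cw_eq_one _ _ _).2 (hst _ (Or.inl rfl) _)
    · exact (cw_eq_one _ _ _).2 (hst _ (Or.inl rfl) _)
    · exact (cw_eq_one _ _ _).2 (hst _ (Or.inr rfl) _)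
    · exact (cw_eq_one _ _ _).2 (hst _ (Or.inr rfl) _)
    · exact (cw_eq_one _ _ _).2 (by rw [Lm_lb, Lm_bw]; exact g2_commute h01 _ _)
    · exact (cw_eq_one _ _ _).2 (by rw [Lm_lb, Lm_bw]; exact g2_commute h01 _ _)
    · exact (cw_eq_one _ _ _).2 (by rw [Lm_lb, Lm_bw]; exact g2_commute h01 _ _)
    · exact (cw_eq_one _ _ _).2 (by rw [Lm_lb, Lm_bw]; exact g2_commute h01 _ _)
    · exact (cw_eq_one _ _ _).2 (hrx _ (Or.inl rfl))
    · exact (cw_eq_one _ _ _).2 (hrx _ (Or.inr rfl))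
    · exact (cw_eq_one _ _ _).2 (hms _ w2.1 w2.2 _)
    · exact (cw_eq_one _ _ _).2 (hms _ w2.1 w2.2 _)
    · exact (cw_eq_one _ _ _).2 (hms _ wL.1 wL.2 _)
    · exact (cw_eq_one _ _ _).2 (hms _ wL.1 wL.2 _)
    · exact (cw_eq_one _ _ _).2 (by rw [Lm_xw, Lm_Xw]; exact rX_commute h01 (hsne _) _ _)
    · exact hLocT r hr
  · intro Γ _ α βB hE
    let K := FreeGroup.lift (Sum.elim (α : A → Γ) (βB : B → Γ))
    have hk : ∀ r ∈ E, K r = 1 := hE
    have kc : ∀ a c, cw a c ∈ E → Commute (K a) (K c) := fun a c h => by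
      exact (cw_eq_one _ _ _).1 (hk _ h)
    let βh : SL(2, F) →* Γ := βB.comp Monoid.Coprod.inl
    let β : Fin n → SL(2, F) →* Γ := fun j => (cα α (tf hn j)).comp βh
    have Kla : ∀ s, K (la s) = α s := fun s => by simp [K, la]
    have Klb : ∀ c, K (lb c) = βh c := fun c => by simp [K, lb, βh]
    have Kbw : ∀ j c, K (bw hn j c) = β j c := fun j c => by
      simp only [bw, map_mul, map_inv, Kla, Klb]; rfl
    have KXw : ∀ s, K (Xw s) = cα α s (K xw) := fun s => by
      simp only [Xw, map_mul, map_inv, Kla]; rfl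
    have hall : ∀ (φ : SL(2, F) →* Γ) (z : Γ), Commute (φ a₁) z → Commute (φ a₂) z →
        ∀ c, Commute (φ c) z := fun φ z h1 h2 c =>
      commute_of_pair φ h1 h2 (by rw [hab]; exact Subgroup.mem_top c)
    have hstab : ∀ s : A, (s : Perm (Fin n)) (i0 hn) = i0 hn → ∀ c, Commute (α s) (βh c) := by
      intro s hs c
      have hs' : s ∈ Subgroup.closure ({s₁, s₂} : Set A) := hsgen s fun y hy => by
        simp at hy; subst hy; exact hs
      refine commute_of_pair α ?_ ?_ hs' <;> refine (hall βh _ ?_ ?_ c).symm <;>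
        rw [← Kla, ← Klb] <;> exact (kc _ _ (by simp [E])).symm
    obtain ⟨hβ0, hβ⟩ : (∀ c, β (i0 hn) c = βh c) ∧
        ∀ (σ : A) j c, cα α σ (β j c) = β ((σ : Perm (Fin n)) j) c := frame_beta hn α βh hstab
    have hss : ∀ a c, Commute (βh a) (β (i1 hn) c) := fun a c => by
      refine hall βh _ ?_ ?_ a <;> refine (hall (β (i1 hn)) _ ?_ ?_ c).symm <;>
        rw [← Klb, ← Kbw] <;> exact (kc _ _ (by simp [E])).symm
    obtain ⟨⟨D, D', e0, e1, eX, e0', e1', eX'⟩, hdeg⟩ := hLocF Γ K βh (β (i1 hn)) Klb (Kbw _) hss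
      fun r hr => hk r (by simp [E, hr])
    let P : Frame F hn Γ :=
      { α := α, β := β, D := D, D' := D'
        hD0 := MonoidHom.ext fun c => by rw [e0, hβ0]
        hD1 := e1
        hD'0 := by rw [e0', e1]
        hD'1 := by rw [e1', e0]
        hX1 := by rw [eX', eX]
        hβ := hβ
        hst := fun σ h0 h1 => by
          rw [eX]
          have hs' : σ ∈ Subgroup.closure ({r₁, r₂} : Set A) := hrgen σ fun y hy => by
            simp only [Finset.mem_erase, Finset.mem_univ, and_true, not_and, not_not] at hy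
            by_cases hy1 : y = i1 hn
            · rw [hy1]; exact h1
            · rw [hy hy1]; exact h0
          refine commute_of_pair α ?_ ?_ hs' <;> rw [← Kla] <;> exact kc _ _ (by simp [E])
        hfar := fun k hk' c => by
          rw [eX]
          rcases hk' with rfl | rfl <;> refine hall _ _ ?_ ?_ c <;> rw [← Kbw] <;>
            exact kc _ _ (by simp [E])
        hmm := fun q hq => by
          rw [eX, ← KXw]
          exact kc _ _ (List.mem_append.2 (Or.inl (List.mem_append.2 (Or.inr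
            (List.mem_map.2 ⟨q, hq, rfl⟩)))))
        hdeg := hdeg.imp_right fun ⟨h2, h⟩ => ⟨h2, fun a ha => by
          obtain ⟨hA, hB'⟩ := h a ha
          rw [map_degA, KXw, KXw, Kbw, Kbw] at hA
          rw [map_degB, KXw, KXw, Kbw, Kbw, Kbw] at hB'
          rw [eX]
          exact ⟨hA, hB'⟩⟩ }
    exact ⟨P, rfl, hβ0, by show D.X (ofAdd 1) = _; rw [eX]; simp [K, xw]⟩

/-- The symplectic groups of dimension at least six. -/
theorem sp_glue [Fintype F] (hn : 3 ≤ n) : Bounded (Sp F n) 77 :=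
  let ⟨κ, hκ⟩ := bounded_iff.1 (alt_bounded n (by omega))
  bounded_iff.2 ⟨κ ⊕ (Fin 3 ⊕ Unit), sp_glue_on hn hκ⟩

end CfsgLib.Presentations.SpPres
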