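/-
Fewer relations for the symplectic groups of dimension at least twelve.
-/
import Cfsg.Agent.Lib.Presentations.SpGlue

set_option autoImplicit false

namespace CfsgLib.Presentations.SpPres

open CfsgLib.Chev.CT.SpAm
open CfsgLib.SL2Pres (xHom hDiag wEl cj polyWord map_cj map_polyWord)
open Multiplicative (ofAdd toAdd)
open Polynomial
open Equiv Equiv.Perm
open scoped MatrixGroups

universe u v w

variable {F : Type u} [Field F] {n : ℕ}

/-- An even permutation preserving the first pair. -/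
def KeepsPair (hn : 3 ≤ n) (s : alternatingGroup (Fin n)) : Prop :=
  ((s : Perm (Fin n)) (i0 hn) = i0 hn ∧ (s : Perm (Fin n)) (i1 hn) = i1 hn) ∨
    ((s : Perm (Fin n)) (i0 hn) = i1 hn ∧ (s : Perm (Fin n)) (i1 hn) = i0 hn)

theorem sym_two_generated (Ω : Type) [Fintype Ω] [DecidableEq Ω] (h : 2 ≤ Fintype.card Ω) :
    ∃ a b : Perm Ω, Subgroup.closure ({a, b} : Set (Perm Ω)) = ⊤ := by
  obtain ⟨m, hm⟩ : ∃ m, Fintype.card Ω = m + 2 := ⟨_, (Nat.sub_add_cancel h).symm⟩
  let e : Perm (Fin (m + 2)) ≃* Perm Ω := Equiv.permCongrHom ((finCongr hm.symm).trans (Fintype.equivFin Ω).symm)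
  refine ⟨e (finRotate (m + 2)), e (swap 0 (finRotate (m + 2) 0)), ?_⟩
  have h1 := congrArg (Subgroup.map e.toMonoidHom)
    (closure_cycle_adjacent_swap (isCycle_finRotate (n := m)) support_finRotate 0)
  rw [MonoidHom.map_closure, Set.image_pair, Subgroup.map_top_of_surjective _ e.surjective] at h1
  exact h1

/-- Two elements generate the stabiliser of the first pair. -/
theorem pair_stab_gens (hn : 3 ≤ n) (h4 : 4 ≤ n) :
    ∃ a b : alternatingGroup (Fin n), KeepsPair hn a ∧ KeepsPair hn b ∧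
      ∀ h, KeepsPair hn h → h ∈ Subgroup.closure ({a, b} : Set (alternatingGroup (Fin n))) := by
  classical
  have h01 := i01 hn
  set S : Finset (Fin n) := (Finset.univ.erase (i0 hn)).erase (i1 hn) with hS
  have hmem : ∀ x, x ∈ S ↔ x ≠ i1 hn ∧ x ≠ i0 hn := fun x => by simp [hS]
  let T := {x // x ∈ S}
  let sw : ℤˣ →* Perm (Fin n) :=
    { toFun := fun u => if u = 1 then 1 else swap (i0 hn) (i1 hn)
      map_one' := if_pos rfl
      map_mul' := fun u v => by
        rcases Int.units_eq_one_or u with rfl | rfl <;> rcases Int.units_eq_one_or v with rfl | rfl <;>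
          simp }
  have hcomm : ∀ (s : Perm T) (u : ℤˣ), Commute (Equiv.Perm.ofSubtype s) (sw u) := fun s u => by
    refine Disjoint.commute fun x => ?_
    by_cases hx : x ∈ S
    · refine Or.inr ?_
      show (if u = 1 then (1 : Perm (Fin n)) else swap (i0 hn) (i1 hn)) x = x
      split
      · rfl
      · exact swap_apply_of_ne_of_ne ((hmem x).1 hx).2 ((hmem x).1 hx).1
    · exact Or.inl (Equiv.Perm.ofSubtype_apply_of_not_mem _ hx)
  let φ : Perm T →* alternatingGroup (Fin n) :=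
    { toFun := fun s => ⟨Equiv.Perm.ofSubtype s * sw (sign s), by
        rw [Equiv.Perm.mem_alternatingGroup, map_mul, sign_ofSubtype]
        rcases Int.units_eq_one_or (sign s) with e | e <;> simp [e, sw, h01]⟩
      map_one' := by ext1; simp
      map_mul' := fun s s' => by
        ext1
        simp only [map_mul, Subgroup.coe_mul]
        exact (hcomm s' (sign s)).mul_mul_mul_comm _ _ }
  have hφ0 : ∀ s x, x ∉ S → (φ s : Perm (Fin n)) x = Equiv.Perm.ofSubtype s (sw (sign s) x) :=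
    fun s x _ => rfl
  have hkeep : ∀ s, KeepsPair hn (φ s) := fun s => by
    have f0 : i0 hn ∉ S := fun h => ((hmem _).1 h).2 rfl
    have f1 : i1 hn ∉ S := fun h => ((hmem _).1 h).1 rfl
    rcases Int.units_eq_one_or (sign s) with e | e
    · refine Or.inl ⟨?_, ?_⟩ <;> rw [hφ0 _ _ (by assumption), e] <;>
        simp only [map_one, Perm.one_apply] <;> exact Equiv.Perm.ofSubtype_apply_of_not_mem _ (by assumption)
    · have e' : sw (-1) = swap (i0 hn) (i1 hn) := by simp [sw]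
      refine Or.inr ⟨?_, ?_⟩ <;> rw [hφ0 _ _ (by assumption), e, e']
      · rw [swap_apply_left]; exact Equiv.Perm.ofSubtype_apply_of_not_mem _ f1
      · rw [swap_apply_right]; exact Equiv.Perm.ofSubtype_apply_of_not_mem _ f0
  have hsurj : ∀ h, KeepsPair hn h → h ∈ φ.range := by
    intro h hh
    -- the part outside the pair
    obtain ⟨π, hπ, hπfix⟩ : ∃ π : Perm (Fin n), (h : Perm (Fin n)) = π * sw (sign π) ∧
        ∀ x, π x ≠ x → x ∈ S := by
      rcases hh with ⟨e0, e1⟩ | ⟨e0, e1⟩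
      · refine ⟨h, ?_, fun x hx => (hmem x).2 ⟨fun e => hx (e ▸ e1), fun e => hx (e ▸ e0)⟩⟩
        rw [Equiv.Perm.mem_alternatingGroup.1 h.2, map_one, mul_one]
      · refine ⟨(h : Perm (Fin n)) * swap (i0 hn) (i1 hn), ?_, fun x hx => (hmem x).2 ⟨?_, ?_⟩⟩
        · rw [map_mul, Equiv.Perm.mem_alternatingGroup.1 h.2, sign_swap h01, one_mul,
            show sw (-1) = swap (i0 hn) (i1 hn) by simp [sw], mul_assoc, swap_mul_self,
            mul_one]
        · rintro rfl; exact hx (by rw [Perm.mul_apply, swap_apply_right, e0])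
        · rintro rfl; exact hx (by rw [Perm.mul_apply, swap_apply_left, e1])
    have hiff : ∀ x, π x ∈ S ↔ x ∈ S := by
      intro x
      by_cases e : π x = x
      · rw [e]
      · exact iff_of_true (hπfix _ fun e' => e (π.injective e')) (hπfix x e)
    have e : Equiv.Perm.ofSubtype (π.subtypePerm hiff) = π :=
      Equiv.Perm.ofSubtype_subtypePerm hiff hπfix
    refine ⟨π.subtypePerm hiff, Subtype.ext ?_⟩
    show Equiv.Perm.ofSubtype (π.subtypePerm hiff) * sw (sign (π.subtypePerm hiff)) = _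
    rw [← sign_ofSubtype, e, hπ]
  obtain ⟨a, b, hab⟩ := sym_two_generated T (by
    show 2 ≤ Fintype.card {x // x ∈ S}
    rw [Fintype.card_coe, hS, Finset.card_erase_of_mem (by simp [h01.symm]),
      Finset.card_erase_of_mem (by simp), Finset.card_univ, Fintype.card_fin]
    omega)
  refine ⟨φ a, φ b, hkeep a, hkeep b, fun h hh => ?_⟩
  obtain ⟨s, rfl⟩ := hsurj h hh
  rw [show ({φ a, φ b} : Set (alternatingGroup (Fin n))) = φ '' {a, b} by rw [Set.image_pair],
    ← MonoidHom.map_closure, hab]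
  exact ⟨s, trivial, rfl⟩

set_option maxHeartbeats 400000 in
/-- The relations depending on the field, an involution exchanging the first pair being given. -/
theorem exists_loc_sym [Fintype F] (hn : 3 ≤ n) :
    ∃ Loc : List (Wrd F n), Loc.length ≤ 8 ∧
      (∀ r ∈ Loc, Lm hn r = 1) ∧ ∀ (Γ : Type) [Group Γ] (K : Wrd F n →* Γ)
        (β0 β1 : SL(2, F) →* Γ) (c : Γ →* Γ), (∀ g, K (lb g) = β0 g) →
        (∀ g, K (bw hn (i1 hn) g) = β1 g) → (∀ a b, Commute (β0 a) (β1 b)) →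
        c.comp β0 = β1 → c.comp β1 = β0 → c (K xw) = K xw → (∀ r ∈ Loc, K r = 1) →
        (∃ D D' : Local F Γ, D.β0 = β0 ∧ D.β1 = β1 ∧ D.X (ofAdd 1) = K xw ∧
          D'.β0 = β1 ∧ D'.β1 = β0 ∧ D'.X (ofAdd 1) = K xw) ∧
        ((∃ c : F, c ≠ 0 ∧ c ≠ 1) ∨ ((2 : F) = 0 ∧ ∀ a, a = i0 hn →
          K (degA (Xw (F := F) (pp hn a (nx a))) (Xw (pp hn (nx a) (nx (nx a))))
            (bw hn (nx a) (wEl F)) (bw hn (nx (nx a)) (wEl F))) = 1 ∧
          K (degB (Xw (F := F) (pp hn a (nx a))) (Xw (pp hn (nx a) (nx (nx a))))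
            (bw hn a (wEl F)) (bw hn (nx a) (wEl F)) (bw hn (nx (nx a)) (wEl F))) = 1)) := by
  classical
  obtain ⟨p, hp⟩ := CharP.exists F
  have : Fact p.Prime := ⟨CharP.char_is_prime F p⟩
  let _ : Algebra (ZMod p) F := ZMod.algebra F p
  have h01 : i0 hn ≠ i1 hn := i01 hn
  have pnx : ∀ i : Fin n, (i : ℕ) + 1 < n → (pp hn i (nx i) : Perm (Fin n)) (i0 hn) = i ∧
      (pp hn i (nx i) : Perm (Fin n)) (i1 hn) = nx i := fun i hi =>
    pp_spec hn (ex_next hn (nx_val hi))
  have hx0 : (Lm hn) ∘ (lb : SL(2, F) → Wrd F n) = g2 (i0 hn) := funext (Lm_lb hn)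
  have hx1 : (Lm hn) ∘ bw (F := F) hn (i1 hn) = g2 (i1 hn) := funext (Lm_bw hn _)
  obtain ⟨hu0, -, hh, hp'⟩ := model_core (F := F) h01
  have mH : (Lm hn) (relH (F := F) (lb (n := n)) (bw hn (i1 hn)) xw) = 1 := by
    rw [map_relH, hx0, hx1, Lm_xw, relH, mul_inv_eq_one]; exact hh
  have mU : (Lm hn) (relU (F := F) (lb (n := n)) (bw hn (i1 hn)) xw) = 1 := by
    rw [map_relU, hx0, hx1, Lm_xw, relU, mul_inv_eq_one]; exact hp'
  have mu0 : (Lm hn) (cw (lb (xHom F (ofAdd 1))) xw) = 1 := (cw_eq_one _ _ _).2 (by rw [Lm_lb, Lm_xw]; exact hu0)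
  by_cases h3 : 3 ≤ Fintype.card F
  · obtain ⟨t, ht, hord⟩ := CfsgLib.SL2Pres.exists_gen F
    have hspan := span_sq ht
    obtain ⟨q, hq0, hqker⟩ := CfsgLib.SL2Pres.poly_ker (p := p) (t : F)
    have ht1 : (t : F) - 1 ≠ 0 := sub_ne_zero.2 fun e => by
      rw [Units.val_eq_one.1 e, orderOf_one] at hord; omega
    obtain ⟨b, hb'⟩ := ht (Units.mk0 _ ht1)
    have hb : (t : F) = (t : F) ^ b + 1 := by
      rw [← Units.val_pow_eq_pow_val, hb', Units.val_mk0, sub_add_cancel]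
    have hex : ∃ c : F, c ≠ 0 ∧ c ≠ 1 := ⟨t, t.ne_zero, sub_ne_zero.1 ht1⟩
    have M := model_seed' (p := p) (F := F) h01 hb hq0
    let hh0 : Wrd F n := lb (hDiag t)
    let hh1 := bw hn (i1 hn) (hDiag t)
    refine ⟨[cj hh0 xw 1 * (cj hh0 xw (b : ℤ) * xw)⁻¹, cw xw (cj hh0 xw 1), polyWord hh0 xw 1 q,
      xw ^ p, hh1 * xw * hh1⁻¹ * (hh0 * xw * hh0⁻¹)⁻¹, cw (lb (xHom F (ofAdd 1))) xw,
      relH (F := F) (lb (n := n)) (bw hn (i1 hn)) xw,
      relU (F := F) (lb (n := n)) (bw hn (i1 hn)) xw], le_rfl, ?_, ?_⟩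
    · have L0 : (Lm hn) hh0 = g2 (i0 hn) (hDiag t) := Lm_lb hn _
      have L1 : (Lm hn) hh1 = g2 (i1 hn) (hDiag t) := Lm_bw hn _ _
      intro r hr
      simp only [List.mem_cons, List.not_mem_nil, or_false] at hr
      rcases hr with rfl | rfl | rfl | rfl | rfl | rfl | rfl | rfl
      · simp only [map_mul, map_inv, map_cj, L0, Lm_xw, M.tri, mul_inv_cancel]
      · exact (cw_eq_one _ _ _).2 (by rw [map_cj, L0, Lm_xw]; exact M.self)
      · rw [map_polyWord, L0, Lm_xw, M.poly]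
      · rw [map_pow, Lm_xw, M.pow]
      · simp only [map_mul, map_inv, L0, L1, Lm_xw, M.h1, mul_inv_cancel]
      exacts [mu0, mH, mU]
    · intro Γ _ K β0 β1 c k0 k1 hc hc0 hc1 hcx hK
      have kc : ∀ a c, K (cw a c) = 1 → Commute (K a) (K c) := fun a c => (cw_eq_one K a c).1
      have K0 : K hh0 = β0 (hDiag t) := k0 _
      have K1 : K hh1 = β1 (hDiag t) := k1 _
      simp only [List.forall_mem_cons, List.forall_mem_nil, and_true, map_mul, map_inv, map_cj,
        map_polyWord, map_pow, K0, K1, k0, k1, relH, relU, mul_inv_eq_one] at hK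
      obtain ⟨q1, q3, q5, q7, q8, q9, q11, q12, -⟩ := hK
      have s3 : Commute (K xw) (cj (β0 (hDiag t)) (K xw) 1) := by
        rw [← K0, ← map_cj]; exact kc _ _ (by simpa [map_cj] using q3)
      have s9 : Commute (β0 (xHom F (ofAdd 1))) (K xw) := by
        rw [← k0]; exact kc _ _ (by simpa using q9)
      have s10 : Commute (β1 (xHom F (ofAdd 1))) (K xw) := by
        have := s9.map c
        rwa [hcx, ← MonoidHom.comp_apply, hc0] at this
      obtain ⟨D, e0, e1, eX⟩ := Seed.exists_local (F := F)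
        (⟨hc, q1, s3, q7, q5, q8, s9, s10, q11, q12⟩ : Seed t β0 β1 (K xw) p b q) ht hspan hqker
      refine ⟨⟨D, D.push c, e0, e1, eX, ?_, ?_, ?_⟩, Or.inl hex⟩
      · show c.comp D.β0 = β1
        rw [e0, hc0]
      · show c.comp D.β1 = β0
        rw [e1, hc1]
      · show c (D.X (ofAdd 1)) = K xw
        rw [eX, hcx]
  · obtain ⟨hF01, h2⟩ := small_field h3
    refine ⟨[xw * xw, cw (lb (xHom F (ofAdd 1))) xw,
      relH (F := F) (lb (n := n)) (bw hn (i1 hn)) xw, relU (F := F) (lb (n := n)) (bw hn (i1 hn)) xw,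
      degA (Xw (pp hn (i0 hn) (nx (i0 hn)))) (Xw (pp hn (nx (i0 hn)) (nx (nx (i0 hn)))))
        (bw hn (nx (i0 hn)) (wEl F)) (bw hn (nx (nx (i0 hn))) (wEl F)),
      degB (Xw (pp hn (i0 hn) (nx (i0 hn)))) (Xw (pp hn (nx (i0 hn)) (nx (nx (i0 hn)))))
        (bw hn (i0 hn) (wEl F)) (bw hn (nx (i0 hn)) (wEl F)) (bw hn (nx (nx (i0 hn))) (wEl F))],
      by simp only [List.length_cons, List.length_nil]; omega, ?_, ?_⟩
    · have v1 := nx_val (i := i0 hn) (by simp [i0]; omega)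
      have hb1 : ((nx (i0 hn) : Fin n) : ℕ) + 1 < n := by rw [v1]; simp [i0]; omega
      have v2 := nx_val hb1
      obtain ⟨-, -, mA, mB⟩ := deg_acts (F := F) h2 (i := i0 hn) (j := nx (i0 hn))
        (l := nx (nx (i0 hn)))
        (fun e => by have := congrArg Fin.val e; omega)
        (fun e => by have := congrArg Fin.val e; omega)
        (fun e => by have := congrArg Fin.val e; omega)
      obtain ⟨x1, x2⟩ := pnx (i0 hn) (by simp [i0]; omega)
      obtain ⟨y1, y2⟩ := pnx (nx (i0 hn)) hb1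
      intro r hr
      simp only [List.mem_cons, List.not_mem_nil, or_false] at hr
      rcases hr with rfl | rfl | rfl | rfl | rfl | rfl
      · rw [map_mul, Lm_xw, rX_add h01, one_add_one_eq_two, h2]; simp [rX]
      · exact mu0
      · exact mH
      · exact mU
      · simp only [map_degA, Lm_Xw, Lm_bw, x1, x2, y1, y2]; exact mA
      · simp only [map_degB, Lm_Xw, Lm_bw, x1, x2, y1, y2]; exact mB
    · intro Γ _ K β0 β1 c k0 k1 hc hc0 hc1 hcx hK
      have kc : ∀ a c, K (cw a c) = 1 → Commute (K a) (K c) := fun a c => (cw_eq_one K a c).1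
      simp only [List.forall_mem_cons, List.forall_mem_nil, and_true] at hK
      obtain ⟨q1, q2, q4, q5, q8, q9, -⟩ := hK
      rw [map_mul] at q1
      simp only [map_mul, map_inv, k0, k1, relH, relU, mul_inv_eq_one] at q4 q5
      have s2 : Commute (β0 (xHom F (ofAdd 1))) (K xw) := by rw [← k0]; exact kc _ _ q2
      have s3 : Commute (β1 (xHom F (ofAdd 1))) (K xw) := by
        have := s2.map c
        rwa [hcx, ← MonoidHom.comp_apply, hc0] at this
      obtain ⟨D, e0, e1, eX⟩ := exists_local_two hF01 h2 β0 β1 (K xw) hc q1 s2 s3 q4 q5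
      refine ⟨⟨D, D.push c, e0, e1, eX, ?_, ?_, ?_⟩, Or.inr ⟨h2, ?_⟩⟩
      · show c.comp D.β0 = β1
        rw [e0, hc0]
      · show c.comp D.β1 = β0
        rw [e1, hc1]
      · show c (D.X (ofAdd 1)) = K xw
        rw [eX, hcx]
      · rintro a rfl
        exact ⟨q8, q9⟩

set_option maxHeartbeats 600000 in
/-- With twelve or more coordinates twenty-three relations join the three pieces. -/
theorem sp_glue_sym [Fintype F] (hn : 3 ≤ n) (h6 : 6 ≤ n) {κ : Type} {k : ℕ}
    (hA : BoundedOn (alternatingGroup (Fin n)) κ k) :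
    BoundedOn (Sp F n) (κ ⊕ (Fin 3 ⊕ Unit)) (k + 9 + 23) := by
  classical
  obtain ⟨a₁, a₂, hab⟩ := exists_pair (F := F)
  obtain ⟨s₁, s₂, hsfix, hsgen⟩ := stab_gens (Finset.univ.erase (i0 hn))
  obtain ⟨r₁, r₂, hr₁, hr₂, hrgen⟩ := pair_stab_gens hn (by omega)
  let A := ↥(alternatingGroup (Fin n))
  let B := Monoid.Coprod SL(2, F) (FreeGroup Unit)
  have h01 : i0 hn ≠ i1 hn := i01 hn
  have hsne : ∀ s : A, (s : Perm (Fin n)) (i0 hn) ≠ (s : Perm (Fin n)) (i1 hn) := fun s =>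
    (s : Perm (Fin n)).injective.ne h01
  obtain ⟨Loc, hLoc, hLocT, hLocF⟩ := exists_loc_sym (F := F) hn
  let E : List (Wrd F n) :=
    [cw (la s₁) (lb a₁), cw (la s₁) (lb a₂), cw (la s₂) (lb a₁), cw (la s₂) (lb a₂),
      cw (lb a₁) (bw hn (i1 hn) a₁), cw (lb a₁) (bw hn (i1 hn) a₂),
      cw (lb a₂) (bw hn (i1 hn) a₂), cw (la r₁) xw, cw (la r₂) xw,
      cw (bw hn (i2 hn) a₁) xw, cw (bw hn (i2 hn) a₂) xw,
      cw xw (Xw (pp hn (i1 hn) (i2 hn))), cw xw (Xw (pp hn (i2 hn) (i3 hn)))] ++ Loc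
  refine (sp_glue_core hn hA E ?_ ?_).mono
    (by simp only [E, List.length_append, List.length_cons, List.length_nil]; omega)
  · intro r hr
    simp only [E, List.mem_append, List.mem_cons, List.not_mem_nil, or_false] at hr
    have hst : ∀ s, (s = s₁ ∨ s = s₂) → ∀ c, Commute ((Lm hn) (la (F := F) s)) ((Lm hn) (lb c)) := fun s hs c => by
      rw [Lm_la, Lm_lb]
      have h := perm_g2 (F := F) (s : Perm (Fin n)) (i0 hn) c
      have e : (s : Perm (Fin n)) (i0 hn) = i0 hn := by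
        rcases hs with rfl | rfl
        exacts [(hsfix _ (by simp)).1, (hsfix _ (by simp)).2]
      rw [e, mul_inv_eq_iff_eq_mul] at h
      exact h
    have hrx : ∀ s, KeepsPair hn s → Commute ((Lm hn) (la (F := F) s)) ((Lm hn) xw) := fun s hs => by
      rw [Lm_la, Lm_xw]
      have h := perm_rX (F := F) (s : Perm (Fin n)) (i0 hn) (i1 hn) 1
      rcases hs with ⟨e0, e1⟩ | ⟨e0, e1⟩
      · rw [e0, e1, mul_inv_eq_iff_eq_mul] at h; exact h
      · rw [e0, e1, ← rX_symm h01, mul_inv_eq_iff_eq_mul] at h; exact h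
    have hms : ∀ c, Commute ((Lm hn) (bw (F := F) hn (i2 hn) c)) ((Lm hn) xw) := fun c => by
      rw [Lm_bw, Lm_xw]
      exact g2_rX_commute h01 (by simp [i0, i2, Fin.ext_iff]) (by simp [i1, i2, Fin.ext_iff]) c 1
    rcases hr with (rfl | rfl | rfl | rfl | rfl | rfl | rfl | rfl | rfl | rfl | rfl | rfl | rfl) | hr
    · exact (cw_eq_one _ _ _).2 (hst _ (Or.inl rfl) _)
    · exact (cw_eq_one _ _ _).2 (hst _ (Or.inl rfl) _)
    · exact (cw_eq_one _ _ _).2 (hst _ (Or.inr rfl) _)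
    · exact (cw_eq_one _ _ _).2 (hst _ (Or.inr rfl) _)
    · exact (cw_eq_one _ _ _).2 (by rw [Lm_lb, Lm_bw]; exact g2_commute h01 _ _)
    · exact (cw_eq_one _ _ _).2 (by rw [Lm_lb, Lm_bw]; exact g2_commute h01 _ _)
    · exact (cw_eq_one _ _ _).2 (by rw [Lm_lb, Lm_bw]; exact g2_commute h01 _ _)
    · exact (cw_eq_one _ _ _).2 (hrx _ hr₁)
    · exact (cw_eq_one _ _ _).2 (hrx _ hr₂)
    · exact (cw_eq_one _ _ _).2 (hms _)
    · exact (cw_eq_one _ _ _).2 (hms _)
    · exact (cw_eq_one _ _ _).2 (by rw [Lm_xw, Lm_Xw]; exact rX_commute h01 (hsne _) _ _)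
    · exact (cw_eq_one _ _ _).2 (by rw [Lm_xw, Lm_Xw]; exact rX_commute h01 (hsne _) _ _)
    · exact hLocT r hr
  · intro Γ _ α βB hE
    let K := FreeGroup.lift (Sum.elim (α : A → Γ) (βB : B → Γ))
    have hk : ∀ r ∈ E, K r = 1 := hE
    have kc : ∀ a c, cw a c ∈ E → Commute (K a) (K c) := fun a c h => by
      exact (cw_eq_one _ _ _).1 (hk _ h)
    let βh : SL(2, F) →* Γ := βB.comp Monoid.Coprod.inl
    let β : Fin n → SL(2, F) →* Γ := fun j => (cα α (tf hn j)).comp βh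
    have Kla : ∀ s, K (la s) = α s := fun s => by simp [K, la]
    have Klb : ∀ c, K (lb c) = βh c := fun c => by simp [K, lb, βh]
    have Kbw : ∀ j c, K (bw hn j c) = β j c := fun j c => by
      simp only [bw, map_mul, map_inv, Kla, Klb]; rfl
    have KXw : ∀ s, K (Xw s) = cα α s (K xw) := fun s => by
      simp only [Xw, map_mul, map_inv, Kla]; rfl
    have hall : ∀ (φ : SL(2, F) →* Γ) (z : Γ), Commute (φ a₁) z → Commute (φ a₂) z →
        ∀ c, Commute (φ c) z := fun φ z h1 h2 c =>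
      commute_of_pair φ h1 h2 (by rw [hab]; exact Subgroup.mem_top c)
    obtain ⟨hβ0, hβ⟩ : (∀ c, β (i0 hn) c = βh c) ∧
        ∀ (σ : A) j c, cα α σ (β j c) = β ((σ : Perm (Fin n)) j) c := frame_beta hn α βh (by
      intro s hs c
      have hs' : s ∈ Subgroup.closure ({s₁, s₂} : Set A) := hsgen s fun y hy => by
        simp at hy; subst hy; exact hs
      refine commute_of_pair α ?_ ?_ hs' <;> refine (hall βh _ ?_ ?_ c).symm <;>
        rw [← Kla, ← Klb] <;> exact (kc _ _ (by simp [E])).symm)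
    have hkeep : ∀ σ, KeepsPair hn σ → cα α σ (K xw) = K xw := fun σ hσ => by
      have h : Commute (α σ) (K xw) := by
        refine commute_of_pair α ?_ ?_ (hrgen σ hσ) <;> rw [← Kla] <;> exact kc _ _ (by simp [E])
      rw [cα_apply, h.eq, mul_inv_cancel_right]
    obtain ⟨τ, hτ⟩ := ext_even (k := 2) (by omega) ![i0 hn, i1 hn] ![i1 hn, i0 hn]
      (by intro x y; fin_cases x <;> fin_cases y <;> simp [i01 hn, (i01 hn).symm])
      (by intro x y; fin_cases x <;> fin_cases y <;> simp [i01 hn, (i01 hn).symm])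
    have hτ0 : (τ : Perm (Fin n)) (i0 hn) = i1 hn := hτ 0
    have hτ1 : (τ : Perm (Fin n)) (i1 hn) = i0 hn := hτ 1
    have hss : ∀ a c, Commute (βh a) (β (i1 hn) c) := fun a c => by
      have p11 : Commute (βh a₁) (β (i1 hn) a₁) := by rw [← Klb, ← Kbw]; exact kc _ _ (by simp [E])
      have p12 : Commute (βh a₁) (β (i1 hn) a₂) := by rw [← Klb, ← Kbw]; exact kc _ _ (by simp [E])
      have p22 : Commute (βh a₂) (β (i1 hn) a₂) := by rw [← Klb, ← Kbw]; exact kc _ _ (by simp [E])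
      have p21 : Commute (βh a₂) (β (i1 hn) a₁) := by
        have := p12.map (cα α τ)
        rw [← hβ0, hβ, hβ, hτ0, hτ1, hβ0] at this
        exact this.symm
      exact hall βh _ (hall (β (i1 hn)) _ p11.symm p12.symm c).symm
        (hall (β (i1 hn)) _ p21.symm p22.symm c).symm a
    obtain ⟨⟨D, D', e0, e1, eX, e0', e1', eX'⟩, hdeg⟩ := hLocF Γ K βh (β (i1 hn)) (cα α τ) Klb (Kbw _)
      hss (MonoidHom.ext fun c => by rw [MonoidHom.comp_apply, ← hβ0, hβ, hτ0])
      (MonoidHom.ext fun c => by rw [MonoidHom.comp_apply, hβ, hτ1, hβ0])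
      (hkeep τ (Or.inr ⟨hτ0, hτ1⟩)) fun r hr => hk r (by simp [E, hr])
    have hfix : ∀ σ : A, (σ : Perm (Fin n)) (i0 hn) = i0 hn → (σ : Perm (Fin n)) (i1 hn) = i1 hn →
        cα α σ (K xw) = K xw := fun σ h0 h1 => hkeep σ (Or.inl ⟨h0, h1⟩)
    have hXeq : ∀ σ ρ : A, (σ : Perm (Fin n)) (i0 hn) = (ρ : Perm (Fin n)) (i0 hn) →
        (σ : Perm (Fin n)) (i1 hn) = (ρ : Perm (Fin n)) (i1 hn) →
        cα α σ (K xw) = cα α ρ (K xw) := fun σ ρ h0 h1 => by
      have e : ∀ i, (σ : Perm (Fin n)) i = (ρ : Perm (Fin n)) i →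
          ((ρ⁻¹ * σ : A) : Perm (Fin n)) i = i := fun i h => by
        show (ρ : Perm (Fin n))⁻¹ ((σ : Perm (Fin n)) i) = i
        rw [h]; exact (ρ : Perm (Fin n)).symm_apply_apply i
      conv_rhs => rw [← hfix (ρ⁻¹ * σ) (e _ h0) (e _ h1), ← cα_mul, mul_inv_cancel_left]
    have v3 : (i3 hn : ℕ) = 3 := by simp [i3]; omega
    have hpp : ∀ a b : Fin n, a ≠ b → (pp hn a b : Perm (Fin n)) (i0 hn) = a ∧
        (pp hn a b : Perm (Fin n)) (i1 hn) = b := fun a b hne => by
      obtain ⟨σ, hσ⟩ := ext_even (k := 2) (by omega) ![i0 hn, i1 hn] ![a, b]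
        (by intro x y; fin_cases x <;> fin_cases y <;> simp [i01 hn, (i01 hn).symm])
        (by intro x y; fin_cases x <;> fin_cases y <;> simp [hne, hne.symm])
      exact pp_spec hn ⟨σ, hσ 0, hσ 1⟩
    have hfar2 : ∀ c, Commute (β (i2 hn) c) (K xw) := fun c => by
      refine hall _ _ ?_ ?_ c <;> rw [← Kbw] <;> exact kc _ _ (by simp [E])
    have hmm0 : ∀ a b, (a = i1 hn ∧ b = i2 hn ∨ a = i2 hn ∧ b = i3 hn) →
        Commute (K xw) (cα α (pp hn a b) (K xw)) := by
      rintro a b (⟨rfl, rfl⟩ | ⟨rfl, rfl⟩) <;> rw [← KXw] <;> exact kc _ _ (by simp [E])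
    let P : Frame F hn Γ :=
      { α := α, β := β, D := D, D' := D'
        hD0 := MonoidHom.ext fun c => by rw [e0, hβ0]
        hD1 := e1
        hD'0 := by rw [e0', e1]
        hD'1 := by rw [e1', e0]
        hX1 := by rw [eX', eX]
        hβ := hβ
        hst := fun σ h0 h1 => by
          rw [eX]
          exact mul_inv_eq_iff_eq_mul.1 (hfix σ h0 h1)
        hfar := fun k hk' c => by
          rw [eX]
          obtain ⟨π, hπ⟩ := ext_even (k := 3) (by omega) ![i0 hn, i1 hn, i2 hn] ![i0 hn, i1 hn, k]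
            (by intro x y; fin_cases x <;> fin_cases y <;> simp [i0, i1, i2, Fin.ext_iff])
            (by
              intro x y
              rcases hk' with rfl | rfl <;> fin_cases x <;> fin_cases y <;>
                simp [i0, i1, i2, iL, Fin.ext_iff] <;> omega)
          have := (hfar2 c).map (cα α π)
          rwa [hβ, show (π : Perm (Fin n)) (i2 hn) = k from hπ 2, hfix π (hπ 0) (hπ 1)] at this
        hmm := fun q hq => by
          rw [eX]
          obtain ⟨a, b, hab', π, hπ⟩ : ∃ a b, (a = i1 hn ∧ b = i2 hn ∨ a = i2 hn ∧ b = i3 hn) ∧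
              ∃ π : A, (π : Perm (Fin n)) (i0 hn) = i0 hn ∧ (π : Perm (Fin n)) (i1 hn) = i1 hn ∧
                (π : Perm (Fin n)) a = q.1 ∧ (π : Perm (Fin n)) b = q.2 := by
            simp only [List.mem_cons, List.not_mem_nil, or_false] at hq
            have hi : Function.Injective ![i0 hn, i1 hn, i2 hn, i3 hn] := by
              intro x y; fin_cases x <;> fin_cases y <;> simp [i0, i1, i2, Fin.ext_iff, v3]
            rcases hq with rfl | rfl | rfl | rfl
            · exact ⟨_, _, Or.inl ⟨rfl, rfl⟩, 1, rfl, rfl, rfl, rfl⟩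
            · obtain ⟨π, hπ⟩ := ext_even (k := 3) (by omega) ![i0 hn, i1 hn, i2 hn] ![i0 hn, i1 hn, iL hn]
                (by intro x y; fin_cases x <;> fin_cases y <;> simp [i0, i1, i2, Fin.ext_iff])
                (by intro x y; fin_cases x <;> fin_cases y <;> simp [i0, i1, iL, Fin.ext_iff] <;> omega)
              exact ⟨_, _, Or.inl ⟨rfl, rfl⟩, π, hπ 0, hπ 1, hπ 1, hπ 2⟩
            · exact ⟨_, _, Or.inr ⟨rfl, rfl⟩, 1, rfl, rfl, rfl, rfl⟩
            · obtain ⟨π, hπ⟩ := ext_even (k := 4) (by omega) ![i0 hn, i1 hn, i2 hn, i3 hn]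
                ![i0 hn, i1 hn, i3 hn, i2 hn] hi
                (by intro x y; fin_cases x <;> fin_cases y <;> simp [i0, i1, i2, Fin.ext_iff, v3])
              exact ⟨_, _, Or.inr ⟨rfl, rfl⟩, π, hπ 0, hπ 1, hπ 2, hπ 3⟩
          have := (hmm0 a b hab').map (cα α π)
          have hne : a ≠ b := by
            rcases hab' with ⟨rfl, rfl⟩ | ⟨rfl, rfl⟩ <;> simp [i1, i2, Fin.ext_iff, v3]
          have hne' : q.1 ≠ q.2 := by rw [← hπ.2.2.1, ← hπ.2.2.2]; exact (π : Perm (Fin n)).injective.ne hne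
          rwa [hfix π hπ.1 hπ.2.1, ← cα_mul, hXeq _ (pp hn q.1 q.2)
            (by rw [Subgroup.coe_mul, Perm.mul_apply, (hpp a b hne).1, (hpp _ _ hne').1, hπ.2.2.1])
            (by rw [Subgroup.coe_mul, Perm.mul_apply, (hpp a b hne).2, (hpp _ _ hne').2, hπ.2.2.2])] at this
        hdeg := hdeg.imp_right fun ⟨h2, h⟩ => ⟨h2, fun a ha => by
          rcases ha with rfl | ⟨h4, -⟩
          · obtain ⟨hA, hB'⟩ := h _ rfl
            rw [map_degA, KXw, KXw, Kbw, Kbw] at hA
            rw [map_degB, KXw, KXw, Kbw, Kbw, Kbw] at hB'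
            rw [eX]
            exact ⟨hA, hB'⟩
          · omega⟩ }
    exact ⟨P, rfl, hβ0, by show D.X (ofAdd 1) = _; rw [eX]; simp [K, xw]⟩

end CfsgLib.Presentations.SpPres
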