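import Mathlib
import Cfsg.Agent.Lib.Presentations.AltGlue
import Cfsg.Agent.Lib.Presentations.SLPrime

/-!
Alternating groups on six generators with twenty-six relations.
-/

set_option autoImplicit false

namespace CfsgLib.Presentations

/-- The generators of the two halves. -/
abbrev AltGen : Type := (Fin 2 ⊕ Unit) ⊕ (Fin 2 ⊕ Unit)

/-- Six generators and twenty-six relations. -/
theorem alt_six_gens (n : ℕ) (hn : 9 ≤ n) :
    BoundedOn (alternatingGroup (Fin n)) AltGen 26 := by
  obtain ⟨p, hp, hp5, hlt, hov⟩ : ∃ p, p.Prime ∧ 5 ≤ p ∧ p + 3 < n ∧ n + 3 ≤ 2 * (p + 3) := by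
    by_cases h9 : n = 9
    · exact ⟨5, by norm_num, le_rfl, by omega, by omega⟩
    obtain ⟨p, hp, hlo, hhi⟩ := Nat.exists_prime_lt_and_le_two_mul ((n - 4) / 2) (by omega)
    refine ⟨p, hp, ?_, by omega, by omega⟩
    by_contra h
    have h4 : p = 4 := by omega
    subst h4; norm_num at hp
  have : Fact p.Prime := ⟨hp⟩
  set d := n - (p + 3) with hd
  let S₁ : Finset (Fin n) := Finset.univ.filter fun i => i.1 < p + 3
  let S₂ : Finset (Fin n) := Finset.univ.filter fun i => d ≤ i.1
  have hS₁ : Fintype.card {x // x ∈ S₁} = p + 3 := by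
    rw [Fintype.card_coe]
    show (Finset.univ.filter fun i : Fin n => i.1 < p + 3).card = p + 3
    rw [Fin.card_filter_val_lt]
    omega
  have hS₂ : Fintype.card {x // x ∈ S₂} = p + 3 := by
    rw [Fintype.card_coe]
    show (Finset.univ.filter fun i : Fin n => d ≤ i.1).card = p + 3
    have h1 := Finset.card_filter_add_card_filter_not (s := (Finset.univ : Finset (Fin n)))
      (fun i : Fin n => i.1 < d)
    simp only [not_lt] at h1
    rw [Fin.card_filter_val_lt, Finset.card_univ, Fintype.card_fin] at h1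
    omega
  have hB := sl_prime_five p (by omega)
  refine (alt_glue_on (c₁ := ⟨d, by omega⟩) (c₂ := ⟨d + 1, by omega⟩) (c₃ := ⟨d + 2, by omega⟩)
    (a₀ := ⟨0, by omega⟩) (b₀ := ⟨n - 1, by omega⟩) S₁ S₂ ?_ ?_ ?_ ?_ ?_ ?_ ?_ ?_ ?_
    (alt_projLine_on p hp5 _ hS₁ hB) (alt_projLine_on p hp5 _ hS₂ hB))
  · ext i
    simp only [S₁, S₂, Finset.mem_union, Finset.mem_filter, Finset.mem_univ, true_and, iff_true]
    omega
  all_goals simp only [S₁, S₂, Finset.mem_filter, Finset.mem_univ, true_and, ne_eq, Fin.mk.injEq]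
  all_goals omega

end CfsgLib.Presentations
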