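/-
The four dimensional symplectic group over the field with two elements is the symmetric group on six
points; a presentation of that group.
-/
import Cfsg.Agent.Lib.Presentations.Generators
import Cfsg.Agent.Lib.Presentations.AltCarmichael
import Cfsg.Agent.Lib.Chev.CT.SpAmalgam.Basic
import Cfsg.Agent.Lib.Classical.SpBasic

set_option autoImplicit false

namespace CfsgLib.Presentations.SpSix

open CfsgLib.Chev.CT.SpAm (V Sp act act_ofLin ofLin om Sp_ext act_mul)
open Equiv
open Equiv.Perm (sign sign_swap)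

/-- The even set attached to a vector. -/
def lft (y : V (ZMod 2) 2) : Fin 6 → ZMod 2 :=
  ![y (Sum.inl 0), y (Sum.inl 0) + y (Sum.inr 0), y (Sum.inr 0),
    y (Sum.inl 1), y (Sum.inl 1) + y (Sum.inr 1), y (Sum.inr 1)]

/-- The vector attached to an even set. -/
def red (u : Fin 6 → ZMod 2) : V (ZMod 2) 2 :=
  Sum.elim ![u 0 + (u 0 + u 1 + u 2), u 3 + (u 0 + u 1 + u 2)]
    ![u 2 + (u 0 + u 1 + u 2), u 5 + (u 0 + u 1 + u 2)]

theorem red_lft : ∀ y : V (ZMod 2) 2, red (lft y) = y := by decide +kernel

theorem red_shift : ∀ (u : Fin 6 → ZMod 2) (c : ZMod 2), red (fun i => u i + c) = red u := by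
  decide +kernel

theorem lft_red : ∀ u : Fin 6 → ZMod 2, ∑ i, u i = 0 →
    lft (red u) = fun i => u i + (u 0 + u 1 + u 2) := by decide +kernel

theorem sum_lft : ∀ y : V (ZMod 2) 2, ∑ i, lft y i = 0 := by decide +kernel

theorem om_lft : ∀ x y : V (ZMod 2) 2, om x y = ∑ i, lft x i * lft y i := by decide +kernel

theorem lft_add : ∀ x y : V (ZMod 2) 2, lft (x + y) = lft x + lft y := by decide +kernel

theorem red_add : ∀ u v : Fin 6 → ZMod 2, red (u + v) = red u + red v := by decide +kernel

/-- The linear map of a permutation. -/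
def mapFun (π : Perm (Fin 6)) (y : V (ZMod 2) 2) : V (ZMod 2) 2 := red (lft y ∘ ⇑π.symm)

/-- The linear map of a permutation. -/
def permMap (π : Perm (Fin 6)) : V (ZMod 2) 2 →ₗ[ZMod 2] V (ZMod 2) 2 :=
  AddMonoidHom.toZModLinearMap 2
    { toFun := mapFun π
      map_zero' := by
        rw [mapFun, show lft 0 = 0 by decide +kernel, show (0 : Fin 6 → ZMod 2) ∘ ⇑π.symm = 0 from rfl]
        decide +kernel
      map_add' := fun x y => by
        rw [mapFun, mapFun, mapFun, lft_add, ← red_add]; rfl }

theorem permMap_apply (π : Perm (Fin 6)) (y : V (ZMod 2) 2) :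
    permMap π y = red (lft y ∘ ⇑π.symm) := rfl

theorem sum_comp (π : Perm (Fin 6)) (y : V (ZMod 2) 2) : ∑ i, (lft y ∘ ⇑π.symm) i = 0 :=
  (Equiv.sum_comp π.symm (lft y)).trans (sum_lft y)

theorem permMap_om (π : Perm (Fin 6)) (x y : V (ZMod 2) 2) :
    om (permMap π x) (permMap π y) = om x y := by
  have key : ∀ a b : Fin 6 → ZMod 2, ∑ i, a i = 0 → ∑ i, b i = 0 →
      om (red a) (red b) = ∑ i, a i * b i := by
    intro a b ha hb
    rw [om_lft, lft_red a ha, lft_red b hb]
    generalize a 0 + a 1 + a 2 = c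
    generalize b 0 + b 1 + b 2 = d
    simp only [add_mul, mul_add, Finset.sum_add_distrib, ← Finset.mul_sum, ← Finset.sum_mul, ha, hb]
    simp
    clear * -
    revert c d
    decide +kernel
  rw [permMap_apply, permMap_apply, key _ _ (sum_comp π x) (sum_comp π y), om_lft]
  exact Equiv.sum_comp π.symm (fun i => lft x i * lft y i)

/-- The homomorphism from the symmetric group. -/
def permSp : Perm (Fin 6) →* Sp (ZMod 2) 2 where
  toFun π := ofLin (permMap π) (permMap_om π)
  map_one' := Sp_ext fun y => by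
    rw [act_ofLin (permMap 1) (permMap_om 1), permMap_apply]
    exact (red_lft y).trans (CfsgLib.Chev.CT.SpAm.act_one y).symm
  map_mul' π σ := Sp_ext fun y => by
    rw [act_mul, act_ofLin (permMap π) (permMap_om π), act_ofLin (permMap σ) (permMap_om σ),
      act_ofLin (permMap (π * σ)) (permMap_om (π * σ)), permMap_apply, permMap_apply, permMap_apply,
      lft_red _ (sum_comp σ y)]
    exact (red_shift _ _).symm

theorem act_permSp (π : Perm (Fin 6)) (y : V (ZMod 2) 2) :
    act (permSp π) y = red (lft y ∘ ⇑π.symm) := act_ofLin (permMap π) (permMap_om π) y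

theorem perm_faithful : ∀ π : Perm (Fin 6),
    (∀ j : Fin 2 ⊕ Fin 2, red (lft (Pi.single j 1) ∘ ⇑π.symm) = Pi.single j 1) → π = 1 := by
  decide +kernel

theorem exists_swap : ∀ v : V (ZMod 2) 2, v ≠ 0 → ∃ i j : Fin 6, ∀ y : V (ZMod 2) 2,
    red (lft y ∘ ⇑(swap i j)) = y + (1 * CfsgLib.Chev.CT.SpAm.om v y) • v := by
  decide +kernel

theorem permSp_injective : Function.Injective permSp := by
  refine (injective_iff_map_eq_one _).2 fun π h => perm_faithful π fun j => ?_
  rw [← act_permSp, h, CfsgLib.Chev.CT.SpAm.act_one]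

theorem permSp_surjective : Function.Surjective permSp := by
  rw [← MonoidHom.range_eq_top, eq_top_iff, ← CfsgLib.Classical.spTGroup_univ,
    CfsgLib.Classical.spTGroup, Subgroup.closure_le]
  rintro _ ⟨v, -, c, rfl⟩
  by_cases h : v = 0 ∨ c = 0
  · have e : CfsgLib.Classical.spT v c = 1 := by
      refine Sp_ext fun x => ?_
      rw [CfsgLib.Chev.CT.SpAm.act_one, act, CfsgLib.Classical.spT_apply]
      rcases h with rfl | rfl <;> simp
    rw [e]; exact one_mem _
  push Not at h
  obtain ⟨i, j, hij⟩ := exists_swap v h.1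
  have hc : c = 1 := (show ∀ c : ZMod 2, c ≠ 0 → c = 1 by decide) c h.2
  refine ⟨swap i j, Sp_ext fun y => ?_⟩
  rw [act_permSp, Equiv.symm_swap, hij y, act, CfsgLib.Classical.spT_apply, hc]
  congr 3
  rw [CfsgLib.Classical.sympForm_eq]
  clear * - y v
  revert v y
  decide +kernel

/-- The isomorphism with the symmetric group. -/
noncomputable def spIso : Perm (Fin 6) ≃* Sp (ZMod 2) 2 :=
  MulEquiv.ofBijective permSp ⟨permSp_injective, permSp_surjective⟩

/-- Changing the field along a ring isomorphism. -/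
def spMap {K L : Type*} [Field K] [Field L] {n : ℕ} (e : K ≃+* L) : Sp K n ≃* Sp L n where
  toFun g := ⟨g.1.map e, by
    have h := SymplecticGroup.mem_iff.1 g.2
    rw [SymplecticGroup.mem_iff, ← Matrix.transpose_map,
      show Matrix.J (Fin n) L = (Matrix.J (Fin n) K).map e by
        simp [Matrix.J, Matrix.fromBlocks_map, Matrix.map_neg],
      ← Matrix.map_mul, ← Matrix.map_mul, h]⟩
  invFun g := ⟨g.1.map e.symm, by
    have h := SymplecticGroup.mem_iff.1 g.2
    rw [SymplecticGroup.mem_iff, ← Matrix.transpose_map,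
      show Matrix.J (Fin n) K = (Matrix.J (Fin n) L).map e.symm by
        simp [Matrix.J, Matrix.fromBlocks_map, Matrix.map_neg],
      ← Matrix.map_mul, ← Matrix.map_mul, h]⟩
  left_inv g := Subtype.ext (by ext; simp)
  right_inv g := Subtype.ext (by ext; simp)
  map_mul' g h := Subtype.ext (Matrix.map_mul (f := e.toRingHom))

open Carmichael

theorem bounded_alt_six : Bounded (alternatingGroup (Fin 6)) 10 := by
  classical
  let c₁ : Fin 6 := 0
  let c₂ : Fin 6 := 1
  have hc : c₁ ≠ c₂ := by simp [c₁, c₂]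
  refine ⟨Idx c₁ c₂, gen hc, (relSet (Idx c₁ c₂)).toList, ?_, ?_, gen_closure hc, ?_⟩
  · rw [Finset.length_toList]
    refine Finset.card_image_le.trans ?_
    show (Finset.univ.filter fun p : Idx (0 : Fin 6) 1 × Idx (0 : Fin 6) 1 => p.1 ≤ p.2).card ≤ 10
    decide +kernel
  · intro r hr
    rw [Finset.mem_toList, relSet, Finset.mem_image] at hr
    obtain ⟨⟨i, j⟩, -, rfl⟩ := hr
    have H := gen_rels hc
    split
    · simpa using H.cube i
    · rename_i hij
      simpa using H.pair i j hij
  · intro Γ _ f hf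
    refine Carmichael.exists_hom hc f ⟨fun i => ?_, fun i j hij => ?_⟩
    · have := hf (FreeGroup.of i ^ 3) (by
        rw [Finset.mem_toList, relSet, Finset.mem_image]
        exact ⟨(i, i), by simp, by simp⟩)
      simpa using this
    · rcases lt_or_gt_of_ne hij with h | h
      · have := hf ((FreeGroup.of i * FreeGroup.of j) ^ 2) (by
          rw [Finset.mem_toList, relSet, Finset.mem_image]
          exact ⟨(i, j), by simp [h.le], by simp [h.ne]⟩)
        simpa using this
      · have := hf ((FreeGroup.of j * FreeGroup.of i) ^ 2) (by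
          rw [Finset.mem_toList, relSet, Finset.mem_image]
          exact ⟨(j, i), by simp [h.le], by simp [h.ne]⟩)
        exact pair_comm' (by simpa using this)

theorem bounded_sym_six : Bounded (Perm (Fin 6)) 15 := by
  classical
  let A := alternatingGroup (Fin 6)
  let τ : Perm (Fin 6) := swap 0 1
  let g : FreeGroup Unit →* Perm (Fin 6) := FreeGroup.lift fun _ => τ
  let ia : A → FreeGroup (A ⊕ FreeGroup Unit) := fun a => FreeGroup.of (Sum.inl a)
  let tw : FreeGroup (A ⊕ FreeGroup Unit) := FreeGroup.of (Sum.inr (FreeGroup.of ()))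
  have hc : (0 : Fin 6) ≠ 1 := by decide
  let mv : A → A := fun a => ⟨τ * a * τ⁻¹, (inferInstance : A.Normal).conj_mem _ a.2 τ⟩
  let Is := (Finset.univ : Finset (Idx (0 : Fin 6) 1)).toList
  let E : List (FreeGroup (A ⊕ FreeGroup Unit)) :=
    (tw * tw) :: Is.map fun i => tw * ia (gen hc i) * tw⁻¹ * (ia (mv (gen hc i)))⁻¹
  have hτ : sign τ = -1 := sign_swap (by decide)
  have hττ : τ * τ = 1 := swap_mul_self _ _
  have hpar : ∀ π : Perm (Fin 6), π ∈ A ∨ π * τ ∈ A := fun π => by
    rcases Int.units_eq_one_or (sign π) with h | h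
    · exact Or.inl (Equiv.Perm.mem_alternatingGroup.2 h)
    · exact Or.inr (Equiv.Perm.mem_alternatingGroup.2 (by rw [map_mul, h, hτ]; rfl))
  have hgen : A.subtype.range ⊔ g.range = ⊤ := by
    refine eq_top_iff.2 fun π _ => ?_
    have ht : τ ∈ g.range := ⟨FreeGroup.of (), by simp [g]⟩
    rcases hpar π with h | h
    · exact Subgroup.mem_sup_left ⟨⟨π, h⟩, rfl⟩
    · have : π = π * τ * τ := by rw [mul_assoc, hττ, mul_one]
      rw [this]
      exact mul_mem (Subgroup.mem_sup_left ⟨⟨_, h⟩, rfl⟩) (Subgroup.mem_sup_right ht)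
  refine (Bounded.glue A.subtype g bounded_alt_six (bounded_free Unit) hgen E ?_ ?_).mono (by
    have : Is.length = 4 := by
      rw [Finset.length_toList]; decide +kernel
    simp only [E, List.length_cons, List.length_map, this]; omega)
  · intro r hr
    simp only [E, List.mem_cons, List.mem_map] at hr
    rcases hr with rfl | ⟨i, -, rfl⟩
    · simp [tw, g, hττ]
    · simp [tw, ia, g, mv]
  · intro Γ _ α β hE
    set s := β (FreeGroup.of ()) with hs
    have hs2 : s * s = 1 := by
      have := hE (tw * tw) (by simp [E])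
      simpa [tw, hs] using this
    have hconj : ∀ a, s * α a * s⁻¹ = α (mv a) := by
      let cτ : A →* A :=
        { toFun := mv
          map_one' := Subtype.ext (by simp [mv])
          map_mul' := fun a b => Subtype.ext (by simp [mv, mul_assoc]) }
      have h : (MulAut.conj s).toMonoidHom.comp α = α.comp cτ := by
        refine MonoidHom.eq_of_eqOn_dense (gen_closure hc) ?_
        rintro _ ⟨i, rfl⟩
        have := hE (tw * ia (gen hc i) * tw⁻¹ * (ia (mv (gen hc i)))⁻¹)
          (by simp only [E, List.mem_cons, List.mem_map]; exact Or.inr ⟨i, by simp [Is], rfl⟩)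
        simp only [tw, ia, map_mul, map_inv, FreeGroup.lift_apply_of, Sum.elim_inr, Sum.elim_inl,
          ← hs, mul_inv_eq_one] at this
        exact this
      exact fun a => DFunLike.congr_fun h a
    let Φ : Perm (Fin 6) → Γ := fun π => if h : π ∈ A then α ⟨π, h⟩ else
      α ⟨π * τ, (hpar π).resolve_left h⟩ * s
    have hA : ∀ a : A, Φ a = α a := fun a => by simp [Φ]
    have hAt : ∀ a : A, Φ (a * τ) = α a * s := fun a => by
      have hn : (a : Perm (Fin 6)) * τ ∉ A := fun h => by
        have h1 := Equiv.Perm.mem_alternatingGroup.1 h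
        rw [map_mul, Equiv.Perm.mem_alternatingGroup.1 a.2, hτ] at h1
        exact absurd h1 (by decide)
      simp only [Φ, dif_neg hn]
      congr 2
      apply Subtype.ext
      show (a : Perm (Fin 6)) * τ * τ = _
      rw [mul_assoc, hττ, mul_one]
    have hsplit : ∀ π : Perm (Fin 6), ∃ a : A, π = ↑a ∨ π = ↑a * τ := fun π => by
      rcases hpar π with h | h
      · exact ⟨⟨π, h⟩, Or.inl rfl⟩
      · exact ⟨⟨_, h⟩, Or.inr (by rw [mul_assoc, hττ, mul_one])⟩
    have hτi : τ⁻¹ = τ := inv_eq_of_mul_eq_one_right hττ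
    refine ⟨MonoidHom.mk' Φ fun π σ => ?_, MonoidHom.ext fun a => hA a, FreeGroup.ext_hom _ _ fun _ => ?_⟩
    · obtain ⟨a, ha⟩ := hsplit π
      obtain ⟨b, hb⟩ := hsplit σ
      have hswap : (a : Perm (Fin 6)) * τ * b = ((a * mv b : A) : Perm (Fin 6)) * τ := by
        simp only [mv, Subgroup.coe_mul, hτi, mul_assoc, hττ, mul_one]
      have hsw : s * α b = α (mv b) * s := by rw [← hconj]; group
      rcases ha with rfl | rfl <;> rcases hb with rfl | rfl
      · rw [← Subgroup.coe_mul, hA, hA, hA, map_mul]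
      · rw [← mul_assoc, ← Subgroup.coe_mul, hAt, hA, hAt, map_mul, mul_assoc]
      · rw [hswap, hAt, hAt, hA, map_mul, mul_assoc, mul_assoc, hsw]
      · rw [← mul_assoc, hswap, mul_assoc, hττ, mul_one, hA, hAt, hAt, map_mul]
        calc α a * α (mv b) = α a * (α (mv b) * s) * s := by rw [mul_assoc, mul_assoc, hs2, mul_one]
          _ = _ := by rw [← hsw]; group
    · show Φ (g (FreeGroup.of ())) = s
      have : Φ τ = s := by
        have := hAt 1
        rwa [Subgroup.coe_one, one_mul, map_one, one_mul] at this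
      simpa [g] using this

/-- Six generators for the symmetric group. -/
theorem sym_six_gens : ∃ gn : Fin 6 → Perm (Fin 6), Subgroup.closure (Set.range gn) = ⊤ := by
  refine ⟨fun i => if h : (i : ℕ) < 5 then swap ⟨i, by omega⟩ ⟨i + 1, by omega⟩ else 1, ?_⟩
  refine eq_top_iff.2 fun π _ => ?_
  have h := Equiv.Perm.mclosure_swap_castSucc_succ 5
  have hπ : π ∈ Submonoid.closure (Set.range fun i : Fin 5 => swap i.castSucc i.succ) := by
    rw [h]; trivial
  refine Submonoid.closure_le (S := (Subgroup.closure _).toSubmonoid).2 ?_ hπ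
  rintro _ ⟨i, rfl⟩
  refine Subgroup.subset_closure ⟨i.castSucc, ?_⟩
  simp only [Fin.val_castSucc, i.2, dif_pos]
  rfl

end CfsgLib.Presentations.SpSix
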